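import Groth.Agent.H05EGA4.EtCl.Lower.EtaleDvr
import Groth.Agent.H05EGA4.EtCl.Max
import Groth.Agent.H05EGA4.EtCl.SumIso
import Groth.Agent.H18Et.MuConst
import Groth.Agent.H18Et.RootCover
import Groth.Agent.S0108

/-!
# Units on the generic fibres of étale schemes over a discrete valuation ring
-/

set_option autoImplicit false
set_option linter.style.haveILetI false
set_option linter.unusedSectionVars false
set_option linter.overlappingInstances false
set_option backward.isDefEq.respectTransparency false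
set_option backward.isDefEq.respectTransparency.types false

universe u

open CategoryTheory CategoryTheory.Limits AlgebraicGeometry Opposite TensorProduct
open scoped Classical
open Groth.Agent.H18Et.MuConst (sec)

namespace Groth.Agent.H05EGA4.EtCl.Lower

open scoped Groth.Agent.H18Et

variable (R K : Type u) [CommRing R] [IsDomain R] [IsDiscreteValuationRing R] [Field K] [Algebra R K]
  [IsFractionRing R K]

/-- The generic point. -/
noncomputable abbrev jgen : Spec (CommRingCat.of K) ⟶ Spec (CommRingCat.of R) :=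
  Spec.map (CommRingCat.ofHom (algebraMap R K))

variable {R} (ϖ : R) (hϖ : Irreducible ϖ)

/-- The uniformizer as a unit of the fraction field. -/
noncomputable def pK : Kˣ :=
  if h : algebraMap R K ϖ ≠ 0 then Units.mk0 _ h else 1

include hϖ in
theorem pK_val : (pK K ϖ : K) = algebraMap R K ϖ := by
  have h : algebraMap R K ϖ ≠ 0 := fun h0 => hϖ.ne_zero
    ((map_eq_zero_iff _ (IsFractionRing.injective R K)).1 h0)
  rw [pK, dif_pos h, Units.val_mk0]

/-- The uniformizer as a section. -/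
noncomputable def πsec (V : (Spec (CommRingCat.of R)).Etale) :
    EtCoh.sect ((EtCoh.push (jgen R K)).obj (EtCoh.Gm (Spec (CommRingCat.of K)))) V :=
  sec (U := (EtCoh.bc (jgen R K)).obj V)
    (Units.map (((EtCoh.bc (jgen R K)).obj V).hom.appTop.hom.comp
      (Scheme.ΓSpecIso (CommRingCat.of K)).inv.hom).toMonoidHom (pK K ϖ))

theorem appTop_appTop {X Y Z : Scheme.{u}} (f : X ⟶ Y) (g : Y ⟶ Z) (z : Γ(Z, ⊤)) :
    f.appTop (g.appTop z) = (f ≫ g).appTop z := rfl

theorem map_πsec {V W : (Spec (CommRingCat.of R)).Etale} (g : W ⟶ V) :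
    ((EtCoh.push (jgen R K)).obj (EtCoh.Gm (Spec (CommRingCat.of K)))).obj.map g.op (πsec K ϖ V) = πsec K ϖ W := by
  refine congrArg (sec (U := (EtCoh.bc (jgen R K)).obj W)) (Units.ext ?_)
  show ((EtCoh.bc (jgen R K)).map g).left.appTop (((EtCoh.bc (jgen R K)).obj V).hom.appTop _) = _
  exact (appTop_appTop _ _ _).trans
    (congrArg (fun k : ((EtCoh.bc (jgen R K)).obj W).left ⟶ Spec (CommRingCat.of K) =>
      k.appTop ((Scheme.ΓSpecIso (CommRingCat.of K)).inv (pK K ϖ : K))) (Over.w ((EtCoh.bc (jgen R K)).map g).hom))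

section Affine

variable {A : CommRingCat.{u}} (φ : CommRingCat.of R ⟶ A)

/-- Functions restricted to the generic fibre. -/
noncomputable def ρ : A →+* Γ(pullback (Spec.map φ) (jgen R K), ⊤) :=
  (pullback.fst (Spec.map φ) (jgen R K)).appTop.hom.comp (Scheme.ΓSpecIso A).inv.hom

include hϖ in
theorem isLocalization_ρ : letI := (ρ K φ).toAlgebra
    IsLocalization (Submonoid.powers (φ.hom ϖ)) Γ(pullback (Spec.map φ) (jgen R K), ⊤) := by
  letI : Algebra R A := φ.hom.toAlgebra
  letI := (ρ K φ).toAlgebra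
  haveI := isLocalization_powers hϖ K
  have h1 : IsLocalization (Submonoid.powers (φ.hom ϖ)) (A ⊗[R] K) := by
    have h := IsLocalization.tensor (S := (A : Type u)) K (Submonoid.powers ϖ)
    rwa [Algebra.algebraMapSubmonoid_powers] at h
  let e := pullbackSpecIso R A K
  let E : (A ⊗[R] K) ≃+* Γ(pullback (Spec.map φ) (jgen R K), ⊤) :=
    ((Scheme.ΓSpecIso (CommRingCat.of (A ⊗[R] K))).symm ≪≫
      (asIso (e.hom.appTop : Γ(Spec (CommRingCat.of (A ⊗[R] K)), ⊤) ⟶
        Γ(pullback (Spec.map φ) (jgen R K), ⊤)))).commRingCatIsoToRingEquiv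
  refine IsLocalization.isLocalization_of_algEquiv _ (S := A ⊗[R] K) (AlgEquiv.ofRingEquiv (f := E) fun a => ?_)
  show e.hom.appTop ((Scheme.ΓSpecIso (CommRingCat.of (A ⊗[R] K))).inv (a ⊗ₜ (1 : K))) =
    (pullback.fst (Spec.map φ) (jgen R K)).appTop ((Scheme.ΓSpecIso A).inv a)
  rw [show pullback.fst (Spec.map φ) (jgen R K) =
    e.hom ≫ Spec.map (CommRingCat.ofHom Algebra.TensorProduct.includeLeftRingHom) from
      (pullbackSpecIso_hom_fst R A K).symm, Scheme.Hom.comp_appTop, CommRingCat.comp_apply]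
  congr 1
  exact ConcreteCategory.congr_hom
    (Scheme.ΓSpecIso_inv_naturality (CommRingCat.ofHom (Algebra.TensorProduct.includeLeftRingHom :
      (A : Type u) →+* A ⊗[R] K))) a

theorem snd_appTop_uniformizer :
    (pullback.snd (Spec.map φ) (jgen R K)).appTop ((Scheme.ΓSpecIso (CommRingCat.of K)).inv (algebraMap R K ϖ)) =
      ρ K φ (φ.hom ϖ) := by
  have h := congrArg (fun k => Scheme.Hom.appTop k ((Scheme.ΓSpecIso (CommRingCat.of R)).inv ϖ))
    (pullback.condition (f := Spec.map φ) (g := jgen R K))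
  simp only [Scheme.Hom.comp_appTop, CommRingCat.comp_apply] at h
  rw [← CommRingCat.comp_apply _ (Spec.map φ).appTop, ← Scheme.ΓSpecIso_inv_naturality,
    ← CommRingCat.comp_apply _ (jgen R K).appTop, ← Scheme.ΓSpecIso_inv_naturality] at h
  exact h.symm

end Affine

section Sections

variable {V : (Spec (CommRingCat.of R)).Etale} (v : V.left) (hv : V.hom v = IsLocalRing.closedPoint R)

include hv

/-- An affine neighbourhood as an object of the site. -/
theorem exists_chart : ∃ (A : CommRingCat.{u}) (φ : CommRingCat.of R ⟶ A) (_ : Etale (Spec.map φ))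
    (x : Spec A) (g : (Scheme.Etale.mk (Spec.map φ) : (Spec (CommRingCat.of R)).Etale) ⟶ V),
    g.left x = v ∧ x.asIdeal.comap φ.hom = IsLocalRing.maximalIdeal R := by
  haveI : Etale V.hom := V.prop
  obtain ⟨_, ⟨(O : V.left.Opens), hO, rfl⟩, hvO, -⟩ :=
    V.left.isBasis_affineOpens.exists_subset_of_mem_open (Set.mem_univ v) isOpen_univ
  replace hO : IsAffineOpen O := hO
  haveI : IsOpenImmersion hO.fromSpec := hO.isOpenImmersion_fromSpec
  obtain ⟨φ, hφ⟩ := Spec.map_surjective (hO.fromSpec ≫ V.hom)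
  haveI : Etale (Spec.map φ) := by rw [hφ]; infer_instance
  obtain ⟨x, hx⟩ : v ∈ Set.range hO.fromSpec.base := hO.range_fromSpec.ge hvO
  refine ⟨_, φ, inferInstance, x, MorphismProperty.Over.homMk hO.fromSpec hφ.symm trivial, hx, ?_⟩
  have h1 : (Spec.map φ) x = IsLocalRing.closedPoint R := by
    rw [hφ, Scheme.Hom.comp_apply]
    exact (congrArg V.hom hx).trans hv
  exact congrArg PrimeSpectrum.asIdeal h1

include hϖ

/-- **Local form of the units on the generic fibre.** -/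
theorem exists_local_form_sect (ℓ : ℕ) [Fact ℓ.Prime] (hℓ : IsUnit (ℓ : R))
    (a : EtCoh.sect ((EtCoh.push (jgen R K)).obj (EtCoh.Gm (Spec (CommRingCat.of K)))) V) :
    ∃ (W : (Spec (CommRingCat.of R)).Etale) (g : W ⟶ V) (w : W.left) (m : ℕ)
      (b : EtCoh.sect ((EtCoh.push (jgen R K)).obj (EtCoh.Gm (Spec (CommRingCat.of K)))) W),
      g.left w = v ∧ ((EtCoh.push (jgen R K)).obj (EtCoh.Gm (Spec (CommRingCat.of K)))).obj.map g.op a =
        m • πsec K ϖ W + ℓ • b := by
  let M := (EtCoh.push (jgen R K)).obj (EtCoh.Gm (Spec (CommRingCat.of K)))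
  obtain ⟨A, φ, hφ, x, g₀, hx, hP⟩ := exists_chart v hv
  haveI := hφ
  let W₀ : (Spec (CommRingCat.of R)).Etale := Scheme.Etale.mk (Spec.map φ)
  letI : Algebra R A := φ.hom.toAlgebra
  haveI : Algebra.Etale R A := (HasRingHomProperty.Spec_iff (P := @Etale)).1 hφ
  obtain ⟨a', ha'⟩ := H18Et.MuConst.sec_surjective (U := (EtCoh.bc (jgen R K)).obj W₀) (M.obj.map g₀.op a)
  letI : Algebra A Γ(pullback (Spec.map φ) (jgen R K), ⊤) := (ρ K φ).toAlgebra
  haveI : IsLocalization (Submonoid.powers (algebraMap R A ϖ)) Γ(pullback (Spec.map φ) (jgen R K), ⊤) :=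
    isLocalization_ρ K ϖ hϖ φ
  obtain ⟨f, hf, u, hu, r, N, c, hc, hcu⟩ := exists_local_form hϖ x.asIdeal hP
    (T := Γ(pullback (Spec.map φ) (jgen R K), ⊤)) a'
  -- the basic neighbourhood
  let ψ : A ⟶ CommRingCat.of (Localization.Away f) := CommRingCat.ofHom (algebraMap A (Localization.Away f))
  haveI : IsOpenImmersion (Spec.map ψ) := IsOpenImmersion.of_isLocalization f
  let W₁ : (Spec (CommRingCat.of R)).Etale := Scheme.Etale.mk (Spec.map ψ ≫ Spec.map φ)
  let g₁ : W₁ ⟶ W₀ := MorphismProperty.Over.homMk (Spec.map ψ) rfl trivial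
  obtain ⟨x₁, hx₁⟩ : x ∈ Set.range (PrimeSpectrum.comap (algebraMap A (Localization.Away f))) := by
    rw [PrimeSpectrum.localization_away_comap_range (Localization.Away f) f]
    exact hf
  have hℓA : IsUnit (ℓ : Γ(Spec (CommRingCat.of R), ⊤)) := by
    rw [← map_natCast (Scheme.ΓSpecIso (CommRingCat.of R)).inv.hom]
    exact hℓ.map _
  let uu : Γ(W₁.left, ⊤)ˣ := Units.map (Scheme.ΓSpecIso (CommRingCat.of (Localization.Away f))).inv.hom.toMonoidHom hu.unit
  haveI := S0108.result (Spec (CommRingCat.of R)) ℓ hℓA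
  haveI : Sheaf.IsLocallySurjective (EtCoh.powMap (Spec (CommRingCat.of R)) ℓ) :=
    (Sheaf.isLocallySurjective_iff_epi' _ _).2 inferInstance
  obtain ⟨W₂, g₂, w₂, ⟨b₀, hb₀⟩, hw₂⟩ := H18Et.Subterminal.exists_mem_of_cover
    (Presheaf.imageSieve_mem _ (EtCoh.powMap (Spec (CommRingCat.of R)) ℓ).hom (sec (U := W₁) uu)) (x₁ : W₁.left)
  let G := g₂ ≫ g₁
  let μ := EtLim.GmPush (jgen R K)
  -- the value of `a` on the small neighbourhood
  have key : ((N : ℤ) - r) • πsec K ϖ W₂ + M.obj.map G.op (sec (U := (EtCoh.bc (jgen R K)).obj W₀) a') =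
      μ.hom.app (op W₂) ((EtCoh.Gm _).obj.map g₂.op (sec (U := W₁) uu)) := by
    rw [sub_smul, natCast_zsmul, natCast_zsmul, sub_add_eq_add_sub, sub_eq_iff_eq_add]
    rw [← map_πsec K ϖ G, ← map_nsmul (M.obj.map G.op).hom, ← map_add (M.obj.map G.op).hom,
      ← map_nsmul (M.obj.map G.op).hom]
    rw [show M.obj.map G.op = M.obj.map g₁.op ≫ M.obj.map g₂.op by rw [← Functor.map_comp]; rfl,
      ConcreteCategory.comp_apply, ConcreteCategory.comp_apply, app_res, ← map_add (M.obj.map g₂.op).hom]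
    congr 1
    refine congrArg (sec (U := (EtCoh.bc (jgen R K)).obj W₁)) (Units.ext ?_)
    let q : pullback (Spec.map ψ ≫ Spec.map φ) (jgen R K) ⟶ pullback (Spec.map φ) (jgen R K) :=
      ((EtCoh.bc (jgen R K)).map g₁).left
    have hq : q ≫ pullback.fst (Spec.map φ) (jgen R K) = pullback.fst (Spec.map ψ ≫ Spec.map φ) (jgen R K) ≫ Spec.map ψ :=
      (EtCoh.isPullback_bc_map (jgen R K) g₁).w
    have hqρ : ∀ z : A, q.appTop (ρ K φ z) =
        (pullback.fst (Spec.map ψ ≫ Spec.map φ) (jgen R K)).appTop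
          ((Scheme.ΓSpecIso (CommRingCat.of (Localization.Away f))).inv (algebraMap A (Localization.Away f) z)) := fun z => by
      show q.appTop ((pullback.fst (Spec.map φ) (jgen R K)).appTop ((Scheme.ΓSpecIso A).inv z)) = _
      refine ((appTop_appTop _ _ _).trans (congrArg (fun k : _ ⟶ Spec A => k.appTop ((Scheme.ΓSpecIso A).inv z)) hq)).trans ?_
      refine (appTop_appTop _ _ _).symm.trans ?_
      congr 1
      exact (ConcreteCategory.congr_hom (Scheme.ΓSpecIso_inv_naturality ψ) z).symm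
    have hπ : (((EtCoh.bc (jgen R K)).obj W₀).hom.appTop ((Scheme.ΓSpecIso (CommRingCat.of K)).inv (pK K ϖ : K))) =
        ρ K φ (φ.hom ϖ) := by
      rw [pK_val K ϖ hϖ]
      exact snd_appTop_uniformizer K ϖ φ
    let aa : Γ(pullback (Spec.map φ) (jgen R K), ⊤) := a'.1
    let pp : Γ(pullback (Spec.map φ) (jgen R K), ⊤) :=
      (pullback.snd (Spec.map φ) (jgen R K)).appTop ((Scheme.ΓSpecIso (CommRingCat.of K)).inv (pK K ϖ : K))
    show q.appTop (pp ^ N * aa) = (pullback.fst (Spec.map ψ ≫ Spec.map φ) (jgen R K)).appTop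
          ((Scheme.ΓSpecIso (CommRingCat.of (Localization.Away f))).inv u) * q.appTop (pp ^ r)
    rw [show pp = ρ K φ (φ.hom ϖ) from hπ, ← map_pow (ρ K φ), ← map_pow (ρ K φ), mul_comm _ aa, show aa * ρ K φ (φ.hom ϖ ^ N) = ρ K φ c from hc.symm,
      hqρ, hqρ, map_pow, hcu]
    rw [map_mul, map_mul, mul_comm]
    rfl
  -- adjust the exponent
  let k : ℤ := (r : ℤ) - N
  obtain ⟨m, t, hk⟩ : ∃ (m : ℕ) (t : ℤ), k = m + ℓ * t :=
    ⟨(k % ℓ).toNat, k / ℓ, by
      rw [Int.toNat_of_nonneg (Int.emod_nonneg _ (by exact_mod_cast (Fact.out : ℓ.Prime).ne_zero))]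
      exact (Int.emod_add_mul_ediv k ℓ).symm⟩
  refine ⟨W₂, G ≫ g₀, w₂, m, t • πsec K ϖ W₂ + μ.hom.app (op W₂) b₀, ?_, ?_⟩
  · show g₀.left (g₁.left (g₂.left w₂)) = v
    rw [hw₂]
    exact (congrArg g₀.left hx₁).trans hx
  · rw [op_comp, Functor.map_comp, ConcreteCategory.comp_apply]
    rw [show M.obj.map g₀.op a = sec (U := (EtCoh.bc (jgen R K)).obj W₀) a' from ha'.symm]
    rw [smul_add, ← natCast_zsmul _ m, ← natCast_zsmul (t • _) ℓ, smul_smul, ← add_assoc, ← add_smul, ← hk,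
      ← map_nsmul (μ.hom.app (op W₂)).hom]
    rw [show ℓ • b₀ = (EtCoh.Gm _).obj.map g₂.op (sec (U := W₁) uu) from hb₀, ← key, sub_smul, sub_smul]
    abel

include hv in
/-- **The uniformizer is not a power.** -/
theorem nsmul_ne_πsec (ℓ : ℕ) [Fact ℓ.Prime]
    (b : EtCoh.sect ((EtCoh.push (jgen R K)).obj (EtCoh.Gm (Spec (CommRingCat.of K)))) V) :
    ℓ • b ≠ πsec K ϖ V := by
  intro hb
  let M := (EtCoh.push (jgen R K)).obj (EtCoh.Gm (Spec (CommRingCat.of K)))
  obtain ⟨A, φ, hφ, x, g₀, hx, hP⟩ := exists_chart v hv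
  haveI := hφ
  let W₀ : (Spec (CommRingCat.of R)).Etale := Scheme.Etale.mk (Spec.map φ)
  letI : Algebra R A := φ.hom.toAlgebra
  haveI : Algebra.Etale R A := (HasRingHomProperty.Spec_iff (P := @Etale)).1 hφ
  obtain ⟨b', hb'⟩ := H18Et.MuConst.sec_surjective (U := (EtCoh.bc (jgen R K)).obj W₀) (M.obj.map g₀.op b)
  letI : Algebra A Γ(pullback (Spec.map φ) (jgen R K), ⊤) := (ρ K φ).toAlgebra
  haveI : IsLocalization (Submonoid.powers (algebraMap R A ϖ)) Γ(pullback (Spec.map φ) (jgen R K), ⊤) :=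
    isLocalization_ρ K ϖ hϖ φ
  refine pow_ne_uniformizer hϖ x.asIdeal hP (T := Γ(pullback (Spec.map φ) (jgen R K), ⊤))
    (Fact.out : ℓ.Prime).one_lt b'.1 ?_
  have h1 := congrArg (M.obj.map g₀.op) hb
  rw [map_nsmul, map_πsec, ← hb', H18Et.MuConst.nsmul_sec] at h1
  have h2 := congrArg Units.val (H18Et.MuConst.sec_injective h1)
  rw [Units.val_pow_eq_pow_val] at h2
  refine h2.trans ?_
  show ((EtCoh.bc (jgen R K)).obj W₀).hom.appTop ((Scheme.ΓSpecIso (CommRingCat.of K)).inv (pK K ϖ : K)) = _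
  rw [pK_val K ϖ hϖ]
  exact snd_appTop_uniformizer K ϖ φ

end Sections

end Groth.Agent.H05EGA4.EtCl.Lower
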