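import Groth.Agent.H05EGA4.EtCl.Rone
import Groth.Agent.H05EGA4.EtCl.FieldTr

/-!
# Direct images: exactness and cohomology
-/

set_option autoImplicit false
set_option linter.style.haveILetI false
set_option linter.unusedSectionVars false
set_option linter.overlappingInstances false
set_option backward.isDefEq.respectTransparency false
set_option backward.isDefEq.respectTransparency.types false

universe u

open CategoryTheory CategoryTheory.Limits AlgebraicGeometry Opposite Abelian TopologicalSpace

namespace Groth.Agent.H05EGA4.EtCl.Lower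

open Groth.Agent.H05EGA4.EtH90
open Groth.Agent.H18Et.Subterminal (ofOpen)
open Groth.Agent.H18Et.EtaleRestrict (emap resPushAdj pullIso)
open scoped Groth.Agent.H18Et

variable {X Y : Scheme.{u}} (f : Y ⟶ X)

/-- Direct images of extensions by `G_m` stay exact on the right when the pullbacks are discrete. -/
theorem epi_push_of_shortExact_Gm (hd : ∀ V : X.Etale, DiscreteTopology ((EtCoh.bc f).obj V).left)
    {B Q : EtCoh.Ab Y} {i : EtCoh.Gm Y ⟶ B} {q : B ⟶ Q} {w : i ≫ q = 0}
    (hS : (ShortComplex.mk i q w).ShortExact) : Epi ((EtCoh.push f).map q) := by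
  refine epi_of_local _ fun V s v => ?_
  let W : Y.Etale := (EtCoh.bc f).obj V
  haveI := hd V
  haveI : Etale W.hom := W.prop
  haveI : DiscreteTopology ((𝟭 Scheme).obj W.left) := hd V
  let k : W.left ⟶ Y := W.hom
  haveI : Etale k := W.prop
  haveI : PreservesFiniteLimits (H18Et.EtaleRestrict.res k) := by
    haveI := H18Et.pull_preservesFiniteLimits k
    exact preservesFiniteLimits_of_natIso (pullIso k)
  haveI : PreservesFiniteColimits (H18Et.EtaleRestrict.res k) :=
    ⟨fun _ _ _ => (resPushAdj k).leftAdjoint_preservesColimits.preservesColimitsOfShape⟩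
  haveI : (H18Et.EtaleRestrict.res k).Additive := Functor.additive_of_preserves_binary_products _
  let S := ShortComplex.mk i q w
  let e := (EtTateRes.nonempty_res_Gm k).some
  have hS' : (ShortComplex.mk (e.inv ≫ (H18Et.EtaleRestrict.res k).map S.f) ((H18Et.EtaleRestrict.res k).map S.g)
      (by rw [Category.assoc, ← Functor.map_comp, S.zero, Functor.map_zero, comp_zero])).ShortExact :=
    ShortComplex.shortExact_of_iso (S₁ := S.map (H18Et.EtaleRestrict.res k))
      (ShortComplex.isoMk e (Iso.refl _) (Iso.refl _)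
        (show e.hom ≫ e.inv ≫ (H18Et.EtaleRestrict.res k).map S.f = (H18Et.EtaleRestrict.res k).map S.f ≫ 𝟙 _ by
          rw [Iso.hom_inv_id_assoc, Category.comp_id])
        (show 𝟙 _ ≫ (H18Et.EtaleRestrict.res k).map S.g = (H18Et.EtaleRestrict.res k).map S.g ≫ 𝟙 _ by
          rw [Category.id_comp, Category.comp_id]))
      (hS.map_of_exact (H18Et.EtaleRestrict.res k))
  let ι₀ : (emap k).obj (EtCoh.top W.left) ⟶ W :=
    MorphismProperty.Over.homMk (𝟙 W.left) rfl trivial
  let σ : W ⟶ (emap k).obj (ofOpen (⊤ : W.left.Opens)) :=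
    MorphismProperty.Over.homMk W.left.topIso.inv (by
      show W.left.topIso.inv ≫ (⊤ : W.left.Opens).ι ≫ W.hom = W.hom
      rw [← Scheme.topIso_hom, Iso.inv_hom_id_assoc]) trivial
  let t : EtCoh.sect ((H18Et.EtaleRestrict.res k).obj S.X₃) (EtCoh.top W.left) := S.X₃.obj.map ι₀.op s
  obtain ⟨r, hr⟩ := exists_lift_discrete hS' t
  refine ⟨V, 𝟙 V, v, S.X₂.obj.map σ.op r, rfl, ?_⟩
  refine Eq.trans ?_ (ConcreteCategory.congr_hom (((EtCoh.push f).obj Q).obj.map_id (op V)) s).symm
  show S.g.hom.app (op W) (S.X₂.obj.map σ.op r) = s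
  refine (EtH90.res_app S.g σ r).trans ?_
  refine (congrArg (EtH90.res S.X₃ σ) (show S.g.hom.app (op ((emap k).obj (ofOpen (⊤ : W.left.Opens)))) r =
    EtH90.res S.X₃ ((emap k).map ((EtCore.topIsTerminal W.left).from (ofOpen ⊤))) (EtH90.res S.X₃ ι₀ s) from hr)).trans ?_
  rw [EtH90.res_res, EtH90.res_res]
  have e1 : σ ≫ (emap k).map ((EtCore.topIsTerminal W.left).from (ofOpen ⊤)) ≫ ι₀ = 𝟙 W := by
    refine MorphismProperty.Over.Hom.ext ?_
    have e1 : ((EtCore.topIsTerminal W.left).from (ofOpen (⊤ : W.left.Opens))).left = (⊤ : W.left.Opens).ι :=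
      (Category.comp_id _).symm.trans (Over.w ((EtCore.topIsTerminal W.left).from (ofOpen (⊤ : W.left.Opens))).hom)
    show W.left.topIso.inv ≫ ((EtCore.topIsTerminal W.left).from (ofOpen (⊤ : W.left.Opens))).left ≫ 𝟙 _ = 𝟙 _
    rw [e1, Category.comp_id, ← Scheme.topIso_hom, Iso.inv_hom_id]
  refine (EtH90.res_congr S.X₃ e1 s).trans ?_
  exact ConcreteCategory.congr_hom (S.X₃.obj.map_id (op W)) s

/-- Cohomology of a direct image without higher direct images. -/
theorem subsingleton_H_push_of_rOne : ∀ (n : ℕ) (A : EtCoh.Ab Y), (∀ i, IsZero (rOne f (cz i A))) →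
    Subsingleton (EtCoh.H Y A (n + 1)) → Subsingleton (EtCoh.H X ((EtCoh.push f).obj A) (n + 1))
  | 0, A, _, hH => subsingleton_of_forall_eq 0 fun x => by
    haveI := H18Et.pull_preservesFiniteLimits f
    obtain ⟨m, rfl, hm⟩ := EtTors.exists_nsmul_H_push_one f A (· = 1)
      (fun y => ⟨1, rfl, by rw [one_smul]; exact hH.elim y 0⟩) x
    rwa [one_smul] at hm
  | n + 1, A, hR, hH => subsingleton_of_forall_eq 0 fun x => by
    haveI := H18Et.pull_preservesFiniteLimits f
    haveI := EtTors.injective_push f (Injective.under A)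
    obtain ⟨y, hy⟩ := Ext.covariant_sequence_exact₁ _ (shortExact_push f A (hR 0)) x (Ext.eq_zero_of_injective _) rfl
    have hQ : Subsingleton (EtCoh.H Y (cokernel (Injective.ι A)) (n + 1)) := subsingleton_of_forall_eq 0 fun z => by
      obtain ⟨w, hw⟩ := Ext.covariant_sequence_exact₃ _ (shortExact_cz A) z rfl (hH.elim _ _)
      rw [← hw, Ext.eq_zero_of_injective w, Ext.zero_comp]
    haveI := subsingleton_H_push_of_rOne n (cokernel (Injective.ι A)) (fun i => hR (i + 1)) hQ
    rw [← hy, Subsingleton.elim (α := EtCoh.H X ((EtCoh.push f).obj (cokernel (Injective.ι A))) (n + 1)) y 0,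
      Ext.zero_comp]

/-- Sections killed by the cokernel map come locally from the source. -/
theorem exists_local_preimage {A B : EtCoh.Ab X} (φ : A ⟶ B) {V : X.Etale} (v : V.left) (s : EtCoh.sect B V)
    (h : (cokernel.π φ).hom.app (op V) s = 0) :
    ∃ (W : X.Etale) (g : W ⟶ V) (w : W.left) (a : EtCoh.sect A W), g.left w = v ∧
      φ.hom.app (op W) a = B.obj.map g.op s := by
  let G := (sheafSections X.smallEtaleTopology AddCommGrpCat.{u + 1}).obj (op V)
  haveI : PreservesFiniteLimits G := comp_preservesFiniteLimits (sheafToPresheaf _ _) ((evaluation _ _).obj (op V))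
  haveI : G.Additive := Functor.additive_of_preserves_binary_products _
  let S := ShortComplex.mk (Abelian.image.ι φ) (cokernel.π φ) (kernel.condition _)
  have hex : (S.map G).Exact :=
    (ShortComplex.exact_of_f_is_kernel S (kernelIsKernel (cokernel.π φ))).map_of_mono_of_preservesKernel G
      (inferInstanceAs (Mono (Abelian.image.ι φ))) inferInstance
  obtain ⟨t, ht⟩ := (ShortComplex.ab_exact_iff _).1 hex s h
  haveI : Sheaf.IsLocallySurjective (Abelian.factorThruImage φ) :=
    (Sheaf.isLocallySurjective_iff_epi' _ _).2 inferInstance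
  obtain ⟨W, g, w, ⟨a, ha⟩, hw⟩ := H18Et.Subterminal.exists_mem_of_cover
    (Presheaf.imageSieve_mem _ (Abelian.factorThruImage φ).hom t) v
  refine ⟨W, g, w, a, hw, ?_⟩
  calc φ.hom.app (op W) a = (Abelian.image.ι φ).hom.app (op W) ((Abelian.factorThruImage φ).hom.app (op W) a) := by
        rw [← ConcreteCategory.comp_apply, ← NatTrans.comp_app, ← ObjectProperty.FullSubcategory.comp_hom,
          Abelian.image.fac]
    _ = _ := by
        rw [ha]
        exact (app_res (Abelian.image.ι φ) g t).trans (congrArg (fun z => B.obj.map g.op z) ht)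

/-- Direct images are left exact on sections. -/
theorem exists_push_preimage {S : ShortComplex (EtCoh.Ab Y)} (hS : S.ShortExact) {V : X.Etale}
    (x : EtCoh.sect ((EtCoh.push f).obj S.X₂) V) (hx : ((EtCoh.push f).map S.g).hom.app (op V) x = 0) :
    ∃ b : EtCoh.sect ((EtCoh.push f).obj S.X₁) V, ((EtCoh.push f).map S.f).hom.app (op V) b = x := by
  haveI := H18Et.pull_preservesFiniteLimits f
  haveI := EtTors.preservesFiniteLimits_push f
  haveI := hS.mono_f
  let G := EtCoh.push f ⋙ (sheafSections X.smallEtaleTopology AddCommGrpCat.{u + 1}).obj (op V)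
  haveI : PreservesFiniteLimits ((sheafSections X.smallEtaleTopology AddCommGrpCat.{u + 1}).obj (op V)) :=
    comp_preservesFiniteLimits (sheafToPresheaf _ _) ((evaluation _ _).obj (op V))
  haveI : PreservesFiniteLimits G := comp_preservesFiniteLimits _ _
  haveI : G.Additive := Functor.additive_of_preserves_binary_products _
  exact (ShortComplex.ab_exact_iff _).1 (hS.exact.map_of_mono_of_preservesKernel G inferInstance inferInstance) x hx

end Groth.Agent.H05EGA4.EtCl.Lower
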