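import Groth.Agent.H05EGA4.EtCl.DvrTame
import Groth.Agent.H05EGA4.EtCl.PointsCd
import Groth.Agent.H05EGA4.EtCl.Lower.DvrUnits
import Groth.Agent.H05EGA4.EtCl.Lower.PushLemmas
import Groth.Agent.S9262
import Groth.Agent.S0540
import Groth.Agent.H9Hens.BranchNormal

/-!
# Higher direct images from the generic point of a discrete valuation ring
-/

set_option autoImplicit false
set_option linter.style.haveILetI false
set_option linter.unusedSectionVars false
set_option linter.overlappingInstances false
set_option backward.isDefEq.respectTransparency false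
set_option backward.isDefEq.respectTransparency.types false

universe u

open CategoryTheory CategoryTheory.Limits AlgebraicGeometry Opposite Abelian
open scoped Classical

namespace Groth.Agent.H05EGA4.EtCl.Lower

open scoped Groth.Agent.H18Et

/-- Strict henselizations of discrete valuation rings and of fields. -/
theorem strictHens_cases (A : Type u) [CommRing A] [IsLocalRing A] [IsNoetherianRing A]
    (hA : IsField A ∨ ∃ _ : IsDomain A, IsDiscreteValuationRing A) (T : Type u) [CommRing T] [IsLocalRing T]
    [Algebra A T] [IsLocalHom (algebraMap A T)] [Hensel.IsStrictHenselization A T] :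
    (IsField A ∧ IsField T) ∨
      ((∃ _ : IsDomain A, IsDiscreteValuationRing A) ∧ ∃ _ : IsDomain T, IsDiscreteValuationRing T) := by
  obtain ⟨k, _, _, _, _, _, π', hπ'⟩ := H9Hens.exists_isPtColim_of_isStrictHenselization (R := A) T
  haveI := hπ'.isNoetherianRing H9Hens.ker_algebraMap_of_tower
  rcases hA with hA | hA
  · refine Or.inl ⟨hA, IsLocalRing.isField_iff_maximalIdeal_eq.2 ?_⟩
    rw [← hπ'.map_maximalIdeal H9Hens.ker_algebraMap_of_tower, IsLocalRing.isField_iff_maximalIdeal_eq.1 hA,
      Ideal.map_bot]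
  · refine Or.inr ⟨hA, (S9262.isDVR_iff T).2 ?_⟩
    obtain ⟨h1, h2⟩ := (S9262.isDVR_iff A).1 hA
    haveI := hπ'.faithfullyFlat H9Hens.ker_algebraMap_of_tower
    exact ⟨(H9Hens.isRegularLocalRing_iff_of_map_maximalIdeal A T
      (hπ'.map_maximalIdeal H9Hens.ker_algebraMap_of_tower)).1 h1,
      (hπ'.ringKrullDim_eq H9Hens.ker_algebraMap_of_tower).trans h2⟩

variable (R K : Type u) [CommRing R] [IsDomain R] [IsDiscreteValuationRing R] [Field K] [Algebra R K]
  [IsFractionRing R K]

theorem isOpenImmersion_jgen : IsOpenImmersion (jgen R K) := by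
  obtain ⟨ϖ, hϖ⟩ := IsDiscreteValuationRing.exists_irreducible R
  haveI : IsLocalization.Away ϖ K := isLocalization_powers hϖ K
  exact IsOpenImmersion.of_isLocalization ϖ

theorem jgen_apply (x : Spec (CommRingCat.of K)) : (jgen R K) x = (⟨⊥, Ideal.isPrime_bot⟩ : PrimeSpectrum R) := by
  refine PrimeSpectrum.ext ?_
  show x.asIdeal.comap (algebraMap R K) = ⊥
  rw [(Ideal.eq_bot_or_top x.asIdeal).resolve_right x.isPrime.ne_top, ← RingHom.ker_eq_comap_bot]
  exact (RingHom.injective_iff_ker_eq_bot _).1 (IsFractionRing.injective R K)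

/-- The local rings of the spectrum are fields or discrete valuation rings. -/
theorem stalk_cases (s : Spec (CommRingCat.of R)) :
    (s.asIdeal = ⊥ ∧ IsField ((Spec (CommRingCat.of R)).presheaf.stalk s)) ∨
      (s = IsLocalRing.closedPoint R ∧
        ∃ _ : IsDomain ((Spec (CommRingCat.of R)).presheaf.stalk s),
          IsDiscreteValuationRing ((Spec (CommRingCat.of R)).presheaf.stalk s)) := by
  let L := (Spec.structureSheaf R).presheaf.stalk s
  by_cases hs : s.asIdeal = ⊥
  · refine Or.inl ⟨hs, ?_⟩
    let e : Localization.AtPrime s.asIdeal ≃ₐ[R] L := IsLocalization.algEquiv s.asIdeal.primeCompl _ _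
    haveI : IsFractionRing R (Localization.AtPrime s.asIdeal) := by
      have h1 : s.asIdeal.primeCompl = nonZeroDivisors R := by
        ext a
        rw [mem_nonZeroDivisors_iff_ne_zero, Ideal.mem_primeCompl_iff, hs, Ideal.mem_bot]
      show IsLocalization _ _
      rw [← h1]
      infer_instance
    exact MulEquiv.isField ((IsFractionRing.toField R (K := Localization.AtPrime s.asIdeal)).toIsField)
      e.symm.toRingEquiv.toMulEquiv
  · have hmax : s.asIdeal = IsLocalRing.maximalIdeal R := by
      haveI := s.isPrime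
      exact IsLocalRing.eq_maximalIdeal (IsPrime.to_maximal_ideal hs)
    refine Or.inr ⟨PrimeSpectrum.ext hmax, ?_⟩
    have hu : s.asIdeal.primeCompl ≤ IsUnit.submonoid R := fun a ha => by
      by_contra h
      exact ha (hmax ▸ h)
    let e : R ≃ₐ[R] L := IsLocalization.atUnits R s.asIdeal.primeCompl hu
    haveI : IsDomain L := e.symm.toMulEquiv.isDomain R
    have h := IsDiscreteValuationRing.RingEquivClass.isDiscreteValuationRing (B := L) e.toRingEquiv
    exact ⟨this, h⟩

variable {R K}

/-- The higher direct images from the generic point of primary sheaves vanish above degree one. -/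
theorem notMem_supp_rOne_jgen_of [QuasiCompact (jgen R K)] {ℓ : ℕ} [Fact ℓ.Prime]
    (hloc : ∀ (T : Type u) [CommRing T] [IsDomain T] [IsDiscreteValuationRing T] [HenselianLocalRing T]
      [IsSepClosed (IsLocalRing.ResidueField T)]
      [Algebra ((Spec (CommRingCat.of R)).presheaf.stalk (IsLocalRing.closedPoint R)) T]
      [IsLocalHom (algebraMap ((Spec (CommRingCat.of R)).presheaf.stalk (IsLocalRing.closedPoint R)) T)]
      [Hensel.IsStrictHenselization ((Spec (CommRingCat.of R)).presheaf.stalk (IsLocalRing.closedPoint R)) T],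
      Dix.CohDimLEAt (Spec (CommRingCat.of (FractionRing T))) ℓ 1)
    (G : EtCoh.Ab (Spec (CommRingCat.of K))) (hG : Dix.IsPrimaryTorsion ℓ G) (n : ℕ)
    (s : Spec (CommRingCat.of R)) (hn : s.asIdeal = ⊥ ∨ 1 ≤ n) :
    s ∉ EtPBC.supp (rOne (jgen R K) (cz n G)) := by
  intro hs
  haveI := isOpenImmersion_jgen R K
  obtain ⟨T, _, _, _, _, _, hsc⟩ := exists_strictHens ((Spec (CommRingCat.of R)).presheaf.stalk s)
  haveI := hsc
  refine notMem_supp_of_stalk (rOne (jgen R K) (cz n G)) (Hens2.geomPt _ s T)
    (subsingleton_of_forall_eq 0 fun p => ?_) (by rw [hensGeomPt_base]; exact hs)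
  obtain ⟨w, hw⟩ := exists_H_of_stalk (jgen R K) s T n G p
  haveI : IsNoetherianRing T := (S0540.result ((Spec (CommRingCat.of R)).presheaf.stalk s) T).1 inferInstance
  let Z := pullback (jgen R K) (Hens2.specOf (Spec (CommRingCat.of R)) s T)
  let g := pullback.snd (jgen R K) (Hens2.specOf (Spec (CommRingCat.of R)) s T)
  haveI : IsLocallyNoetherian Z := LocallyOfFiniteType.isLocallyNoetherian g
  haveI : CompactSpace Z := QuasiCompact.compactSpace_of_compactSpace g
  haveI : AlgebraicGeometry.IsNoetherian Z := {}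
  haveI := (inferInstance : Hensel.IsStrictHenselization ((Spec (CommRingCat.of R)).presheaf.stalk s) T).henselian
  have hcases := strictHens_cases _ ((stalk_cases R s).imp And.right And.right) T
  have hdom : IsDomain T := by
    rcases hcases with ⟨-, hT⟩ | ⟨-, hT, -⟩
    · exact hT.isDomain
    · exact hT
  haveI := hdom
  -- all points of the fibre lie over the zero ideal
  have hbot : ∀ z : Z, (g z).asIdeal = ⊥ := fun z => by
    rcases hcases with ⟨-, hT⟩ | ⟨⟨_, _⟩, _, _⟩
    · letI := hT.toField
      exact (Ideal.eq_bot_or_top (g z).asIdeal).resolve_right (g z).isPrime.ne_top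
    · by_contra hne
      haveI := (g z).isPrime
      have hmax := IsLocalRing.eq_maximalIdeal (IsPrime.to_maximal_ideal hne)
      have h1 : (Hens2.specOf (Spec (CommRingCat.of R)) s T) (g z) = s := by
        rw [show g z = IsLocalRing.closedPoint T from PrimeSpectrum.ext hmax]
        exact H15Site.SpecArrows.specOf_closedPoint
      have h2 : (Hens2.specOf (Spec (CommRingCat.of R)) s T) (g z) = (⟨⊥, Ideal.isPrime_bot⟩ : PrimeSpectrum R) := by
        rw [← Scheme.Hom.comp_apply, ← pullback.condition, Scheme.Hom.comp_apply]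
        exact jgen_apply R K _
      rcases stalk_cases R s with ⟨-, hf⟩ | ⟨hc, -⟩
      · exact IsDiscreteValuationRing.not_isField _ hf
      · have h3 := congrArg PrimeSpectrum.asIdeal ((h1.symm.trans h2).symm.trans hc)
        exact IsDiscreteValuationRing.not_a_field R h3.symm
  haveI : Subsingleton Z := ⟨fun a b => g.isEmbedding.injective
    (PrimeSpectrum.ext ((hbot a).trans (hbot b).symm))⟩
  -- the bound
  let d : ℕ := if s.asIdeal = ⊥ then 0 else 1
  have hd : d < n + 1 := by
    show (if s.asIdeal = ⊥ then 0 else 1) < n + 1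
    split_ifs with h
    · omega
    · exact Nat.lt_succ_of_le (hn.resolve_left h)
  have hcd : ∀ z : Z, Dix.CohDimLEAt (Spec (Z.residueField z)) ℓ d := fun z => by
    let L := FractionRing (T ⧸ (g z).asIdeal)
    let e₁ : CommRingCat.of (g z).asIdeal.ResidueField ≅ Z.residueField z :=
      (Scheme.Spec.residueFieldIso (CommRingCat.of T) (g z)).symm ≪≫
        (RingEquiv.ofBijective (g.residueFieldMap z).hom (bijective_residueFieldMap g z)).toCommRingCatIso
    let e₂ : L ≃+* (g z).asIdeal.ResidueField :=
      (IsLocalization.algEquiv (nonZeroDivisors (T ⧸ (g z).asIdeal)) _ _).toRingEquiv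
    let e₃ : FractionRing T ≃+* L := IsFractionRing.ringEquivOfRingEquiv
      ((RingEquiv.quotientBot T).symm.trans (Ideal.quotEquivOfEq (hbot z).symm))
    refine cohDimLEAt_of_iso (Spec.map ((e₃.trans e₂).toCommRingCatIso ≪≫ e₁).hom) ?_
    rcases hcases with ⟨-, hT⟩ | ⟨⟨_, _⟩, _, _⟩
    · letI := hT.toField
      haveI : IsSepClosed T := by
        let eR : T ≃+* IsLocalRing.ResidueField T := RingEquiv.ofBijective (IsLocalRing.residue T)
          ⟨(IsLocalRing.residue T).injective, IsLocalRing.residue_surjective⟩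
        exact H9Hens.isSepClosed_of_ringEquiv eR.symm
      haveI : IsSepClosed (FractionRing T) := H9Hens.isSepClosed_of_ringEquiv
        ((IsLocalization.atUnits T (nonZeroDivisors T) (S := FractionRing T)
          fun a ha => (nonZeroDivisors.ne_zero ha).isUnit).toRingEquiv)
      intro F _ q hq
      obtain ⟨r, rfl⟩ := Nat.exists_eq_add_of_le' (Nat.one_le_of_lt hq)
      exact subsingleton_H_over_sepClosed (FractionRing T) (FractionRing T) F r
    · rw [show d = 1 from if_neg fun h => (stalk_cases R s).elim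
        (fun h' => IsDiscreteValuationRing.not_isField _ h'.2)
        (fun h' => IsDiscreteValuationRing.not_a_field R ((congrArg PrimeSpectrum.asIdeal h'.1).symm.trans h))]
      obtain rfl : s = IsLocalRing.closedPoint R := (stalk_cases R s).elim
        (fun h' => absurd h'.2 (IsDiscreteValuationRing.not_isField _)) And.left
      exact hloc T
  haveI := subsingleton_H_points (fun z => by
    rw [show ({z} : Set Z) = Set.univ from Set.eq_univ_of_forall fun a => Subsingleton.elim a z]
    exact isClosed_univ) d hcd _ (isPrimaryTorsion_pull (pullback.fst (jgen R K) (Hens2.specOf _ s T)) hG)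
    (n + 1) hd
  have := hw 1 (Subsingleton.elim _ _)
  rwa [one_smul] at this

/-- The higher direct images vanish above degree one when `ℓ` is invertible. -/
theorem notMem_supp_rOne_jgen [QuasiCompact (jgen R K)] {ℓ : ℕ} [Fact ℓ.Prime] (hℓ : IsUnit (ℓ : R))
    (G : EtCoh.Ab (Spec (CommRingCat.of K))) (hG : Dix.IsPrimaryTorsion ℓ G) (n : ℕ)
    (s : Spec (CommRingCat.of R)) (hn : s.asIdeal = ⊥ ∨ 1 ≤ n) :
    s ∉ EtPBC.supp (rOne (jgen R K) (cz n G)) := by
  refine notMem_supp_rOne_jgen_of (fun T _ _ _ _ _ _ _ _ => Tame.cohDimLEAt_one T (FractionRing T) ℓ ?_) G hG n s hn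
  rw [← map_natCast ((algebraMap ((Spec (CommRingCat.of R)).presheaf.stalk (IsLocalRing.closedPoint R)) T).comp
    (((Spec (CommRingCat.of R)).presheaf.germ ⊤ (IsLocalRing.closedPoint R) trivial).hom.comp
      (Scheme.ΓSpecIso (CommRingCat.of R)).inv.hom))]
  exact hℓ.map _

/-- The higher direct images vanish. -/
theorem isZero_rOne_jgen [QuasiCompact (jgen R K)] {ℓ : ℕ} [Fact ℓ.Prime] (hℓ : IsUnit (ℓ : R))
    (G : EtCoh.Ab (Spec (CommRingCat.of K))) (hG : Dix.IsPrimaryTorsion ℓ G) (i : ℕ) :
    IsZero (rOne (jgen R K) (cz (i + 1) G)) :=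
  H18Et.Cons.isZero_of_supp_eq_empty _ fun s =>
    notMem_supp_rOne_jgen hℓ G hG (i + 1) s (Or.inr (Nat.le_add_left 1 i))

/-- Sections of the first direct image die near the generic point. -/
theorem exists_map_eq_zero_jgen [QuasiCompact (jgen R K)] {ℓ : ℕ} [Fact ℓ.Prime] (hℓ : IsUnit (ℓ : R))
    (G : EtCoh.Ab (Spec (CommRingCat.of K))) (hG : Dix.IsPrimaryTorsion ℓ G)
    {V : (Spec (CommRingCat.of R)).Etale} (v : V.left) (hv : V.hom v ≠ IsLocalRing.closedPoint R)
    (c : EtCoh.sect (rOne (jgen R K) G) V) :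
    ∃ (W : (Spec (CommRingCat.of R)).Etale) (g : W ⟶ V) (w : W.left), g.left w = v ∧
      (rOne (jgen R K) G).obj.map g.op c = 0 := by
  have h0 : (V.hom v).asIdeal = ⊥ := ((stalk_cases R (V.hom v)).resolve_right fun h => hv h.1).1
  have h1 := notMem_supp_rOne_jgen hℓ G hG 0 (V.hom v) (Or.inl h0)
  by_contra hcon
  push Not at hcon
  refine h1 ((H18Et.mem_supp_iff _ _ (H18Et.geomPt (V.hom v)) (H18Et.geomPt_base _)).2 ⟨V, v, c, rfl, ?_⟩)
  rintro W g ⟨w, hw⟩
  exact hcon W g w hw

end Groth.Agent.H05EGA4.EtCl.Lower
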