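import Groth.Agent.H05EGA4.EtCl.TrdegCdFun
import Groth.Agent.H05EGA4.EtCl.Lower.GenericStalk

/-!
# Fields over strictly henselian local domains

If a henselian local domain `D` with separably closed residue field is algebraic over a localization
`S_q` of a domain of finite transcendence degree over a field, or over a discrete valuation ring, then the
cohomological dimension of `Frac D` is bounded by the dimension formula.
-/

set_option autoImplicit false
set_option linter.style.haveILetI false
set_option linter.unusedSectionVars false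
set_option linter.overlappingInstances false
set_option backward.isDefEq.respectTransparency false
set_option backward.isDefEq.respectTransparency.types false

universe u

open CategoryTheory CategoryTheory.Limits AlgebraicGeometry Opposite
open scoped Classical

namespace Groth.Agent.H05EGA4.EtCl.Lower

open scoped Groth.Agent.H18Et

variable {W D : Type u} [CommRing W] [IsDomain W] [CommRing D] [IsDomain D] [HenselianLocalRing D]
  [IsSepClosed (IsLocalRing.ResidueField D)] [Algebra W D]
  (L : Type u) [Field L] [Algebra D L] [IsFractionRing D L] [Algebra W L] [IsScalarTower W D L]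
  {ℓ : ℕ} [hℓ : Fact ℓ.Prime]

/-- Bound through a subfield. -/
theorem cohDimLEAt_of_subfield (F : Type u) [Field F] [Algebra F L] [Algebra W F] [IsScalarTower W F L]
    [FaithfulSMul W F] {e : ℕ} (he : Dix.CohDimLEAt (Spec (CommRingCat.of F)) ℓ e) {a b : ℕ}
    (hL : Algebra.trdeg W L = a) (hF : (b : Cardinal.{u}) ≤ Algebra.trdeg W F) :
    Dix.CohDimLEAt (Spec (CommRingCat.of L)) ℓ (e + (a - b)) := by
  have hsum := trdeg_add_eq W F (A := L)
  rw [hL] at hsum
  have hfin : Algebra.trdeg F L < Cardinal.aleph0 :=
    lt_of_le_of_lt (hsum ▸ le_add_self) Cardinal.natCast_lt_aleph0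
  obtain ⟨c, hc⟩ := Cardinal.lt_aleph0.1 hfin
  have hfin' : Algebra.trdeg W F < Cardinal.aleph0 :=
    lt_of_le_of_lt (hsum ▸ le_self_add) Cardinal.natCast_lt_aleph0
  obtain ⟨b', hb'⟩ := Cardinal.lt_aleph0.1 hfin'
  rw [hb'] at hF
  rw [hb', hc] at hsum
  have h1 : b ≤ b' := by exact_mod_cast hF
  have h2 : b' + c = a := by exact_mod_cast hsum
  intro G hG q hq
  exact cohDimLEAt_trdeg hℓ.out F L c hc.le he G hG q (by omega)

/-- **Field at the bottom.** -/
theorem cohDimLEAt_over_field (hinj : Function.Injective (algebraMap W D)) {b : ℕ} (y : Fin b → D)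
    (hy : ∀ p : MvPolynomial (Fin b) W, p ≠ 0 → IsUnit (MvPolynomial.aeval y p)) {a : ℕ}
    (hL : Algebra.trdeg W L = a) : Dix.CohDimLEAt (Spec (CommRingCat.of L)) ℓ (a - b) := by
  let K := FractionRing (MvPolynomial (Fin b) W)
  let φ : K →+* D := IsLocalization.lift (M := nonZeroDivisors (MvPolynomial (Fin b) W))
    (g := (MvPolynomial.aeval y).toRingHom) fun q => hy q.1 (nonZeroDivisors.ne_zero q.2)
  obtain ⟨R', _, _, hsc, halg, g, hg⟩ := exists_hom_strictHens φ
  letI : Algebra R' L := ((algebraMap D L).comp g).toAlgebra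
  letI : Algebra W R' := ((algebraMap K R').comp (algebraMap W K)).toAlgebra
  haveI : IsScalarTower W K R' := IsScalarTower.of_algebraMap_eq' rfl
  haveI : FaithfulSMul W R' := (faithfulSMul_iff_algebraMap_injective W R').2
    ((algebraMap K R').injective.comp (FaithfulSMul.algebraMap_injective W K))
  haveI : IsScalarTower W R' L := IsScalarTower.of_algebraMap_eq fun c => by
    show algebraMap W L c = algebraMap D L (g (algebraMap K R' (algebraMap W K c)))
    rw [← RingHom.comp_apply g, hg, IsScalarTower.algebraMap_apply W (MvPolynomial (Fin b) W) K,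
      IsLocalization.lift_eq]
    show _ = algebraMap D L (MvPolynomial.aeval y (algebraMap W (MvPolynomial (Fin b) W) c))
    rw [AlgHom.commutes, ← IsScalarTower.algebraMap_apply]
  have h0 : Dix.CohDimLEAt (Spec (CommRingCat.of R')) ℓ 0 := fun F _ q hq => by
    obtain ⟨i, rfl⟩ := Nat.exists_eq_add_of_le' hq
    haveI := hsc
    exact subsingleton_H_over_sepClosed R' R' F i
  have hb : (b : Cardinal.{u}) ≤ Algebra.trdeg W R' := by
    have h1 : Algebra.trdeg W (MvPolynomial (Fin b) W) = b := by
      rw [MvPolynomial.trdeg_of_isDomain, Cardinal.mk_fin, Cardinal.lift_natCast]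
    rw [← h1]
    exact trdeg_le_of_injective ((IsScalarTower.toAlgHom W K R').comp
      (IsScalarTower.toAlgHom W (MvPolynomial (Fin b) W) K))
      ((algebraMap K R').injective.comp (IsFractionRing.injective _ _))
  have := cohDimLEAt_of_subfield L R' h0 hL hb
  rwa [zero_add] at this

/-- **A discrete valuation ring at the bottom.** -/
theorem cohDimLEAt_over_dvr [IsDiscreteValuationRing W] (hinj : Function.Injective (algebraMap W D))
    (hloc : IsLocalHom (algebraMap W D)) (hℓW : IsUnit (ℓ : W)) {b : ℕ} (y : Fin b → D)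
    (hy : ∀ p : MvPolynomial (Fin b) W, p.map (IsLocalRing.residue W) ≠ 0 → IsUnit (MvPolynomial.aeval y p))
    (hind : Function.Injective (MvPolynomial.aeval (R := W) y)) {a : ℕ}
    (hL : Algebra.trdeg W L = a) : Dix.CohDimLEAt (Spec (CommRingCat.of L)) ℓ (1 + (a - b)) := by
  let P₀ : Ideal (MvPolynomial (Fin b) W) := RingHom.ker (MvPolynomial.map (IsLocalRing.residue W))
  haveI hP₀ : P₀.IsPrime := RingHom.ker_isPrime _
  let A := Localization.AtPrime P₀
  haveI : IsNoetherianRing A := IsLocalization.isNoetherianRing P₀.primeCompl A inferInstance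
  haveI : IsDomain A := IsLocalization.isDomain_localization P₀.primeCompl_le_nonZeroDivisors
  obtain ⟨ϖ, hϖ⟩ := IsDiscreteValuationRing.exists_irreducible W
  haveI hA : IsDiscreteValuationRing A := by
    have hmax : IsLocalRing.maximalIdeal A =
        Ideal.span {algebraMap (MvPolynomial (Fin b) W) A (MvPolynomial.C ϖ)} := by
      have he : P₀ = Ideal.span {MvPolynomial.C ϖ} := by
        rw [show P₀ = (RingHom.ker (IsLocalRing.residue W)).map MvPolynomial.C from MvPolynomial.ker_map _,
          IsLocalRing.ker_residue, hϖ.maximalIdeal_eq, Ideal.map_span, Set.image_singleton]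
      rw [← Localization.AtPrime.map_eq_maximalIdeal]
      refine (congrArg (Ideal.map (algebraMap (MvPolynomial (Fin b) W) A)) he).trans ?_
      rw [Ideal.map_span, Set.image_singleton]
    have hnf : ¬ IsField A := fun hf => by
      rw [IsLocalRing.isField_iff_maximalIdeal_eq, hmax, Ideal.span_singleton_eq_bot] at hf
      exact hϖ.ne_zero (MvPolynomial.C_eq_zero.1
        (IsLocalization.injective A P₀.primeCompl_le_nonZeroDivisors (hf.trans (map_zero _).symm)))
    have h1 : IsDiscreteValuationRing A ↔ (IsLocalRing.maximalIdeal A).IsPrincipal :=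
      (IsDiscreteValuationRing.TFAE A hnf).out 0 4
    exact h1.2 ⟨⟨_, hmax⟩⟩
  let φ : A →+* D := IsLocalization.lift (M := P₀.primeCompl) (g := (MvPolynomial.aeval y).toRingHom)
    fun q => hy q.1 q.2
  have hφ : Function.Injective φ := (IsLocalization.lift_injective_iff (g := (MvPolynomial.aeval y).toRingHom) _).2
    fun p q => ⟨fun h => congrArg _ (IsLocalization.injective A P₀.primeCompl_le_nonZeroDivisors h),
      fun h => congrArg _ (hind h)⟩
  haveI : IsLocalHom φ := ⟨fun x hx => by
    by_contra hu
    obtain ⟨p, q, rfl⟩ := IsLocalization.exists_mk'_eq P₀.primeCompl x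
    have hp : p ∈ P₀ := (IsLocalization.AtPrime.mk'_mem_maximal_iff A P₀ p q).1 hu
    rw [show P₀ = (RingHom.ker (IsLocalRing.residue W)).map MvPolynomial.C from MvPolynomial.ker_map _,
      IsLocalRing.ker_residue, hϖ.maximalIdeal_eq, Ideal.map_span, Set.image_singleton,
      Ideal.mem_span_singleton'] at hp
    obtain ⟨r, rfl⟩ := hp
    have hw : φ (algebraMap _ A (r * MvPolynomial.C ϖ)) ∈ IsLocalRing.maximalIdeal D := by
      rw [IsLocalization.lift_eq]
      show MvPolynomial.aeval y (r * MvPolynomial.C ϖ) ∈ _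
      rw [map_mul, MvPolynomial.aeval_C]
      exact Ideal.mul_mem_left _ _ fun h => hϖ.not_isUnit ((isUnit_map_iff (algebraMap W D) ϖ).1 h)
    rw [← IsLocalization.mk'_spec' A (r * MvPolynomial.C ϖ) q, map_mul] at hw
    exact hw (IsUnit.mul (by rw [IsLocalization.lift_eq]; exact hy q.1 q.2) hx)⟩
  obtain ⟨T, _, _, _, _, hT, hsc⟩ := exists_strictHens A
  haveI := hT
  haveI := hsc
  haveI := hT.henselian
  letI : Algebra (IsLocalRing.ResidueField A) (IsLocalRing.ResidueField D) :=
    (IsLocalRing.ResidueField.map φ).toAlgebra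
  haveI : Algebra.IsSeparable (IsLocalRing.ResidueField A) (IsLocalRing.ResidueField T) := hT.isSepClosure.2
  let τ : IsLocalRing.ResidueField T →ₐ[IsLocalRing.ResidueField A] IsLocalRing.ResidueField D := IsSepClosed.lift
  obtain ⟨g, ⟨hg, -⟩, -⟩ := hT.universal D φ τ.toRingHom τ.comp_algebraMap
  obtain ⟨hTd, hTv⟩ : ∃ _ : IsDomain T, IsDiscreteValuationRing T := by
    rcases strictHens_cases A (Or.inr ⟨inferInstance, hA⟩) T with ⟨hf, -⟩ | ⟨-, h⟩
    · exact absurd hf (IsDiscreteValuationRing.not_isField A)
    · exact h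
  haveI := hTd
  haveI := hTv
  have hginj : Function.Injective g := by
    rw [RingHom.injective_iff_ker_eq_bot]
    by_contra hne
    haveI := RingHom.ker_isPrime g
    have hmaxT := IsLocalRing.eq_maximalIdeal (IsPrime.to_maximal_ideal hne)
    have h1 : algebraMap A T (algebraMap (MvPolynomial (Fin b) W) A (MvPolynomial.C ϖ)) ∈ RingHom.ker g := by
      rw [hmaxT]
      refine fun hu => hϖ.not_isUnit ((isUnit_map_iff (algebraMap W D) ϖ).1 ?_)
      have h2 := (hu.map g)
      rw [← RingHom.comp_apply g, hg, IsLocalization.lift_eq] at h2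
      rwa [← MvPolynomial.aeval_C y ϖ]
    rw [RingHom.mem_ker, ← RingHom.comp_apply g, hg, IsLocalization.lift_eq] at h1
    change MvPolynomial.aeval y (MvPolynomial.C ϖ) = 0 at h1
    rw [MvPolynomial.aeval_C] at h1
    exact hϖ.ne_zero (hinj (h1.trans (map_zero _).symm))
  let F := FractionRing T
  obtain ⟨ψ, hψ⟩ : ∃ ψ : F →+* L, ∀ x, ψ (algebraMap T F x) = algebraMap D L (g x) :=
    ⟨IsFractionRing.lift (g := (algebraMap D L).comp g) ((IsFractionRing.injective D L).comp hginj),
      fun x => IsFractionRing.lift_algebraMap _ x⟩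
  letI : Algebra F L := ψ.toAlgebra
  let ι : MvPolynomial (Fin b) W →+* F :=
    (algebraMap T F).comp ((algebraMap A T).comp (algebraMap (MvPolynomial (Fin b) W) A))
  have hι : ∀ p, ψ (ι p) = algebraMap D L (MvPolynomial.aeval y p) := fun p => by
    show ψ (algebraMap T F (algebraMap A T (algebraMap _ A p))) = _
    rw [hψ, ← RingHom.comp_apply g, hg, IsLocalization.lift_eq]
    rfl
  letI : Algebra W F := (ι.comp MvPolynomial.C).toAlgebra
  haveI : IsScalarTower W F L := IsScalarTower.of_algebraMap_eq fun c => by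
    show algebraMap W L c = ψ (ι (MvPolynomial.C c))
    rw [hι, MvPolynomial.aeval_C, ← IsScalarTower.algebraMap_apply]
  have hιinj : Function.Injective ι := fun p q h => hind (IsFractionRing.injective D L (by rw [← hι, ← hι, h]))
  haveI : FaithfulSMul W F := (faithfulSMul_iff_algebraMap_injective W F).2
    (hιinj.comp (MvPolynomial.C_injective _ _))
  have hb : (b : Cardinal.{u}) ≤ Algebra.trdeg W F := by
    have h1 : Algebra.trdeg W (MvPolynomial (Fin b) W) = b := by
      rw [MvPolynomial.trdeg_of_isDomain, Cardinal.mk_fin, Cardinal.lift_natCast]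
    rw [← h1]
    exact trdeg_le_of_injective { ι with commutes' := fun c => rfl } hιinj
  refine cohDimLEAt_of_subfield L F (Tame.cohDimLEAt_one T F ℓ ?_) hL hb
  have h3 := ((hℓW.map (MvPolynomial.C (σ := Fin b))).map (algebraMap (MvPolynomial (Fin b) W) A)).map (algebraMap A T)
  rwa [map_natCast, map_natCast, map_natCast] at h3

end Groth.Agent.H05EGA4.EtCl.Lower
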