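import Groth.Agent.H05EGA4.EtCl.Lower.DvrLower
import Groth.Agent.H11Val.Dominating
import Groth.Agent.S6370

/-!
# Cohomological dimension of the fraction field of a Noetherian local domain
-/

set_option autoImplicit false
set_option linter.style.haveILetI false
set_option linter.unusedSectionVars false
set_option linter.overlappingInstances false
set_option backward.isDefEq.respectTransparency false
set_option backward.isDefEq.respectTransparency.types false

universe u

open CategoryTheory AlgebraicGeometry
open scoped Classical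

namespace Groth.Agent.H05EGA4.EtCl.Lower

/-- Local domains of dimension zero are fields. -/
theorem residue_bijective_of_dim_zero (B : Type u) [CommRing B] [IsDomain B] [IsLocalRing B]
    (h : ringKrullDim B = 0) : Function.Bijective (IsLocalRing.residue B) := by
  refine ⟨(RingHom.injective_iff_ker_eq_bot _).2 ?_, IsLocalRing.residue_surjective⟩
  rw [IsLocalRing.ker_residue]
  by_contra hne
  have h1 : (⟨⊥, Ideal.isPrime_bot⟩ : PrimeSpectrum B) < IsLocalRing.closedPoint B := (PrimeSpectrum.asIdeal_lt_asIdeal _ _).1 (bot_lt_iff_ne_bot.2 hne)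
  let c : LTSeries (PrimeSpectrum B) :=
    (RelSeries.singleton _ (⟨⊥, Ideal.isPrime_bot⟩ : PrimeSpectrum B)).snoc (IsLocalRing.closedPoint B) h1
  have h2 : (c.length : WithBot ℕ∞) ≤ ringKrullDim B := Order.LTSeries.length_le_krullDim c
  rw [h] at h2
  exact absurd h2 (not_le.2 (by exact_mod_cast Nat.zero_lt_one.trans_le (by simp [c])))

/-- Sorts out a height one prime below the first step of a maximal chain. -/
theorem exists_height_one_step (B : Type u) [CommRing B] [IsDomain B] [IsNoetherianRing B] [IsLocalRing B]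
    (n : ℕ) (hn : ringKrullDim B = (n + 1 : ℕ)) :
    ∃ (Q : Ideal B) (_ : Q.IsPrime), Q ≠ ⊥ ∧ Ring.KrullDimLE 1 (Localization.AtPrime Q) ∧
      ringKrullDim (B ⧸ Q) = (n : ℕ) := by
  obtain ⟨c, hc⟩ : ∃ c : LTSeries (PrimeSpectrum B), c.length = n + 1 := Order.le_krullDim_iff.1 hn.ge
  have hp1 : (c ⟨1, by omega⟩).asIdeal ≠ ⊥ := fun h => by
    have h1 : c ⟨0, by omega⟩ < c ⟨1, by omega⟩ := c.strictMono (Fin.mk_lt_mk.2 Nat.one_pos)
    exact not_lt_bot (α := Ideal B) (h ▸ (PrimeSpectrum.asIdeal_lt_asIdeal _ _).2 h1)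
  obtain ⟨a, ha, ha0⟩ := Submodule.exists_mem_ne_zero_of_ne_bot hp1
  obtain ⟨Q, hQ, hQle⟩ := Ideal.exists_minimalPrimes_le
    ((Ideal.span_singleton_le_iff_mem (c ⟨1, by omega⟩).asIdeal).2 ha)
  haveI := hQ.1.1
  have hQ0 : Q ≠ ⊥ := fun h => ha0 (by
    have := hQ.1.2 (Ideal.mem_span_singleton_self a)
    rwa [h, Ideal.mem_bot] at this)
  have hht : Q.height ≤ 1 := Ideal.height_le_one_of_isPrincipal_of_mem_minimalPrimes _ Q hQ
  refine ⟨Q, inferInstance, hQ0, ?_, ?_⟩
  · rw [Ring.krullDimLE_iff, IsLocalization.AtPrime.ringKrullDim_eq_height Q (Localization.AtPrime Q)]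
    exact_mod_cast hht
  · refine le_antisymm ?_ ?_
    · obtain ⟨x, hx, hx0⟩ := Submodule.exists_mem_ne_zero_of_ne_bot hQ0
      have h1 : ringKrullDim (B ⧸ Q) + 1 ≤ (n + 1 : ℕ) := by
        refine le_trans ?_ hn.le
        refine le_trans (add_le_add_left (ringKrullDim_le_of_surjective (Ideal.Quotient.factor ((Ideal.span_singleton_le_iff_mem Q).2 hx)) (Ideal.Quotient.factor_surjective _)) 1) ?_
        exact ringKrullDim_quotient_succ_le_of_nonZeroDivisor (mem_nonZeroDivisors_of_ne_zero hx0)
      exact ENat.WithBot.add_le_add_one_right_iff.1 (h1.trans_eq (by push_cast; rfl))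
    · have hmono : ∀ i : Fin (n + 1), Q ≤ (c ⟨i.1 + 1, by omega⟩).asIdeal := fun i =>
        hQle.trans (c.monotone (Fin.mk_le_mk.2 (Nat.le_add_left 1 i.1)))
      let q : Fin (n + 1) → PrimeSpectrum (B ⧸ Q) := fun i =>
        ⟨(c ⟨i.1 + 1, by omega⟩).asIdeal.map (Ideal.Quotient.mk Q),
          Ideal.map_isPrime_of_surjective Ideal.Quotient.mk_surjective (by rw [Ideal.mk_ker]; exact hmono i)⟩
      have hback : ∀ i, (q i).asIdeal.comap (Ideal.Quotient.mk Q) = (c ⟨i.1 + 1, by omega⟩).asIdeal := fun i => by
        show ((c ⟨i.1 + 1, _⟩).asIdeal.map (Ideal.Quotient.mk Q)).comap _ = _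
        rw [Ideal.comap_map_of_surjective _ Ideal.Quotient.mk_surjective, ← RingHom.ker_eq_comap_bot, Ideal.mk_ker,
          sup_eq_left.2 (hmono i)]
      have hq : StrictMono q := fun i j hij => by
        have h1 : c ⟨i.1 + 1, by omega⟩ < c ⟨j.1 + 1, by omega⟩ :=
          c.strictMono (Fin.mk_lt_mk.2 (Nat.add_lt_add_right (Fin.lt_def.1 hij) 1))
        refine (PrimeSpectrum.asIdeal_lt_asIdeal _ _).1 (lt_of_le_of_ne (Ideal.map_mono h1.le) fun h2 => h1.ne ?_)
        exact PrimeSpectrum.ext ((hback i).symm.trans ((congrArg (Ideal.comap (Ideal.Quotient.mk Q)) h2).trans (hback j)))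
      exact Order.LTSeries.length_le_krullDim (LTSeries.mk n q hq)

/-- **Lower bound.** If a finite extension of the fraction field of a Noetherian local domain has `cd ≤ d`
then `dim B ≤ d` and a finite extension of the residue field has `cd ≤ d - dim B`. -/
theorem exists_cohDimLEAt_residue {ℓ : ℕ} [hℓ : Fact ℓ.Prime] : ∀ (n : ℕ) (B : Type u) [CommRing B] [IsDomain B]
    [IsNoetherianRing B] [IsLocalRing B], ringKrullDim B = n → IsUnit (ℓ : B) → ∀ (L : Type u) [Field L]
    [Algebra (FractionRing B) L] [FiniteDimensional (FractionRing B) L] (d : ℕ),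
    Dix.CohDimLEAt (Spec (CommRingCat.of L)) ℓ d →
      n ≤ d ∧ ∃ (L' : Type u) (_ : Field L') (_ : Algebra (IsLocalRing.ResidueField B) L')
        (_ : FiniteDimensional (IsLocalRing.ResidueField B) L'), Dix.CohDimLEAt (Spec (CommRingCat.of L')) ℓ (d - n) := by
  intro n
  induction n with
  | zero =>
    intro B _ _ _ _ hn _ L _ _ _ d hd
    let r := RingEquiv.ofBijective (IsLocalRing.residue B) (residue_bijective_of_dim_zero B hn)
    have hf : IsField B := MulEquiv.isField (Field.toIsField (IsLocalRing.ResidueField B)) r.toMulEquiv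
    let g : IsLocalRing.ResidueField B →+* FractionRing B := (algebraMap B (FractionRing B)).comp r.symm.toRingHom
    letI := g.toAlgebra
    have hg : Function.Surjective g := by
      letI := hf.toField
      intro x
      obtain ⟨a, b, hb, rfl⟩ := IsFractionRing.div_surjective B x
      refine ⟨r a / r b, ?_⟩
      show g (r a / r b) = _
      rw [map_div₀]
      show algebraMap B _ (r.symm (r a)) / algebraMap B _ (r.symm (r b)) = _
      rw [r.symm_apply_apply, r.symm_apply_apply]
    haveI : Module.Finite (IsLocalRing.ResidueField B) (FractionRing B) :=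
      Module.Finite.of_surjective (Algebra.linearMap _ _) hg
    letI : Algebra (IsLocalRing.ResidueField B) L := ((algebraMap (FractionRing B) L).comp g).toAlgebra
    haveI : IsScalarTower (IsLocalRing.ResidueField B) (FractionRing B) L := IsScalarTower.of_algebraMap_eq' rfl
    exact ⟨Nat.zero_le d, L, inferInstance, inferInstance, Module.Finite.trans (FractionRing B) L, hd⟩
  | succ n ih =>
    intro B _ _ _ _ hn hℓB L _ _ _ d hd
    obtain ⟨Q, _, hQ0, _, hQn⟩ := exists_height_one_step B n hn
    let D := Localization.AtPrime Q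
    let K := FractionRing B
    letI : Algebra B L := ((algebraMap K L).comp (algebraMap B K)).toAlgebra
    haveI : IsScalarTower B K L := IsScalarTower.of_algebraMap_eq' rfl
    obtain ⟨V, hV, hcen⟩ := H11Val.exists_dvr_center_finite K L Q hQ0
    haveI := hV
    let ι : B →+* V := (algebraMap B L).codRestrict V.toSubring fun a => (hcen a).1
    have hι : ∀ a, a ∈ Q ↔ ι a ∈ IsLocalRing.maximalIdeal V := fun a =>
      (hcen a).2.trans (V.valuation_lt_one_iff (ι a)).symm
    let ιD : D →+* V := IsLocalization.lift (M := Q.primeCompl) (g := ι) fun a => by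
      by_contra hu
      exact a.2 ((hι a.1).2 hu)
    haveI hfrac : IsFractionRing D K :=
      IsFractionRing.isFractionRing_of_isDomain_of_isLocalization Q.primeCompl D K
    haveI : IsNoetherianRing D := IsLocalization.isNoetherianRing Q.primeCompl D inferInstance
    letI : Algebra D V := ιD.toAlgebra
    letI : Algebra D L := ((algebraMap V L).comp ιD).toAlgebra
    haveI : IsScalarTower D V L := IsScalarTower.of_algebraMap_eq' rfl
    haveI : IsScalarTower D K L := IsScalarTower.of_algebraMap_eq' (IsLocalization.ringHom_ext Q.primeCompl (RingHom.ext fun a => by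
      show ((ιD (algebraMap B D a) : V) : L) = algebraMap K L (algebraMap D K (algebraMap B D a))
      rw [IsLocalization.lift_eq, ← IsScalarTower.algebraMap_apply B D K]
      rfl))
    obtain ⟨x, hx, hx0⟩ := Submodule.exists_mem_ne_zero_of_ne_bot hQ0
    have hxD : algebraMap B D x ≠ 0 := fun h => hx0
      ((map_eq_zero_iff _ (IsLocalization.injective D Q.primeCompl_le_nonZeroDivisors)).1 h)
    haveI hfin := S6370.finite_quotient D K L V Subtype.val_injective (algebraMap B D x) hxD
    let k' := IsLocalRing.ResidueField V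
    let lV : (V ⧸ Ideal.span {algebraMap D V (algebraMap B D x)}) →ₐ[D] k' :=
      Ideal.Quotient.liftₐ _ (IsScalarTower.toAlgHom D V k') fun a ha => by
        obtain ⟨c, rfl⟩ := Ideal.mem_span_singleton'.1 ha
        show IsLocalRing.residue V (c * ιD (algebraMap B D x)) = 0
        rw [IsLocalization.lift_eq, IsLocalRing.residue_eq_zero_iff]
        exact Ideal.mul_mem_left _ _ ((hι x).1 hx)
    haveI : Module.Finite D k' := Module.Finite.of_surjective lV.toLinearMap fun y => by
      obtain ⟨v, rfl⟩ := IsLocalRing.residue_surjective y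
      exact ⟨Ideal.Quotient.mk _ v, rfl⟩
    haveI : IsLocalHom ιD := ⟨fun a ha => by
      by_contra hu
      obtain ⟨b, s, rfl⟩ := IsLocalization.exists_mk'_eq Q.primeCompl a
      have hb : b ∈ Q := (IsLocalization.AtPrime.mk'_mem_maximal_iff D Q b s).1 hu
      have hD : ∀ c : B, ιD (algebraMap B D c) = ι c := fun c => IsLocalization.lift_eq _ c
      have h1 : ιD (IsLocalization.mk' D b s) * ι s = ι b := by
        rw [← hD s.1, ← map_mul, IsLocalization.mk'_spec, hD]
      exact (hι b).1 hb (h1 ▸ ha.mul (by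
        by_contra hu'
        exact s.2 ((hι s.1).2 hu')))⟩
    let φ : IsLocalRing.ResidueField D →+* k' := IsLocalRing.ResidueField.map ιD
    letI := φ.toAlgebra
    haveI : IsScalarTower D (IsLocalRing.ResidueField D) k' := IsScalarTower.of_algebraMap_eq fun a => rfl
    haveI : Module.Finite (IsLocalRing.ResidueField D) k' := Module.Finite.of_restrictScalars_finite D _ _
    -- the fraction field of the quotient
    let e : FractionRing (B ⧸ Q) ≃+* Q.ResidueField :=
      (IsLocalization.algEquiv (nonZeroDivisors (B ⧸ Q)) (FractionRing (B ⧸ Q)) Q.ResidueField).toRingEquiv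
    letI : Algebra (FractionRing (B ⧸ Q)) k' := (φ.comp e.toRingHom).toAlgebra
    haveI : FiniteDimensional (FractionRing (B ⧸ Q)) k' := by
      have h1 : (algebraMap (IsLocalRing.ResidueField D) k').Finite := RingHom.finite_algebraMap.2 inferInstance
      have h2 : (φ.comp e.toRingHom).Finite := (show φ.Finite from h1).comp (RingHom.Finite.of_surjective e.toRingHom e.surjective)
      exact h2
    have hℓV : IsUnit (ℓ : V) := by
      rw [← map_natCast ι]
      exact hℓB.map _
    haveI : IsFractionRing V L := inferInstance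
    obtain ⟨hd1, hcd⟩ := cohDimLEAt_residue V L hℓV hd
    haveI : IsLocalRing (B ⧸ Q) :=
      IsLocalRing.of_surjective' (Ideal.Quotient.mk Q) Ideal.Quotient.mk_surjective
    have hℓQ : IsUnit (ℓ : B ⧸ Q) := by
      rw [← map_natCast (Ideal.Quotient.mk Q)]
      exact hℓB.map _
    obtain ⟨hn', L', _, _, _, hL'⟩ := ih (B ⧸ Q) hQn hℓQ k' (d - 1) hcd
    haveI : IsLocalHom (Ideal.Quotient.mk Q) := IsLocalHom.of_surjective _ Ideal.Quotient.mk_surjective
    let ψ : IsLocalRing.ResidueField B →+* IsLocalRing.ResidueField (B ⧸ Q) :=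
      IsLocalRing.ResidueField.map (Ideal.Quotient.mk Q)
    have hψ : Function.Surjective ψ := fun y => by
      obtain ⟨v, rfl⟩ := IsLocalRing.residue_surjective y
      obtain ⟨b, rfl⟩ := Ideal.Quotient.mk_surjective v
      exact ⟨IsLocalRing.residue B b, IsLocalRing.ResidueField.map_residue (Ideal.Quotient.mk Q) b⟩
    let χ : IsLocalRing.ResidueField B →+* L' := (algebraMap (IsLocalRing.ResidueField (B ⧸ Q)) L').comp ψ
    have hχ : χ.Finite := (RingHom.finite_algebraMap.2 inferInstance).comp (RingHom.Finite.of_surjective ψ hψ)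
    refine ⟨by omega, L', inferInstance, χ.toAlgebra, hχ, ?_⟩
    rwa [show d - (n + 1) = d - 1 - n by omega]

end Groth.Agent.H05EGA4.EtCl.Lower
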