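import Groth.Agent.H9GalCoh.CyclicBrauer
import Groth.Agent.S7732

/-!
# Cyclic extensions which extend

If a cyclic extension `L/K` of degree `ℓ` extends to a cyclic extension of degree `ℓ²` then vanishing of
`ℓ`-torsion cohomology above a degree descends from `L` to `K`.
-/

set_option autoImplicit false
set_option linter.style.haveILetI false
set_option linter.unusedSectionVars false
set_option linter.overlappingInstances false
set_option backward.isDefEq.respectTransparency false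
set_option backward.isDefEq.respectTransparency.types false

universe u

open CategoryTheory CategoryTheory.Limits AlgebraicGeometry Opposite Abelian

namespace Groth.Agent.H05EGA4.EtCl.Lower

open Groth.Agent.H9GalCoh
open Groth.Agent.H9GalCoh.Cyclic (V P Z ρ oneZ gen gmV D aug norm)
open scoped Groth.Agent.H18Et

variable (K : Type u) [Field K] (L : Type u) [Field L] [Algebra K L] [AlgebraicGeometry.Etale (Transfer.str K L)]
  (L₂ : Type u) [Field L₂] [Algebra K L₂] [AlgebraicGeometry.Etale (Transfer.str K L₂)]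
  [Algebra L L₂] [IsScalarTower K L L₂]

/-- The projection of the spectra. -/
noncomputable def prV : V K L₂ ⟶ V K L :=
  MorphismProperty.Over.homMk (Spec.map (CommRingCat.ofHom (algebraMap L L₂))) (by
    show Spec.map _ ≫ 𝟙 _ ≫ Spec.map _ = 𝟙 _ ≫ Spec.map _
    rw [Category.id_comp, Category.id_comp, ← Spec.map_comp]
    exact congrArg Spec.map (CommRingCat.hom_ext (IsScalarTower.algebraMap_eq K L L₂).symm))

/-- The projection of the free sheaves. -/
noncomputable def prP : P K L₂ ⟶ P K L := (H18Et.FreeSheaf.free _).map (prV K L L₂)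

theorem app_prP {W : (Spec (CommRingCat.of K)).Etale} (f : W ⟶ V K L₂) :
    (prP K L L₂).hom.app (op W) (gen K L₂ f) = gen K L (f ≫ prV K L L₂) := by
  rw [Cyclic.app_gen, ← Cyclic.map_gen]
  congr 1
  rw [prP, ← Category.comp_id ((H18Et.FreeSheaf.free _).map (prV K L L₂)), H18Et.FreeSheaf.homEquiv_map]
  rfl

theorem hom_ext_P {F : EtCoh.Ab (Spec (CommRingCat.of K))} {φ ψ : P K L₂ ⟶ F}
    (h : φ.hom.app (op (V K L₂)) (gen K L₂ (𝟙 _)) = ψ.hom.app (op (V K L₂)) (gen K L₂ (𝟙 _))) : φ = ψ := by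
  refine (H18Et.FreeSheaf.homEquiv (V K L₂) F).injective ?_
  rw [Cyclic.app_gen, Cyclic.app_gen, op_id, CategoryTheory.Functor.map_id] at h
  exact h

theorem prP_aug : prP K L L₂ ≫ aug K L = aug K L₂ := by
  refine hom_ext_P K L₂ ?_
  show (aug K L).hom.app _ ((prP K L L₂).hom.app _ (gen K L₂ (𝟙 _))) = _
  rw [app_prP, Cyclic.app_aug, Cyclic.app_aug]

variable [FiniteDimensional K L] [IsGalois K L] [FiniteDimensional K L₂] [IsGalois K L₂]

theorem gmV_prV (σ : L₂ ≃ₐ[K] L₂) :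
    gmV K L₂ σ ≫ prV K L L₂ = prV K L L₂ ≫ gmV K L (σ.restrictNormal L) := by
  refine MorphismProperty.Over.Hom.ext ?_
  show Spec.map _ ≫ Spec.map _ = Spec.map _ ≫ Spec.map _
  rw [← Spec.map_comp, ← Spec.map_comp]
  exact congrArg Spec.map (CommRingCat.hom_ext (RingHom.ext fun x => (AlgEquiv.restrictNormal_commutes σ L x).symm))

theorem D_prP (σ : L₂ ≃ₐ[K] L₂) : D K L₂ σ ≫ prP K L L₂ = prP K L L₂ ≫ D K L (σ.restrictNormal L) := by
  refine hom_ext_P K L₂ ?_
  show (prP K L L₂).hom.app _ ((D K L₂ σ).hom.app _ (gen K L₂ (𝟙 _))) =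
    (D K L (σ.restrictNormal L)).hom.app _ ((prP K L L₂).hom.app _ (gen K L₂ (𝟙 _)))
  rw [Cyclic.app_D, map_sub, app_prP, app_prP, Cyclic.app_D]
  simp only [Category.id_comp, gmV_prV]

/-- The degree of `L₂` over `L` as a number of automorphisms. -/
theorem exists_norm_prP : ∃ m : ℕ, Fintype.card (L ≃ₐ[K] L) * m = Fintype.card (L₂ ≃ₐ[K] L₂) ∧
    norm K L₂ ≫ prP K L L₂ = m • norm K L := by
  classical
  let r : (L₂ ≃ₐ[K] L₂) →* (L ≃ₐ[K] L) := AlgEquiv.restrictNormalHom L
  have hr : Function.Surjective r := AlgEquiv.restrictNormalHom_surjective L₂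
  let m := (Finset.univ.filter fun τ => r τ = 1).card
  have hfib : ∀ υ : L ≃ₐ[K] L, (Finset.univ.filter fun τ => r τ = υ).card = m := fun υ =>
    MonoidHom.card_fiber_eq_of_mem_range r (hr υ) (hr 1)
  refine ⟨m, ?_, ?_⟩
  · show _ = Finset.card Finset.univ
    rw [Finset.card_eq_sum_card_fiberwise (f := r) (t := Finset.univ) (fun a _ => Finset.mem_univ _),
      Finset.sum_congr rfl fun υ _ => hfib υ, Finset.sum_const, smul_eq_mul, Finset.card_univ]
  · obtain ⟨f⟩ := Cyclic.exists_hom_sp K L₂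
    refine Cyclic.hom_ext K L₂ ?_
    have hsm : ((m • norm K L).hom.app (op (Transfer.sp K L₂))) (oneZ K _) =
        m • (norm K L).hom.app (op (Transfer.sp K L₂)) (oneZ K _) := by
      haveI : ((sheafSections (Spec (CommRingCat.of K)).smallEtaleTopology AddCommGrpCat.{u + 1}).obj
          (op (Transfer.sp K L₂))).Additive := { map_add := by intros; rfl }
      have h := congrArg (fun k => k (oneZ K (Transfer.sp K L₂)))
        (((sheafSections (Spec (CommRingCat.of K)).smallEtaleTopology AddCommGrpCat.{u + 1}).obj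
          (op (Transfer.sp K L₂))).map_nsmul (f := norm K L) (n := m))
      exact h
    rw [hsm, Cyclic.app_norm K L (f ≫ prV K L L₂)]
    show (prP K L L₂).hom.app _ ((norm K L₂).hom.app _ (oneZ K _)) = _
    rw [Cyclic.app_norm K L₂ f, map_sum, Finset.smul_sum,
      Finset.sum_congr rfl fun τ _ => (app_prP K L L₂ (f ≫ gmV K L₂ τ)).trans
        (congrArg (gen K L) (by rw [Category.assoc, gmV_prV, ← Category.assoc])),
      ← Finset.sum_fiberwise (s := Finset.univ) (g := r)]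
    refine Finset.sum_congr rfl fun υ _ => ?_
    refine (Finset.sum_congr rfl fun τ hτ => ?_).trans
      ((Finset.sum_const (gen K L ((f ≫ prV K L L₂) ≫ gmV K L υ))).trans (by rw [hfib]))
    exact congrArg (fun t => gen K L ((f ≫ prV K L L₂) ≫ gmV K L t)) (Finset.mem_filter.1 hτ).2

/-- **Descent through a cyclic extension which extends.** -/
theorem subsingleton_H_of_extends {ℓ : ℕ} {σ : L₂ ≃ₐ[K] L₂} (hσ : ∀ τ : L₂ ≃ₐ[K] L₂, ∃ i : ℕ, σ ^ i = τ)
    (hℓ : ℓ * Fintype.card (L ≃ₐ[K] L) ∣ Fintype.card (L₂ ≃ₐ[K] L₂))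
    (F : EtCoh.Ab (Spec (CommRingCat.of K))) (hF : ℓ • 𝟙 F = 0) (q : ℕ)
    (hvan : ∀ r, q ≤ r → Subsingleton
      (EtCoh.H (Spec (CommRingCat.of L)) ((EtCoh.pull (Transfer.str K L)).obj F) r)) :
    Subsingleton (EtCoh.H (Spec (CommRingCat.of K)) F q) := by
  classical
  haveI := H18Et.pull_preservesFiniteLimits (Transfer.str K L)
  have hσ₁ : ∀ τ : L ≃ₐ[K] L, ∃ i : ℕ, σ.restrictNormal L ^ i = τ := fun τ => by
    obtain ⟨τ', rfl⟩ := AlgEquiv.restrictNormalHom_surjective (F := K) L₂ (K₁ := L) τ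
    obtain ⟨i, hi⟩ := hσ τ'
    exact ⟨i, by rw [← hi, map_pow]; rfl⟩
  have hE : ∀ r, q ≤ r → Subsingleton (Ext (P K L) F r) := fun r hr => by
    haveI := hvan r hr
    exact Function.Injective.subsingleton (f := H18Et.FreeSheaf.phi (Transfer.str K L) F r)
      (H18Et.FreeSheaf.phi_bijective (Transfer.str K L) F r).1
  obtain ⟨m, hm, hN⟩ := exists_norm_prP K L L₂
  obtain ⟨a, rfl⟩ : ℓ ∣ m := Nat.dvd_of_mul_dvd_mul_left Fintype.card_pos (by rwa [hm, mul_comm])
  let S₁ := ShortComplex.mk (norm K L) (cokernel.π (norm K L)) (cokernel.condition _)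
  let S₂ := ShortComplex.mk (norm K L₂) (cokernel.π (norm K L₂)) (cokernel.condition _)
  let T₁ := ShortComplex.mk (cokernel.desc (norm K L) (D K L (σ.restrictNormal L)) (Cyclic.norm_D K L _))
    (aug K L) (Cyclic.desc_D_aug K L _)
  let T₂ := ShortComplex.mk (cokernel.desc (norm K L₂) (D K L₂ σ) (Cyclic.norm_D K L₂ _))
    (aug K L₂) (Cyclic.desc_D_aug K L₂ _)
  have hS₁ : S₁.ShortExact := Cyclic.shortExact_norm K L
  have hS₂ : S₂.ShortExact := Cyclic.shortExact_norm K L₂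
  have hT₁ : T₁.ShortExact := Cyclic.shortExact_aug hσ₁
  have hT₂ : T₂.ShortExact := Cyclic.shortExact_aug hσ
  let c : cokernel (norm K L₂) ⟶ cokernel (norm K L) := cokernel.desc _ (prP K L L₂ ≫ cokernel.π (norm K L)) (by
    rw [← Category.assoc, hN, Preadditive.nsmul_comp, cokernel.condition, smul_zero])
  let Φ : S₂ ⟶ S₁ :=
    { τ₁ := (ℓ * a) • 𝟙 (Z K), τ₂ := prP K L L₂, τ₃ := c
      comm₁₂ := by
        show ((ℓ * a) • 𝟙 (Z K)) ≫ norm K L = norm K L₂ ≫ prP K L L₂
        rw [hN, Preadditive.nsmul_comp, Category.id_comp]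
      comm₂₃ := (cokernel.π_desc _ _ _).symm }
  let Ψ : T₂ ⟶ T₁ :=
    { τ₁ := c, τ₂ := prP K L L₂, τ₃ := 𝟙 (Z K)
      comm₁₂ := by
        show c ≫ cokernel.desc _ _ _ = cokernel.desc _ _ _ ≫ prP K L L₂
        rw [← cancel_epi (cokernel.π (norm K L₂)), cokernel.π_desc_assoc, Category.assoc, cokernel.π_desc,
          cokernel.π_desc_assoc, D_prP]
      comm₂₃ := by
        show prP K L L₂ ≫ aug K L = aug K L₂ ≫ 𝟙 _
        rw [prP_aug, Category.comp_id] }
  have h1 := ShortComplex.ShortExact.extClass_naturality hS₂ hS₁ Φ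
  have h2 := ShortComplex.ShortExact.extClass_naturality hT₂ hT₁ Ψ
  rw [show (Ext.mk₀ Ψ.τ₃).comp hT₁.extClass (zero_add 1) = hT₁.extClass from Ext.mk₀_id_comp _] at h2
  refine subsingleton_of_forall_eq 0 fun (x : Ext (Z K) F q) => ?_
  -- the class of the periodic sequence annihilates `x`
  have hx0 : Ext.comp (Ext.mk₀ ((ℓ * a) • 𝟙 (Z K))) x (zero_add q) = 0 := by
    rw [show Ext.mk₀ ((ℓ * a) • 𝟙 (Z K)) = (ℓ * a) • Ext.mk₀ (𝟙 (Z K)) from map_nsmul Ext.addEquiv₀.symm _ _,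
      ← Ext.bilinearComp_apply_apply (h := zero_add q), map_nsmul, AddMonoidHom.nsmul_apply,
      Ext.bilinearComp_apply_apply, Ext.mk₀_id_comp, mul_comm, mul_smul,
      S7732.nsmul_eq_zero_of_killed F hF q x, smul_zero]
  have hη : hT₁.extClass.comp (hS₁.extClass.comp x (Nat.add_comm 1 q)) (rfl : 1 + (q + 1) = 1 + (q + 1)) = 0 := by
    rw [← h2, Ext.comp_assoc_of_second_deg_zero, ← Ext.comp_assoc (Ext.mk₀ Ψ.τ₁) hS₁.extClass x (zero_add 1)
      (Nat.add_comm 1 q) (by omega)]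
    show hT₂.extClass.comp (((Ext.mk₀ Φ.τ₃).comp hS₁.extClass (zero_add 1)).comp x _) _ = 0
    rw [← h1, Ext.comp_assoc_of_second_deg_zero, show Φ.τ₁ = (ℓ * a) • 𝟙 (Z K) from rfl, hx0, Ext.comp_zero,
      Ext.comp_zero]
  -- the connecting maps are injective
  obtain ⟨z, hz⟩ := Ext.contravariant_sequence_exact₁ hT₁ F (hS₁.extClass.comp x (Nat.add_comm 1 q))
    (rfl : 1 + (q + 1) = 1 + (q + 1)) hη
  have hy : hS₁.extClass.comp x (Nat.add_comm 1 q) = 0 := by
    rw [← hz, show z = 0 from (hE (q + 1) (Nat.le_succ q)).elim z 0, Ext.comp_zero]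
  obtain ⟨w, hw⟩ := Ext.contravariant_sequence_exact₁ hS₁ F x (Nat.add_comm 1 q) hy
  rw [← hw, show w = 0 from (hE q le_rfl).elim w 0, Ext.comp_zero]

end Groth.Agent.H05EGA4.EtCl.Lower
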