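import Groth.Agent.H05EGA4.EtCl.Fields
import Groth.Prelude.Def_EtCore
import Groth.Agent.H9GalCoh.Devissage
import Groth.Agent.H9GalCoh.Sylow
import Groth.Agent.H9GalCoh.Tower
import Groth.Agent.H1Lim.ConstSys
import Groth.Agent.H18Et.FEtFieldLimit
import Groth.Agent.S7733

/-!
# A criterion for the cohomological dimension of a field
-/

set_option autoImplicit false
set_option linter.style.haveILetI false
set_option linter.unusedSectionVars false
set_option backward.isDefEq.respectTransparency false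
set_option backward.isDefEq.respectTransparency.types false

universe u

open CategoryTheory CategoryTheory.Limits AlgebraicGeometry Opposite Abelian

namespace Groth.Agent.H05EGA4.EtCl.Lower

open scoped Groth.Agent.H18Et

/-- Transport of vanishing along isomorphisms. -/
theorem subsingleton_H_of_iso {X : Scheme.{u}} {F G : EtCoh.Ab X} (e : F ≅ G) (q : ℕ)
    (h : Subsingleton (EtCoh.H X F q)) : Subsingleton (EtCoh.H X G q) :=
  subsingleton_of_forall_eq 0 fun z => by
    have h1 : (z.comp (Ext.mk₀ e.inv) (add_zero q)).comp (Ext.mk₀ e.hom) (add_zero q) = z := by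
      rw [Ext.comp_assoc_of_third_deg_zero, Ext.mk₀_comp_mk₀, e.inv_hom_id, Ext.comp_mk₀_id]
    rw [← h1, h.elim (z.comp (Ext.mk₀ e.inv) (add_zero q)) 0, Ext.zero_comp]

/-- **Criterion.** `cd_ℓ(k) ≤ e` if `H^{e+1}(K, ℤ/ℓ) = 0` for the `ℓ`-closed separable algebraic extensions. -/
theorem cohDimLEAt_of_pClosed (k : Type u) [Field k] (ℓ : ℕ) [hℓ : Fact ℓ.Prime] (e : ℕ)
    (h : ∀ (K : Type u) [Field K] [Algebra k K] [Algebra.IsSeparable k K], H9GalCoh.Sect.IsPClosed ℓ K →
      Subsingleton (EtCoh.H (Spec (CommRingCat.of K)) (EtCoh.const (Spec (CommRingCat.of K)) (ZMod ℓ)) (e + 1))) :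
    Dix.CohDimLEAt (Spec (CommRingCat.of k)) ℓ e := by
  classical
  intro F hF q hq
  obtain ⟨K, hK⟩ := H9GalCoh.Sylow.exists_maximal (k := k) (p := ℓ)
  let t0 := H9GalCoh.Transfer.str k K
  haveI : ∀ {X Y : Scheme.{u}} (f : X ⟶ Y), PreservesFiniteLimits (EtCoh.pull f) :=
    fun f => H18Et.pull_preservesFiniteLimits f
  have hP : H9GalCoh.Sect.IsPClosed ℓ K := fun L _ _ hf hs =>
    haveI := hf; haveI := hs; H9GalCoh.Sylow.finrank_eq_pow hK L
  let Fi := H18Et.FEtFieldLimit.FinInt k K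
  haveI : IsFiltered Fi := isFiltered_of_directed_le_nonempty _
  let c := H18Et.FEtFieldLimit.specCone k K
  let hc : IsLimit c := isLimitOfPreserves Scheme.Spec (H18Et.FEtFieldLimit.isColimitFieldCocone k K).op
  let qd : ∀ L : Fiᵒᵖ, (H18Et.FEtFieldLimit.specDiag k K).obj L ⟶ Spec (CommRingCat.of k) :=
    fun L => H9GalCoh.Transfer.str k L.unop.1
  have hqd : ∀ (i l : Fiᵒᵖ) (a : l ⟶ i), (H18Et.FEtFieldLimit.specDiag k K).map a ≫ qd i = qd l :=
    fun i l a => by
      show Spec.map _ ≫ Spec.map _ = Spec.map _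
      rw [← Spec.map_comp]
      rfl
  have hcq : ∀ i, c.π.app i ≫ qd i = t0 := fun i => by
    show Spec.map _ ≫ Spec.map _ = Spec.map _
    rw [← Spec.map_comp]
    rfl
  haveI : ∀ i : Fiᵒᵖ, CompactSpace ↥((H18Et.FEtFieldLimit.specDiag k K).obj i) :=
    fun i => inferInstanceAs (CompactSpace (PrimeSpectrum i.unop.1))
  haveI : ∀ i : Fiᵒᵖ, QuasiSeparatedSpace ↥((H18Et.FEtFieldLimit.specDiag k K).obj i) :=
    fun i => inferInstanceAs (QuasiSeparatedSpace (PrimeSpectrum i.unop.1))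
  haveI hE : ∀ i : Fiᵒᵖ, AlgebraicGeometry.Etale (qd i) := fun i =>
    haveI := i.unop.2; H9GalCoh.Transfer.etale_str k i.unop.1
  -- vanishing over `K`
  have hKZ : ∀ r, Subsingleton (EtCoh.H (Spec (CommRingCat.of K))
      (EtCoh.const (Spec (CommRingCat.of K)) (ZMod ℓ)) (e + 1 + r)) := fun r => by
    induction r with
    | zero => exact h K hP
    | succ r ih =>
      have := H9GalCoh.Dev.subsingleton_succ (e + r) hP (by rwa [Nat.add_right_comm e r 1])
      rwa [show e + r + 2 = e + 1 + (r + 1) by omega] at this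
  refine subsingleton_of_forall_eq 0 fun x => ?_
  have hx := Fields.exists_pow_nsmul_eq_zero k hℓ.out hF (Nat.zero_lt_of_lt hq) x
  obtain ⟨m, hm⟩ := hx
  have hT := Fields.isTorsion_of_primary hℓ.out.pos hF
  have h0 : EtCore.Hpull t0 F q x = 0 :=
    H9GalCoh.Dev.eq_zero_of_torsion q
      (by have := hKZ (q - (e + 1)); rwa [show e + 1 + (q - (e + 1)) = q by omega] at this) hP _
      (H18Et.Coh.isTorsion_pull t0 F hT) _ ⟨m, by rw [← map_nsmul, hm, map_zero]⟩
  let L₀ : Fiᵒᵖ := H18Et.FEtFieldLimit.base k K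
  obtain ⟨l, a, hl⟩ := (H1Lim.constSys_surj_inj qd (fun {i l} a => hqd i l a) F c t0 hcq hc q).2 L₀
    (EtCore.Hpull (qd L₀) F q x) ((S7733.via_pull (qd L₀) (c.π.app L₀) t0 (hcq L₀) F q x).trans h0)
  haveI : FiniteDimensional k l.unop.1 := l.unop.2
  have h1 : EtCore.Hpull (H9GalCoh.Transfer.str k l.unop.1) F q x = 0 := by
    refine (S7733.via_pull (qd L₀) ((H18Et.FEtFieldLimit.specDiag k K).map a)
      (qd l) (hqd L₀ l a) F q x).symm.trans ?_
    exact (congrArg (fun z => ((EtCoh.HF _ q).map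
      (((EtCore.pullComp _ (qd L₀)).symm ≪≫ EtCore.pullCongr (hqd L₀ l a)).app F).hom).hom z) hl).trans (map_zero _)
  let L' : IntermediateField k (SeparableClosure k) := IntermediateField.lift l.unop.1
  have e' := IntermediateField.liftAlgEquiv l.unop.1
  have hdeg : ¬ ℓ ∣ Module.finrank k l.unop.1 := by
    rw [e'.toLinearEquiv.finrank_eq]
    exact hK.1 L' (IntermediateField.lift_le l.unop.1) (Module.Finite.equiv e'.toLinearEquiv)
  exact AddMonoid.addOrderOf_eq_one_iff.1 (Nat.eq_one_of_dvd_coprimes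
    ((hℓ.out.coprime_iff_not_dvd.2 hdeg).pow_left m)
    (addOrderOf_dvd_of_nsmul_eq_zero hm)
    (addOrderOf_dvd_of_nsmul_eq_zero (H9GalCoh.Transfer.finrank_nsmul_eq_zero k l.unop.1 F q x h1)))


/-- **Criterion.** `cd_ℓ(k) ≤ e` if `H^{e+1}(k', ℤ/ℓ) = 0` for all finite separable `k'/k`. -/
theorem cohDimLEAt_of_finite (k : Type u) [Field k] (ℓ : ℕ) [hℓ : Fact ℓ.Prime] (e : ℕ)
    (h : ∀ (L : Type u) [Field L] [Algebra k L] [FiniteDimensional k L] [Algebra.IsSeparable k L],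
      Subsingleton (EtCoh.H (Spec (CommRingCat.of L)) (EtCoh.const (Spec (CommRingCat.of L)) (ZMod ℓ)) (e + 1))) :
    Dix.CohDimLEAt (Spec (CommRingCat.of k)) ℓ e := by
  classical
  refine cohDimLEAt_of_pClosed k ℓ e fun K _ _ _ _ => ?_
  haveI : ∀ {X Y : Scheme.{u}} (f : X ⟶ Y), PreservesFiniteLimits (EtCoh.pull f) :=
    fun f => H18Et.pull_preservesFiniteLimits f
  let t0 := H9GalCoh.Transfer.str k K
  let Fi := H18Et.FEtFieldLimit.FinInt k K
  haveI : IsFiltered Fi := isFiltered_of_directed_le_nonempty _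
  let c := H18Et.FEtFieldLimit.specCone k K
  let hc : IsLimit c := isLimitOfPreserves Scheme.Spec (H18Et.FEtFieldLimit.isColimitFieldCocone k K).op
  let qd : ∀ L : Fiᵒᵖ, (H18Et.FEtFieldLimit.specDiag k K).obj L ⟶ Spec (CommRingCat.of k) :=
    fun L => H9GalCoh.Transfer.str k L.unop.1
  have hqd : ∀ (i l : Fiᵒᵖ) (a : l ⟶ i), (H18Et.FEtFieldLimit.specDiag k K).map a ≫ qd i = qd l :=
    fun i l a => by
      show Spec.map _ ≫ Spec.map _ = Spec.map _
      rw [← Spec.map_comp]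
      rfl
  have hcq : ∀ i, c.π.app i ≫ qd i = t0 := fun i => by
    show Spec.map _ ≫ Spec.map _ = Spec.map _
    rw [← Spec.map_comp]
    rfl
  haveI : ∀ i : Fiᵒᵖ, CompactSpace ↥((H18Et.FEtFieldLimit.specDiag k K).obj i) :=
    fun i => inferInstanceAs (CompactSpace (PrimeSpectrum i.unop.1))
  haveI : ∀ i : Fiᵒᵖ, QuasiSeparatedSpace ↥((H18Et.FEtFieldLimit.specDiag k K).obj i) :=
    fun i => inferInstanceAs (QuasiSeparatedSpace (PrimeSpectrum i.unop.1))
  haveI hE : ∀ i : Fiᵒᵖ, AlgebraicGeometry.Etale (qd i) := fun i =>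
    haveI := i.unop.2; H9GalCoh.Transfer.etale_str k i.unop.1
  refine subsingleton_H_of_iso (EtCore.pullConst t0 (ZMod ℓ)) _ (subsingleton_of_forall_eq 0 fun x => ?_)
  obtain ⟨i, y, hy⟩ := (H1Lim.constSys_surj_inj qd (fun {i l} a => hqd i l a)
    (EtCoh.const (Spec (CommRingCat.of k)) (ZMod ℓ)) c t0 hcq hc (e + 1)).1 x
  haveI : FiniteDimensional k i.unop.1 := i.unop.2
  haveI hy0 := subsingleton_H_of_iso (EtCore.pullConst (qd i) (ZMod ℓ)).symm (e + 1) (h i.unop.1)
  rw [← hy, show y = 0 from hy0.elim y 0]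
  exact map_zero _

end Groth.Agent.H05EGA4.EtCl.Lower
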