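import Groth.Agent.H05EGA4.EtCl.Lower.GaloisLift
import Groth.Agent.H05EGA4.EtCl.Lower.CyclicLift
import Groth.Agent.H05EGA4.EtCl.Lower.SylowCrit
import Groth.Agent.H05EGA4.EtCl.FieldTrdeg

/-!
# Cohomological dimension descends along finite extensions of fields

The theorem of Serre, for fields: `cd_ℓ(k) ≤ cd_ℓ(L)` for finite `L/k`, if `ℓ ≠ 2` or `-1` is a sum of
squares in `k`. The proof uses only cyclic extensions of degree `ℓ²`.
-/

set_option autoImplicit false
set_option linter.style.haveILetI false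
set_option linter.unusedSectionVars false
set_option linter.overlappingInstances false
set_option backward.isDefEq.respectTransparency false
set_option backward.isDefEq.respectTransparency.types false

universe u

open CategoryTheory CategoryTheory.Limits AlgebraicGeometry Opposite Abelian IntermediateField
open scoped Classical

namespace Groth.Agent.H05EGA4.EtCl.Lower

open Groth.Agent.H9GalCoh.Sect (IsPClosed)
open scoped Groth.Agent.H18Et

theorem nsmul_id_const (X : Scheme.{u}) (ℓ : ℕ) : ℓ • 𝟙 (EtCoh.const X (ZMod ℓ)) = 0 := by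
  change ℓ • 𝟙 ((constantSheaf _ AddCommGrpCat.{u + 1}).obj _) = 0
  rw [← CategoryTheory.Functor.map_id, ← Functor.map_nsmul]
  refine Eq.trans (congrArg _ ?_) (Functor.map_zero _ _ _)
  ext m
  skip
  change ℓ • m.down = 0
  rw [nsmul_eq_mul, ZMod.natCast_self, zero_mul]

theorem subsingleton_const_of_cd {K : Type u} [Field K] {ℓ d : ℕ}
    (h : Dix.CohDimLEAt (Spec (CommRingCat.of K)) ℓ d) (q : ℕ) (hq : d < q) :
    Subsingleton (EtCoh.H (Spec (CommRingCat.of K)) (EtCoh.const (Spec (CommRingCat.of K)) (ZMod ℓ)) q) :=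
  h _ (fun U s x => ⟨U, 𝟙 U, ⟨x, rfl⟩, 1, by
    rw [pow_one, op_id, CategoryTheory.Functor.map_id]
    exact H9GalCoh.Dev.killedBy_of_nsmul (nsmul_id_const _ ℓ) U s⟩) q hq

/-- Vanishing descends to `K` through an extension which extends to degree `ℓ²`. -/
theorem subsingleton_const_of_extends (K : Type u) [Field K] (ℓ d : ℕ) (L : Type u) [Field L] [Algebra K L]
    [FiniteDimensional K L] [IsGalois K L] (hdeg : Module.finrank K L = ℓ) (hext : Extends K ℓ L)
    (h : Dix.CohDimLEAt (Spec (CommRingCat.of L)) ℓ d) (q : ℕ) (hq : d < q) :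
    Subsingleton (EtCoh.H (Spec (CommRingCat.of K)) (EtCoh.const (Spec (CommRingCat.of K)) (ZMod ℓ)) q) := by
  obtain ⟨L₂, _, _, _, _, _, _, σ, hσ, hcard⟩ := hext
  haveI := H9GalCoh.Transfer.etale_str K L
  haveI := H9GalCoh.Transfer.etale_str K L₂
  refine subsingleton_H_of_extends K L L₂ hσ ?_ _ (nsmul_id_const _ ℓ) q fun r hr =>
    subsingleton_H_of_iso (EtCore.pullConst (H9GalCoh.Transfer.str K L) (ZMod ℓ)).symm r
      (subsingleton_const_of_cd h r (lt_of_lt_of_le hq hr))
  rw [Fintype.card_eq_nat_card, Fintype.card_eq_nat_card, IsGalois.card_aut_eq_finrank K L, hdeg, hcard]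

variable {ℓ : ℕ} [hℓ : Fact ℓ.Prime]

/-- Vanishing above `d` descends from extensions of degree `ℓ`. -/
def Core (K : Type u) [Field K] (ℓ d : ℕ) : Prop :=
  ∀ (L : Type u) [Field L] [Algebra K L] [FiniteDimensional K L] [Algebra.IsSeparable K L],
    Module.finrank K L = ℓ → Dix.CohDimLEAt (Spec (CommRingCat.of L)) ℓ d → ∀ q, d < q →
      Subsingleton (EtCoh.H (Spec (CommRingCat.of K)) (EtCoh.const (Spec (CommRingCat.of K)) (ZMod ℓ)) q)

/-- The compositum with an extension of degree `ℓ`. -/
theorem exists_compositum {K : Type u} [Field K] (hK : IsPClosed ℓ K) (L : Type u) [Field L] [Algebra K L]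
    [FiniteDimensional K L] [Algebra.IsSeparable K L] (hdeg : Module.finrank K L ≤ ℓ) (K' : Type u) [Field K']
    [Algebra K K'] [FiniteDimensional K K'] [Algebra.IsSeparable K K'] {d : ℕ}
    (h : Dix.CohDimLEAt (Spec (CommRingCat.of L)) ℓ d) :
    ∃ (M : Type u) (_ : Field M) (_ : Algebra K' M) (_ : FiniteDimensional K' M) (_ : Algebra.IsSeparable K' M),
      (Module.finrank K' M = 1 ∨ Module.finrank K' M = ℓ) ∧ Dix.CohDimLEAt (Spec (CommRingCat.of M)) ℓ d := by
  let Ω := SeparableClosure K'
  obtain ⟨α, hα⟩ := Field.exists_primitive_element K L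
  haveI : IsScalarTower K K' Ω := inferInstance
  let φ : L →ₐ[K] Ω := IsSepClosed.lift
  let M := K'⟮φ α⟯
  have hint : IsIntegral K' (φ α) := Algebra.IsIntegral.isIntegral _
  haveI : FiniteDimensional K' M := adjoin.finiteDimensional hint
  have hle : Module.finrank K' M ≤ ℓ := by
    rw [adjoin.finrank hint]
    refine le_trans (Polynomial.natDegree_le_of_dvd (minpoly.dvd_map_of_isScalarTower K K' (φ α))
      ((Polynomial.map_ne_zero_iff (algebraMap K K').injective).2 (minpoly.ne_zero (Algebra.IsIntegral.isIntegral α |>.map φ)))) ?_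
    rw [Polynomial.natDegree_map, minpoly.algHom_eq φ φ.toRingHom.injective,
      ← adjoin.finrank (Algebra.IsIntegral.isIntegral α), hα, IntermediateField.finrank_top']
    exact hdeg
  obtain ⟨m, hm⟩ := isPClosed_of_finite hK K' M inferInstance inferInstance
  have hmem : ∀ x, φ x ∈ M.restrictScalars K := fun x => by
    have hx : x ∈ K⟮α⟯ := hα ▸ IntermediateField.mem_top
    have hx' : φ x ∈ K⟮φ α⟯ := by
      rw [← Set.image_singleton, ← IntermediateField.adjoin_map]
      exact ⟨x, hx, rfl⟩
    exact (IntermediateField.adjoin_simple_le_iff.2 (mem_adjoin_simple_self K' (φ α)) :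
      K⟮φ α⟯ ≤ M.restrictScalars K) hx'
  let φM : L →ₐ[K] M.restrictScalars K := φ.codRestrict (M.restrictScalars K).toSubalgebra hmem
  haveI : IsScalarTower K K' M := inferInstance
  letI algLM : Algebra L M := φM.toRingHom.toAlgebra
  haveI : FiniteDimensional K M := Module.Finite.trans K' M
  haveI : Algebra.IsAlgebraic L M := ⟨fun y => IsIntegral.isAlgebraic (by
    haveI : Algebra.IsIntegral K M := Algebra.IsIntegral.of_finite K M
    obtain ⟨p, hp, hpy⟩ := Algebra.IsIntegral.isIntegral (R := K) y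
    refine ⟨p.map (algebraMap K L), hp.map _, ?_⟩
    rw [Polynomial.eval₂_map]
    refine Eq.trans (congrArg (fun r : K →+* M => Polynomial.eval₂ r y p) (RingHom.ext fun c => ?_)) hpy
    exact Subtype.ext (φ.commutes c))⟩
  refine ⟨M, inferInstance, inferInstance, inferInstance, inferInstance, ?_, cohDimLEAt_of_algebraic L M h⟩
  rcases m with _ | _ | m
  · exact Or.inl (hm.trans (pow_zero _))
  · exact Or.inr (hm.trans (pow_one _))
  · exfalso
    rw [hm] at hle
    have := Nat.pow_lt_pow_right hℓ.out.one_lt (show 1 < m + 1 + 1 by omega)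
    rw [pow_one] at this
    omega

theorem cd_of_finrank_one {K M : Type u} [Field K] [Field M] [Algebra K M] (h : Module.finrank K M = 1) {d : ℕ}
    (hM : Dix.CohDimLEAt (Spec (CommRingCat.of M)) ℓ d) : Dix.CohDimLEAt (Spec (CommRingCat.of K)) ℓ d := by
  haveI : FiniteDimensional K M := FiniteDimensional.of_finrank_pos (by omega)
  exact cohDimLEAt_of_ringEquiv (RingEquiv.ofBijective (algebraMap K M)
    ⟨(algebraMap K M).injective, fun x => by
      obtain ⟨c, hc⟩ := (finrank_eq_one_iff_of_nonzero' (1 : M) one_ne_zero).1 h x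
      exact ⟨c, by rw [← hc, Algebra.smul_def, mul_one]⟩⟩).symm hM

/-- Descent of `cd ≤ d` to a finite separable extension `K'` of `K`. -/
theorem cd_of_core {K : Type u} [Field K] (hK : IsPClosed ℓ K) (L : Type u) [Field L] [Algebra K L]
    [FiniteDimensional K L] [Algebra.IsSeparable K L] (hdeg : Module.finrank K L ≤ ℓ) {d : ℕ}
    (h : Dix.CohDimLEAt (Spec (CommRingCat.of L)) ℓ d) (K' : Type u) [Field K'] [Algebra K K']
    [FiniteDimensional K K'] [Algebra.IsSeparable K K']
    (hcore : ∀ (K'' : Type u) [Field K''] [Algebra K' K''] [FiniteDimensional K' K''] [Algebra.IsSeparable K' K''],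
      Core K'' ℓ d) :
    Dix.CohDimLEAt (Spec (CommRingCat.of K')) ℓ d := by
  refine cohDimLEAt_of_finite K' ℓ d fun K'' _ _ _ _ => ?_
  letI : Algebra K K'' := ((algebraMap K' K'').comp (algebraMap K K')).toAlgebra
  haveI : IsScalarTower K K' K'' := IsScalarTower.of_algebraMap_eq' rfl
  haveI : FiniteDimensional K K'' := Module.Finite.trans K' K''
  haveI : Algebra.IsSeparable K K'' := Algebra.IsSeparable.trans K K' K''
  obtain ⟨M, _, _, _, _, h1 | h1, hM⟩ := exists_compositum hK L hdeg K'' h
  · exact subsingleton_const_of_cd (cd_of_finrank_one h1 hM) (d + 1) d.lt_succ_self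
  · exact hcore K'' M h1 hM (d + 1) d.lt_succ_self

theorem natCast_ne_zero_of_algebra {K : Type u} [Field K] (hℓK : (ℓ : K) ≠ 0) (L : Type u) [Field L]
    [Algebra K L] : (ℓ : L) ≠ 0 := fun h => hℓK
  ((algebraMap K L).injective (by rw [map_natCast, map_zero]; exact h))

theorem core_of_zeta {K : Type u} [Field K] (hK : IsPClosed ℓ K) (hℓK : (ℓ : K) ≠ 0) {ω : K}
    (hω : IsPrimitiveRoot ω (ℓ * ℓ)) (d : ℕ) : Core K ℓ d := by
  intro L _ _ _ _ hdeg hL q hq
  haveI := isGalois_of_finrank_eq hK L hdeg
  exact subsingleton_const_of_extends K ℓ d L hdeg (extends_of_zeta hK hℓK hω L hdeg) hL q hq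

theorem core_of_odd (hodd : ℓ ≠ 2) {K : Type u} [Field K] (hK : IsPClosed ℓ K) (hℓK : (ℓ : K) ≠ 0) (d : ℕ) :
    Core K ℓ d := by
  by_cases hω : ∃ ω : K, IsPrimitiveRoot ω (ℓ * ℓ)
  · obtain ⟨ω, hω⟩ := hω
    exact core_of_zeta hK hℓK hω d
  intro L _ _ _ _ hdeg hL q hq
  obtain ⟨E, _, ω, hω', hE, hext⟩ := exists_extends_odd hK hℓK hodd hω
  haveI := isGalois_of_finrank_eq hK E hE
  refine subsingleton_const_of_extends K ℓ d E hE hext ?_ q hq
  refine cd_of_core hK L hdeg.le hL E fun K'' _ _ _ _ => ?_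
  exact core_of_zeta (isPClosed_of_finite (isPClosed_of_finite hK E) K'')
    (natCast_ne_zero_of_algebra (natCast_ne_zero_of_algebra hℓK E) K'') (hω'.map_of_injective (algebraMap E K'').injective) d

theorem core_two (n : ℕ) : ∀ (K : Type u) [Field K], IsPClosed 2 K → (2 : K) ≠ 0 →
    ∀ l : List K, l.length ≤ n → (l.map fun x => x * x).sum = -1 → ∀ d, Core K 2 d := by
  haveI : Fact (Nat.Prime 2) := ⟨Nat.prime_two⟩
  induction n with
  | zero =>
    intro K _ _ _ l hl hs
    rw [List.eq_nil_of_length_eq_zero (Nat.le_zero.1 hl), List.map_nil, List.sum_nil] at hs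
    exact absurd hs.symm (neg_ne_zero.2 one_ne_zero)
  | succ n ih =>
    intro K _ hK h2 l hl hs d
    have h2' : ((2 : ℕ) : K) ≠ 0 := by exact_mod_cast h2
    match l, hl, hs with
    | [], _, hs =>
      rw [List.map_nil, List.sum_nil] at hs
      exact absurd hs.symm (neg_ne_zero.2 one_ne_zero)
    | [x], _, hs =>
      rw [List.map_cons, List.map_nil, List.sum_cons, List.sum_nil, add_zero] at hs
      refine core_of_zeta hK h2' (ω := x) ?_ d
      refine IsPrimitiveRoot.iff_orderOf.2 (orderOf_eq_prime_pow (p := 2) (n := 1) ?_ ?_)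
      · rw [pow_one, pow_two, hs]
        exact fun h => h2 (by linear_combination -h)
      · rw [show 2 ^ (1 + 1) = 2 * 2 from rfl, pow_mul, pow_two x, hs, neg_one_sq]
    | x :: y :: t, hl, hs =>
      simp only [List.map_cons, List.sum_cons, List.length_cons] at hs hl
      by_cases ha : ∃ c : K, c * c = x * x + y * y
      · obtain ⟨c, hc⟩ := ha
        refine ih K hK h2 (c :: t) (by simp only [List.length_cons]; omega) ?_ d
        simp only [List.map_cons, List.sum_cons]
        rw [hc, add_assoc]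
        exact hs
      push Not at ha
      intro L _ _ _ _ hdeg hL q hq
      obtain ⟨E, _, α, hα, hE, hext⟩ := exists_extends_two hK h2 x y ha
      haveI := isGalois_of_finrank_eq hK E hE
      refine subsingleton_const_of_extends K 2 d E hE hext ?_ q hq
      refine cd_of_core hK L hdeg.le hL E fun K'' _ _ _ _ => ?_
      let φ : K →+* K'' := (algebraMap E K'').comp (algebraMap K E)
      refine ih K'' (isPClosed_of_finite (isPClosed_of_finite hK E) K'')
        (by rw [← map_ofNat φ 2]; exact (_root_.map_ne_zero φ).2 h2)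
        (algebraMap E K'' α :: t.map φ) (by simp only [List.length_cons, List.length_map]; omega) ?_ d
      have e1 : ((t.map φ).map fun z => z * z).sum = φ ((t.map fun z => z * z).sum) := by
        rw [map_list_sum, List.map_map, List.map_map]
        congr 1
        exact List.map_congr_left fun z _ => (map_mul φ z z).symm
      rw [List.map_cons, List.sum_cons, e1, ← map_mul, hα]
      show φ (x * x + y * y) + _ = -1
      rw [← map_add, add_assoc, hs, map_neg, map_one]

theorem exists_list_of_isSumSq {K : Type u} [CommRing K] {a : K} (h : IsSumSq a) :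
    ∃ l : List K, (l.map fun x => x * x).sum = a := by
  induction h with
  | zero => exact ⟨[], rfl⟩
  | sq_add x _ ih =>
    obtain ⟨l, rfl⟩ := ih
    exact ⟨x :: l, by simp⟩

theorem core_of_hyp {K : Type u} [Field K] (hK : IsPClosed ℓ K) (hℓK : (ℓ : K) ≠ 0)
    (hyp : ℓ ≠ 2 ∨ ∃ l : List K, (l.map fun x => x * x).sum = -1) (d : ℕ) : Core K ℓ d := by
  by_cases h : ℓ = 2
  · subst h
    obtain ⟨l, hl⟩ := hyp.resolve_left (fun h => h rfl)
    exact core_two l.length K hK (by exact_mod_cast hℓK) l le_rfl hl d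
  · exact core_of_odd h hK hℓK d

theorem list_map_hom {K L : Type u} [Field K] [Field L] (φ : K →+* L) {l : List K}
    (h : (l.map fun x => x * x).sum = -1) : ((l.map φ).map fun x => x * x).sum = -1 := by
  rw [← map_one φ, ← map_neg φ, ← h, map_list_sum, List.map_map, List.map_map]
  congr 1
  exact List.map_congr_left fun z _ => (map_mul φ z z).symm

/-- Descent over `ℓ`-closed fields. -/
theorem cd_descent_pClosed (n : ℕ) : ∀ (K : Type u) [Field K], IsPClosed ℓ K → (ℓ : K) ≠ 0 →
    (ℓ ≠ 2 ∨ ∃ l : List K, (l.map fun x => x * x).sum = -1) →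
    ∀ (M : Type u) [Field M] [Algebra K M] [FiniteDimensional K M] [Algebra.IsSeparable K M],
      Module.finrank K M ≤ n → ∀ d, Dix.CohDimLEAt (Spec (CommRingCat.of M)) ℓ d →
        Dix.CohDimLEAt (Spec (CommRingCat.of K)) ℓ d := by
  induction n with
  | zero =>
    intro K _ _ _ _ M _ _ _ _ hn
    exact absurd Module.finrank_pos (not_lt.2 hn)
  | succ n ih =>
    intro K _ hK hℓK hyp M _ _ _ _ hn d hM
    by_cases h1 : Module.finrank K M = 1
    · exact cd_of_finrank_one h1 hM
    obtain ⟨E, hE⟩ := exists_subfield_degree hK M h1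
    have hmul := Module.finrank_mul_finrank K E M
    rw [hE] at hmul
    have hn' : Module.finrank E M ≤ n := by
      have h2 := hℓ.out.two_le
      have h3 : 0 < Module.finrank E M := Module.finrank_pos
      nlinarith
    have hEcd := ih E (isPClosed_of_finite hK E) (natCast_ne_zero_of_algebra hℓK E)
      (hyp.imp_right fun ⟨l, hl⟩ => ⟨l.map (algebraMap K E), list_map_hom _ hl⟩) M hn' d hM
    refine cd_of_core hK E hE.le hEcd K fun K'' _ _ _ _ => ?_
    exact core_of_hyp (isPClosed_of_finite hK K'') (natCast_ne_zero_of_algebra hℓK K'')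
      (hyp.imp_right fun ⟨l, hl⟩ => ⟨l.map (algebraMap K K''), list_map_hom _ hl⟩) d

/-- **Serre's theorem.** Cohomological dimension descends along finite extensions. -/
theorem cohDimLEAt_of_finite_extension (k : Type u) [Field k] (L : Type u) [Field L] [Algebra k L]
    [FiniteDimensional k L] (hℓk : (ℓ : k) ≠ 0) (hyp : ℓ ≠ 2 ∨ IsSumSq (-1 : k)) {d : ℕ}
    (h : Dix.CohDimLEAt (Spec (CommRingCat.of L)) ℓ d) : Dix.CohDimLEAt (Spec (CommRingCat.of k)) ℓ d := by
  let Ls := separableClosure k L
  have hs : Dix.CohDimLEAt (Spec (CommRingCat.of Ls)) ℓ d := cohDimLEAt_of_purelyInseparable Ls L h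
  obtain ⟨α, hα⟩ := Field.exists_primitive_element k Ls
  refine cohDimLEAt_of_pClosed k ℓ d fun K _ _ _ hK => ?_
  let Ω := SeparableClosure K
  haveI : IsScalarTower k K Ω := inferInstance
  let φ : Ls →ₐ[k] Ω := IsSepClosed.lift
  let M := K⟮φ α⟯
  haveI : FiniteDimensional K M := adjoin.finiteDimensional (Algebra.IsIntegral.isIntegral _)
  have hmem : ∀ x, φ x ∈ M.restrictScalars k := fun x => by
    have hx : x ∈ k⟮α⟯ := hα ▸ IntermediateField.mem_top
    have hx' : φ x ∈ k⟮φ α⟯ := by
      rw [← Set.image_singleton, ← IntermediateField.adjoin_map]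
      exact ⟨x, hx, rfl⟩
    exact (IntermediateField.adjoin_simple_le_iff.2 (mem_adjoin_simple_self K (φ α)) :
      k⟮φ α⟯ ≤ M.restrictScalars k) hx'
  let φM : Ls →ₐ[k] M.restrictScalars k := φ.codRestrict (M.restrictScalars k).toSubalgebra hmem
  letI : Algebra Ls M := φM.toRingHom.toAlgebra
  haveI : IsScalarTower k Ls M := IsScalarTower.of_algebraMap_eq fun x => (φM.commutes x).symm
  haveI : Algebra.IsAlgebraic k K := Algebra.IsSeparable.isAlgebraic k K
  haveI : Algebra.IsAlgebraic k M := Algebra.IsAlgebraic.trans k K M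
  haveI : Algebra.IsAlgebraic Ls M := Algebra.IsAlgebraic.tower_top (K := k) Ls
  have hM := cohDimLEAt_of_algebraic Ls M hs
  refine subsingleton_const_of_cd (cd_descent_pClosed (Module.finrank K M) K hK
    (natCast_ne_zero_of_algebra hℓk K) (hyp.imp_right fun hh => ?_) M le_rfl d hM) (d + 1) d.lt_succ_self
  obtain ⟨l, hl⟩ := exists_list_of_isSumSq hh
  exact ⟨l.map (algebraMap k K), list_map_hom _ hl⟩

end Groth.Agent.H05EGA4.EtCl.Lower
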