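import Groth.Agent.H05EGA4.EtCl.Lower.DvrResidue
import Groth.Agent.H05EGA4.EtCl.Lower.SylowCrit
import Groth.Agent.H05EGA4.EtCl.FieldTr
import Groth.Agent.H9Hens.LocalHens
import Groth.Agent.H7Flat.FlatTransfer
import Mathlib.RingTheory.AdjoinRoot
import Mathlib.FieldTheory.PrimitiveElement

/-!
# The residue field of a discrete valuation ring loses one degree of cohomological dimension
-/

set_option autoImplicit false
set_option linter.style.haveILetI false
set_option linter.unusedSectionVars false
set_option linter.overlappingInstances false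
set_option backward.isDefEq.respectTransparency false
set_option backward.isDefEq.respectTransparency.types false

universe u

open CategoryTheory CategoryTheory.Limits AlgebraicGeometry Opposite Polynomial TensorProduct
open scoped Classical

namespace Groth.Agent.H05EGA4.EtCl.Lower

open scoped Groth.Agent.H18Et

/-- Cohomological dimension does not grow in algebraic extensions. -/
theorem cohDimLEAt_algebraic (K L : Type u) [Field K] [Field L] [Algebra K L] [Algebra.IsAlgebraic K L] {ℓ d : ℕ}
    (h : Dix.CohDimLEAt (Spec (CommRingCat.of K)) ℓ d) : Dix.CohDimLEAt (Spec (CommRingCat.of L)) ℓ d := by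
  haveI : IsIntegralHom (Spec.map (CommRingCat.ofHom (algebraMap K L))) :=
    IsIntegralHom.SpecMap_iff.2 (algebraMap_isIntegral_iff.mpr inferInstance)
  exact cohDimLEAt_of_isIntegralHom (Spec.map (CommRingCat.ofHom (algebraMap K L))) h

/-- Transport along isomorphisms of fields. -/
theorem subsingleton_H_const_of_iso {A B : CommRingCat.{u}} (e : A ≅ B) {ℓ : ℕ} (q : ℕ)
    (h : Subsingleton (EtCoh.H (Spec A) (EtCoh.const (Spec A) (ZMod ℓ)) q)) :
    Subsingleton (EtCoh.H (Spec B) (EtCoh.const (Spec B) (ZMod ℓ)) q) := by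
  let a : Spec A ⟶ Spec B := Spec.map e.inv
  let b : Spec B ⟶ Spec A := Spec.map e.hom
  haveI : IsIso a := inferInstanceAs (IsIso (Spec.map e.inv))
  haveI := H18Et.pull_preservesFiniteLimits a
  haveI := subsingleton_H_of_iso (EtCore.pullConst a (ZMod ℓ)).symm q h
  exact Function.Injective.subsingleton (β := EtCoh.H (Spec A) ((EtCoh.pull a).obj (EtCoh.const (Spec B) (ZMod ℓ))) q)
    (S0642.result a (EtCoh.const (Spec B) (ZMod ℓ)) q).1

/-- A henselization of a discrete valuation ring, with the same residue field and an algebraic fraction field. -/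
theorem exists_henselization_dvr (A : Type u) [CommRing A] [IsDomain A] [IsDiscreteValuationRing A]
    {ℓ d : ℕ} (h : Dix.CohDimLEAt (Spec (CommRingCat.of (FractionRing A))) ℓ d) :
    ∃ (H : Type u) (_ : CommRing H) (_ : IsDomain H) (_ : IsDiscreteValuationRing H) (_ : HenselianLocalRing H),
      (∀ m : ℕ, (IsUnit (m : A) → IsUnit (m : H)) ∧ ((m : A) ≠ 0 → (m : H) ≠ 0)) ∧
      Dix.CohDimLEAt (Spec (CommRingCat.of (FractionRing H))) ℓ d ∧
        Nonempty (IsLocalRing.ResidueField H ≃+* IsLocalRing.ResidueField A) := by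
  obtain ⟨H, _, _, _, _, π, hπ, hH⟩ := H9Hens.exists_isHenselization_colim (R := A)
  haveI := hH.henselian
  haveI := hπ.isNoetherianRing H9Hens.ker_algebraMap_residueField
  haveI := hπ.faithfullyFlat H9Hens.ker_algebraMap_residueField
  have hdvr : ∃ _ : IsDomain H, IsDiscreteValuationRing H := (S9262.isDVR_iff H).2 (by
    obtain ⟨h1, h2⟩ := (S9262.isDVR_iff A).1 ⟨inferInstance, inferInstance⟩
    exact ⟨(H9Hens.isRegularLocalRing_iff_of_map_maximalIdeal A H
      (hπ.map_maximalIdeal H9Hens.ker_algebraMap_residueField)).1 h1,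
      (hπ.ringKrullDim_eq H9Hens.ker_algebraMap_residueField).trans h2⟩)
  obtain ⟨hdom, hdvr'⟩ := hdvr
  haveI := hdom
  haveI := hdvr'
  have hinj : Function.Injective (algebraMap A H) := FaithfulSMul.algebraMap_injective A H
  let K := FractionRing A
  let L := FractionRing H
  letI : Algebra K L := FractionRing.liftAlgebra A L
  -- the fraction field is algebraic
  have hy : ∀ y : H, IsIntegral K (algebraMap H L y) := fun y => by
    obtain ⟨S, _, _, _, φ, y₀, rfl⟩ := hπ.exists_rep y
    haveI : Algebra.Etale K (K ⊗[A] S) := inferInstance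
    haveI : Module.Finite K (K ⊗[A] S) := Algebra.FormallyUnramified.finite_of_free K (K ⊗[A] S)
    let Φ : K ⊗[A] S →ₐ[K] L := Algebra.TensorProduct.lift (Algebra.ofId K L)
      ((IsScalarTower.toAlgHom A H L).comp φ) fun _ _ => Commute.all _ _
    have h1 := (Algebra.IsIntegral.isIntegral (R := K) ((1 : K) ⊗ₜ[A] y₀)).map Φ
    rwa [Algebra.TensorProduct.lift_tmul, map_one, one_mul] at h1
  haveI : Algebra.IsAlgebraic K L := ⟨fun x => by
    obtain ⟨a, b, -, rfl⟩ := IsFractionRing.div_surjective H x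
    exact ((hy a).isAlgebraic).mul ((hy b).isAlgebraic).inv⟩
  let e₁ : H ⧸ RingHom.ker (π : H →+* IsLocalRing.ResidueField A) ≃+* IsLocalRing.ResidueField A :=
    RingHom.quotientKerEquivOfSurjective (f := (π : H →+* IsLocalRing.ResidueField A)) fun a => by
      obtain ⟨a, rfl⟩ := IsLocalRing.residue_surjective a
      exact ⟨algebraMap A H a, π.commutes a⟩
  exact ⟨H, inferInstance, hdom, hdvr', inferInstance, fun m => ⟨fun hm => map_natCast (algebraMap A H) m ▸ hm.map _,
      fun hm h0 => hm (hinj (by rw [map_natCast, h0, map_zero]))⟩, cohDimLEAt_algebraic K L h,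
    ⟨(Ideal.quotEquivOfEq hπ.maximalIdeal_eq).trans e₁⟩⟩

/-- Separable finite extensions of the residue field come from finite extensions. -/
theorem exists_lift_dvr (V : Type u) [CommRing V] [IsDomain V] [IsDiscreteValuationRing V]
    {ℓ d : ℕ} (h : Dix.CohDimLEAt (Spec (CommRingCat.of (FractionRing V))) ℓ d)
    (L : Type u) [Field L] [Algebra (IsLocalRing.ResidueField V) L] [FiniteDimensional (IsLocalRing.ResidueField V) L]
    [Algebra.IsSeparable (IsLocalRing.ResidueField V) L] :
    ∃ (H : Type u) (_ : CommRing H) (_ : IsDomain H) (_ : IsDiscreteValuationRing H) (_ : HenselianLocalRing H),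
      (∀ m : ℕ, (IsUnit (m : V) → IsUnit (m : H)) ∧ ((m : V) ≠ 0 → (m : H) ≠ 0)) ∧
      Dix.CohDimLEAt (Spec (CommRingCat.of (FractionRing H))) ℓ d ∧
        Nonempty (IsLocalRing.ResidueField H ≃+* L) := by
  let k := IsLocalRing.ResidueField V
  obtain ⟨α, hα⟩ := Field.exists_primitive_element k L
  have hint : IsIntegral k α := Algebra.IsIntegral.isIntegral α
  obtain ⟨g, hg, -, hgm⟩ := lifts_and_natDegree_eq_and_monic
    (f := IsLocalRing.residue V) (p := minpoly k α) (map_surjective _ IsLocalRing.residue_surjective _)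
    (minpoly.monic hint)
  have hgirr : Irreducible g :=
    hgm.irreducible_of_irreducible_map (IsLocalRing.residue V) g (hg ▸ minpoly.irreducible hint)
  have hgpr : Prime g := UniqueFactorizationMonoid.irreducible_iff_prime.1 hgirr
  let V' := AdjoinRoot g
  haveI hdom : IsDomain V' := AdjoinRoot.isDomain_of_prime hgpr
  haveI : Module.Finite V V' := hgm.finite_adjoinRoot
  haveI : Module.Free V V' := hgm.free_adjoinRoot
  haveI : IsNoetherianRing V' := isNoetherianRing_of_surjective _ _ (AdjoinRoot.mk g) AdjoinRoot.mk_surjective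
  have hinj : Function.Injective (algebraMap V V') := FaithfulSMul.algebraMap_injective V V'
  -- the map to the residue extension
  let ρ : V' →+* L := AdjoinRoot.lift ((algebraMap k L).comp (IsLocalRing.residue V)) α (by
    rw [← eval₂_map, hg]
    exact minpoly.aeval k α)
  have hρof : ∀ v, ρ (algebraMap V V' v) = algebraMap k L (IsLocalRing.residue V v) := fun v =>
    AdjoinRoot.lift_of _
  have hρmk : ∀ q : V[X], ρ (AdjoinRoot.mk g q) = aeval α (q.map (IsLocalRing.residue V)) := fun q => by
    rw [AdjoinRoot.lift_mk, aeval_def, eval₂_map]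
  have hsurj : Function.Surjective ρ := fun x => by
    have hx : x ∈ Algebra.adjoin k {α} := by
      rw [← IntermediateField.adjoin_simple_toSubalgebra_of_isAlgebraic hint.isAlgebraic, hα]
      exact trivial
    rw [Algebra.adjoin_singleton_eq_range_aeval] at hx
    obtain ⟨q, rfl⟩ := hx
    obtain ⟨q', rfl⟩ := map_surjective (IsLocalRing.residue V) IsLocalRing.residue_surjective q
    exact ⟨AdjoinRoot.mk g q', hρmk q'⟩
  have hker : RingHom.ker ρ = (IsLocalRing.maximalIdeal V).map (algebraMap V V') := by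
    refine le_antisymm (fun x hx => ?_) (Ideal.map_le_iff_le_comap.2 fun v hv => ?_)
    · obtain ⟨q, rfl⟩ := AdjoinRoot.mk_surjective x
      rw [RingHom.mem_ker, hρmk] at hx
      obtain ⟨c, hc⟩ := minpoly.dvd k α hx
      obtain ⟨c', rfl⟩ := map_surjective (IsLocalRing.residue V) IsLocalRing.residue_surjective c
      have h1 : q - g * c' ∈ (IsLocalRing.maximalIdeal V).map C := by
        rw [← IsLocalRing.ker_residue, ← ker_mapRingHom, RingHom.mem_ker, coe_mapRingHom, Polynomial.map_sub,
          Polynomial.map_mul, hc, hg, sub_self]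
      have h2 := Ideal.mem_map_of_mem (AdjoinRoot.mk g) h1
      rw [Ideal.map_map, map_sub, map_mul, AdjoinRoot.mk_self, zero_mul, sub_zero] at h2
      exact h2
    · rw [Ideal.mem_comap, RingHom.mem_ker, hρof, (IsLocalRing.residue_eq_zero_iff v).2 hv, map_zero]
  haveI hloc : IsLocalRing V' := IsLocalRing.of_unique_max_ideal ⟨RingHom.ker ρ,
    RingHom.ker_isMaximal_of_surjective ρ hsurj, fun M hM => ((RingHom.ker_isMaximal_of_surjective ρ hsurj).eq_of_le
      hM.ne_top (by
        rw [hker, Ideal.map_le_iff_le_comap]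
        haveI := hM
        haveI := Ideal.isMaximal_comap_of_isIntegral_of_isMaximal (R := V) M
        exact (IsLocalRing.eq_maximalIdeal this).ge)).symm⟩
  have hmax : RingHom.ker ρ = IsLocalRing.maximalIdeal V' :=
    IsLocalRing.eq_maximalIdeal (RingHom.ker_isMaximal_of_surjective ρ hsurj)
  obtain ⟨ϖ, hϖ⟩ := IsDiscreteValuationRing.exists_irreducible V
  have hmax' : IsLocalRing.maximalIdeal V' = Ideal.span {algebraMap V V' ϖ} := by
    rw [← hmax, hker, hϖ.maximalIdeal_eq, Ideal.map_span, Set.image_singleton]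
  haveI : IsDiscreteValuationRing V' := by
    have hnf : ¬ IsField V' := fun hf => by
      rw [IsLocalRing.isField_iff_maximalIdeal_eq, hmax', Ideal.span_singleton_eq_bot] at hf
      exact hϖ.ne_zero (hinj (hf.trans (map_zero _).symm))
    have h1 : (IsLocalRing.maximalIdeal V').IsPrincipal := ⟨⟨algebraMap V V' ϖ, hmax'⟩⟩
    have h2 : IsDiscreteValuationRing V' ↔ (IsLocalRing.maximalIdeal V').IsPrincipal :=
      (IsDiscreteValuationRing.TFAE V' hnf).out 0 4
    exact h2.2 h1
  let K := FractionRing V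
  let K' := FractionRing V'
  letI : Algebra K K' := FractionRing.liftAlgebra V K'
  haveI : Algebra.IsAlgebraic V V' := Algebra.IsIntegral.isAlgebraic
  have hy : ∀ y : V', IsIntegral K (algebraMap V' K' y) := fun y =>
    ((Algebra.IsIntegral.isIntegral (R := V) y).map (IsScalarTower.toAlgHom V V' K')).tower_top
  haveI : Algebra.IsAlgebraic K K' := ⟨fun x => by
    obtain ⟨a, b, -, rfl⟩ := IsFractionRing.div_surjective V' x
    exact ((hy a).isAlgebraic).mul ((hy b).isAlgebraic).inv⟩
  obtain ⟨H, _, _, _, _, hH1, hH2, ⟨e⟩⟩ := exists_henselization_dvr V' (cohDimLEAt_algebraic K K' h)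
  exact ⟨H, inferInstance, inferInstance, inferInstance, inferInstance, fun m =>
    ⟨fun hm => (hH1 m).1 (map_natCast (algebraMap V V') m ▸ hm.map _),
      fun hm => (hH1 m).2 fun h0 => hm (hinj (by rw [map_natCast, h0, map_zero]))⟩, hH2,
    ⟨e.trans ((Ideal.quotEquivOfEq hmax.symm).trans (RingHom.quotientKerEquivOfSurjective hsurj))⟩⟩

/-- **The residue field of a discrete valuation ring.** If `cd_ℓ(K) ≤ d` then `d ≥ 1` and `cd_ℓ(k) ≤ d - 1`. -/
theorem cohDimLEAt_residue (V : Type u) [CommRing V] [IsDomain V] [IsDiscreteValuationRing V]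
    (K : Type u) [Field K] [Algebra V K] [IsFractionRing V K] {ℓ : ℕ} [Fact ℓ.Prime] (hℓ : IsUnit (ℓ : V)) {d : ℕ}
    (h : Dix.CohDimLEAt (Spec (CommRingCat.of K)) ℓ d) :
    1 ≤ d ∧ Dix.CohDimLEAt (Spec (CommRingCat.of (IsLocalRing.ResidueField V))) ℓ (d - 1) := by
  have hd := one_le_of_cohDimLEAt hℓ h
  refine ⟨hd, ?_⟩
  obtain ⟨e, rfl⟩ : ∃ e, d = e + 1 := ⟨d - 1, (Nat.sub_add_cancel hd).symm⟩
  rw [Nat.add_sub_cancel]
  have h' : Dix.CohDimLEAt (Spec (CommRingCat.of (FractionRing V))) ℓ (e + 1) :=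
    cohDimLEAt_of_iso (Spec.map (IsLocalization.algEquiv (nonZeroDivisors V) K
      (FractionRing V)).toRingEquiv.toCommRingCatIso.hom) h
  refine cohDimLEAt_of_finite _ ℓ e fun L _ _ _ _ => ?_
  obtain ⟨H, _, _, _, _, hH1, hH2, ⟨ε⟩⟩ := exists_lift_dvr V h' L
  have hμ : Dix.IsPrimaryTorsion ℓ (EtCoh.mu (Spec (CommRingCat.of (FractionRing H))) ℓ) :=
    fun U s x => ⟨U, 𝟙 U, ⟨x, rfl⟩, 1, by
      rw [pow_one, op_id, CategoryTheory.Functor.map_id]
      exact S7732.killedBy_mu _ ℓ U s⟩
  exact subsingleton_H_const_of_iso (RingEquiv.toCommRingCatIso ε) (e + 1)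
    (subsingleton_H_residue (K := FractionRing H) ((hH1 ℓ).1 hℓ) e (hH2 _ hμ _ (by omega)))

end Groth.Agent.H05EGA4.EtCl.Lower
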