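import Groth.Agent.H05EGA4.EtCl.Lower.GenericStalk
import Groth.Agent.H23Geom.DepthLocal
import Groth.Agent.H15Site.HensCoh.Main
import Groth.Agent.H15Site.IntDesc.PushH
import Groth.Agent.S7732
import Groth.Prelude.Def_EtCore

/-!
# The residue field of a henselian discrete valuation ring

If `H^{q+1}(K, μ_ℓ) = 0` for the fraction field then `H^q(k, ℤ/ℓ) = 0` for the residue field; and
`cd_ℓ(K) ≥ 1`.
-/

set_option autoImplicit false
set_option linter.style.haveILetI false
set_option linter.unusedSectionVars false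
set_option linter.overlappingInstances false
set_option backward.isDefEq.respectTransparency false
set_option backward.isDefEq.respectTransparency.types false

universe u

open CategoryTheory CategoryTheory.Limits AlgebraicGeometry Opposite Abelian
open scoped Classical
open Groth.Agent.H18Et.MuConst (sec)

namespace Groth.Agent.H05EGA4.EtCl.Lower

open Groth.Agent.H18Et.ConstSheaf (rest unitTop homConst homConst_rest constHom_ext rest_unitTop isConstant_unitTop)
open scoped Groth.Agent.H18Et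

variable (R K : Type u) [CommRing R] [IsDomain R] [IsDiscreteValuationRing R] [Field K] [Algebra R K]
  [IsFractionRing R K]

local notation "SK" => Spec (CommRingCat.of K)
local notation "Yh" => Spec (CommRingCat.of R)

/-- Étale schemes over a field are discrete. -/
theorem discrete_bc_jgen (V : (Yh).Etale) : DiscreteTopology ((EtCoh.bc (jgen R K)).obj V).left := by
  let W := (EtCoh.bc (jgen R K)).obj V
  haveI : Etale W.hom := W.prop
  have h1 := (W.hom.isDiscrete_preimage_singleton (default : PrimeSpectrum K))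
  rw [show W.hom.base ⁻¹' {(default : PrimeSpectrum K)} = Set.univ from
    Set.eq_univ_of_forall fun _ => Subsingleton.elim (α := PrimeSpectrum K) _ _] at h1
  exact isDiscrete_univ_iff.1 h1

theorem isUnit_nat_K {ℓ : ℕ} (hℓ : IsUnit (ℓ : R)) : IsUnit (ℓ : Γ(SK, ⊤)) := by
  rw [← map_natCast ((Scheme.ΓSpecIso (CommRingCat.of K)).inv.hom.comp (algebraMap R K))]
  exact hℓ.map _

/-- The Kummer sequence. -/
theorem shortExact_kummer {X : Scheme.{u}} {ℓ : ℕ} (hℓ : IsUnit (ℓ : Γ(X, ⊤))) :
    (ShortComplex.mk (EtCoh.muι X ℓ) (EtCoh.powMap X ℓ) (kernel.condition _)).ShortExact :=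
  { exact := ShortComplex.exact_of_f_is_kernel _ (kernelIsKernel _)
    mono_f := inferInstanceAs (Mono (kernel.ι _))
    epi_g := S0108.result X ℓ hℓ }

variable {R K}

/-- The integers. -/
noncomputable abbrev Z0 : AddCommGrpCat.{u + 1} := AddCommGrpCat.of (ULift.{u + 1} ℤ)

/-- The integers modulo `ℓ`. -/
noncomputable abbrev Zm (ℓ : ℕ) : AddCommGrpCat.{u + 1} := AddCommGrpCat.of (ULift.{u + 1} (ZMod ℓ))

section

variable [HenselianLocalRing R] {ℓ : ℕ} [hℓp : Fact ℓ.Prime] (hℓ : IsUnit (ℓ : R))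

local notation "ih" => Spec.map (CommRingCat.ofHom (IsLocalRing.residue R))
set_option quotPrecheck false in
local notation "jG" => (EtCoh.push (jgen R K)).obj (EtCoh.Gm SK)

variable (ℓ) in
/-- Multiplication by `ℓ` on `ℤ`. -/
noncomputable def lmap : Z0.{u} ⟶ Z0.{u} := ℓ • 𝟙 Z0.{u}

variable (ℓ) in
/-- Reduction modulo `ℓ`. -/
noncomputable def qmap : Z0.{u} ⟶ (Zm.{u} ℓ) :=
  AddCommGrpCat.ofHom (AddEquiv.ulift.symm.toAddMonoidHom.comp
    ((Int.castAddHom (ZMod ℓ)).comp AddEquiv.ulift.toAddMonoidHom))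

theorem lmap_qmap : lmap.{u} ℓ ≫ qmap.{u} ℓ = 0 := by
  ext m
  show ((ℓ • m).down : ZMod ℓ) = 0
  rw [ULift.smul_down, nsmul_eq_mul, Int.cast_mul, Int.cast_natCast, ZMod.natCast_self, zero_mul]

theorem shortExact_mod : (ShortComplex.mk (lmap.{u} ℓ) (qmap.{u} ℓ) lmap_qmap).ShortExact where
  exact := by
    rw [ShortComplex.ab_exact_iff]
    intro m hm
    have h1 : ((m.down : ℤ) : ZMod ℓ) = 0 := congrArg ULift.down hm
    obtain ⟨c, hc⟩ := (ZMod.intCast_zmod_eq_zero_iff_dvd _ _).1 h1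
    refine ⟨ULift.up c, ULift.ext _ _ ?_⟩
    show (ℓ • ULift.up.{u + 1} c).down = m.down
    rw [ULift.smul_down, nsmul_eq_mul, hc]
  mono_f := (AddCommGrpCat.mono_iff_injective _).2 fun a b h => ULift.ext _ _ (by
    have h' : ((ℓ • a).down : ℤ) = (ℓ • b).down := congrArg ULift.down h
    rw [ULift.smul_down, ULift.smul_down, nsmul_eq_mul, nsmul_eq_mul] at h'
    exact mul_left_cancel₀ (by exact_mod_cast hℓp.out.ne_zero) h')
  epi_g := (AddCommGrpCat.epi_iff_surjective _).2 fun m => ⟨ULift.up (m.down.val : ℤ), ULift.ext _ _ (by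
    show (((m.down.val : ℤ) : ℤ) : ZMod ℓ) = m.down
    rw [Int.cast_natCast, ZMod.natCast_zmod_val])⟩

/-- Homomorphism from `ℤ` given by an element. -/
noncomputable def fromZ {A : AddCommGrpCat.{u + 1}} (a : A) : Z0.{u} ⟶ A :=
  AddCommGrpCat.ofHom ((zmultiplesHom A a).comp AddEquiv.ulift.toAddMonoidHom)

/-- Homomorphism from `ℤ/ℓ` given by a killed element. -/
noncomputable def fromMod {A : AddCommGrpCat.{u + 1}} (a : A) (ha : ℓ • a = 0) : (Zm.{u} ℓ) ⟶ A :=
  AddCommGrpCat.ofHom ((ZMod.lift ℓ ⟨zmultiplesHom A a, by simpa using ha⟩).comp AddEquiv.ulift.toAddMonoidHom)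

theorem fromMod_qmap {A : AddCommGrpCat.{u + 1}} (a : A) (ha : ℓ • a = 0) (m : Z0.{u}) :
    fromMod a ha (qmap.{u} ℓ m) = m.down • a := by
  let L : {f : ℤ →+ A // f ℓ = 0} := ⟨zmultiplesHom A a, by simpa using ha⟩
  show ZMod.lift ℓ L ((m.down : ℤ) : ZMod ℓ) = _
  exact ZMod.lift_coe ℓ L m.down

theorem fromMod_apply {A : AddCommGrpCat.{u + 1}} (a : A) (ha : ℓ • a = 0) (m : Zm.{u} ℓ) :
    fromMod a ha m = m.down.val • a := by
  have h := fromMod_qmap a ha (ULift.up (m.down.val : ℤ))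
  rw [natCast_zsmul] at h
  rw [← h]
  congr 1
  exact ULift.ext _ _ (by
    show m.down = (((m.down.val : ℤ) : ℤ) : ZMod ℓ)
    rw [Int.cast_natCast, ZMod.natCast_zmod_val])

theorem nsmul_hom_app {X : Scheme.{u}} {F G : EtCoh.Ab X} (n : ℕ) (φ : F ⟶ G) (V : X.Etale)
    (s : EtCoh.sect F V) : (n • φ).hom.app (op V) s = n • φ.hom.app (op V) s := by
  have h := congrArg (fun k => k s)
    (((sheafSections X.smallEtaleTopology AddCommGrpCat.{u + 1}).obj (op V)).map_nsmul (f := φ) (n := n))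
  exact h

include hℓ in
/-- **Descent to the residue field.** -/
theorem subsingleton_H_residue (q : ℕ)
    (h : Subsingleton (EtCoh.H SK (EtCoh.mu SK ℓ) (q + 1 + 1))) :
    Subsingleton (EtCoh.H (Spec (CommRingCat.of (IsLocalRing.ResidueField R)))
      (EtCoh.const (Spec (CommRingCat.of (IsLocalRing.ResidueField R))) (ZMod ℓ)) (q + 1)) := by
  obtain ⟨ϖ, hϖ⟩ := IsDiscreteValuationRing.exists_irreducible R
  let j := jgen R K
  haveI := isOpenImmersion_jgen R K
  haveI : QuasiCompact j := inferInstanceAs (QuasiCompact (Spec.map _))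
  haveI := H18Et.pull_preservesFiniteLimits j
  haveI := EtTors.preservesFiniteLimits_push j
  haveI : (EtCoh.push j).Additive := Functor.additive_of_preserves_binary_products _
  haveI : HasBinaryBiproducts (EtCoh.Ab SK) := Abelian.hasBinaryBiproducts
  haveI : HasBinaryBiproducts (EtCoh.Ab Yh) := Abelian.hasBinaryBiproducts
  have hK := isUnit_nat_K R K hℓ
  let μ := EtCoh.mu SK ℓ
  have hμ : Dix.IsPrimaryTorsion ℓ μ := fun U s x => ⟨U, 𝟙 U, ⟨x, rfl⟩, 1, by
    rw [pow_one, op_id, CategoryTheory.Functor.map_id]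
    exact S7732.killedBy_mu _ ℓ U s⟩
  let mi := EtCoh.muι SK ℓ
  let pw := EtCoh.powMap SK ℓ
  have hKum := shortExact_kummer hK
  haveI : Mono mi := hKum.mono_f
  haveI : Epi pw := hKum.epi_g
  let ι := Injective.ι μ
  let pI := cokernel.π ι
  let e : EtCoh.Gm SK ⟶ Injective.under μ := Injective.factorThru ι mi
  have he : mi ≫ e = ι := Injective.comp_factorThru ι mi
  haveI : Epi (ShortComplex.mk mi pw (kernel.condition _)).g := hKum.epi_g
  let κ : EtCoh.Gm SK ⟶ cokernel ι := hKum.exact.desc (e ≫ pI)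
    (show mi ≫ e ≫ pI = 0 by rw [reassoc_of% he, cokernel.condition])
  have hκ : pw ≫ κ = e ≫ pI := hKum.exact.g_desc _ _
  -- the auxiliary extension by the units
  have hw : biprod.lift e (-pw) ≫ biprod.desc pI κ = 0 := by
    rw [biprod.lift_desc, Preadditive.neg_comp, hκ, add_neg_cancel]
  have hS : (ShortComplex.mk _ _ hw).ShortExact := by
    refine
      { exact := ?_
        mono_f := ?_
        epi_g := epi_of_epi_fac (biprod.inl_desc pI κ) }
    · rw [ShortComplex.exact_iff_exact_up_to_refinements]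
      intro A x hx
      obtain ⟨A', π, hπ, y, hy⟩ := surjective_up_to_refinements_of_epi pw (x ≫ biprod.snd)
      have hx' : (x ≫ biprod.fst) ≫ pI + (x ≫ biprod.snd) ≫ κ = 0 := by
        rw [← hx]
        change _ = x ≫ biprod.desc pI κ
        simp only [biprod.desc_eq, Preadditive.comp_add, Category.assoc]
      have hz : (π ≫ x ≫ biprod.fst + y ≫ e) ≫ pI = 0 := by
        rw [Preadditive.add_comp, Category.assoc y, ← hκ, ← Category.assoc y, ← hy]
        have h2 := congrArg (π ≫ ·) hx'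
        simpa [Category.assoc, Preadditive.comp_add] using h2
      let m := (shortExact_cz μ).exact.lift _ hz
      haveI : Mono (ShortComplex.mk ι pI (cokernel.condition _)).f := inferInstanceAs (Mono ι)
      have hm : m ≫ ι = π ≫ x ≫ biprod.fst + y ≫ e := (shortExact_cz μ).exact.lift_f _ hz
      refine ⟨A', π, hπ, m ≫ mi - y, ?_⟩
      refine biprod.hom_ext _ _ ?_ ?_
      · simp only [Category.assoc, biprod.lift_fst]
        rw [Preadditive.sub_comp, Category.assoc, he, hm, add_sub_cancel_right]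
      · simp only [Category.assoc, biprod.lift_snd]
        rw [Preadditive.sub_comp, Category.assoc, Preadditive.comp_neg, show mi ≫ pw = 0 from kernel.condition _,
          neg_zero, comp_zero, zero_sub, Preadditive.comp_neg, neg_neg, hy]
    · refine Preadditive.mono_of_cancel_zero _ fun {A} a ha => ?_
      have h1 : a ≫ e = 0 := by
        have := congrArg (· ≫ biprod.fst) ha
        simpa [Category.assoc] using this
      have h2 : a ≫ pw = 0 := by
        have := congrArg (· ≫ biprod.snd) ha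
        simpa [Category.assoc] using this
      let m := kernel.lift pw a h2
      have hm : m ≫ mi = a := kernel.lift_ι _ _ _
      have h3 : m ≫ ι = 0 := by rw [← he, reassoc_of% hm, h1]
      rw [← hm, (cancel_mono ι).1 (h3.trans zero_comp.symm), zero_comp]
  haveI := epi_push_of_shortExact_Gm j (discrete_bc_jgen R K) hS
  let C := rOne j μ
  let pC : (EtCoh.push j).obj (cokernel ι) ⟶ C := cokernel.π _
  have hpC : (EtCoh.push j).map pI ≫ pC = 0 := cokernel.condition _
  let θ : jG ⟶ C := (EtCoh.push j).map κ ≫ pC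
  haveI : Epi θ := Preadditive.epi_of_cancel_zero _ fun {T} t ht => by
    have h1 : (EtCoh.push j).map (biprod.desc pI κ) ≫ pC ≫ t = 0 := by
      rw [biprod.desc_eq, Functor.map_add, Functor.map_comp, Functor.map_comp, Preadditive.add_comp,
        Category.assoc, Category.assoc, reassoc_of% hpC]
      rw [Category.assoc] at ht
      rw [ht, zero_comp, comp_zero, comp_zero, add_zero]
    rw [← cancel_epi pC, comp_zero, ← cancel_epi ((EtCoh.push j).map (biprod.desc pI κ)), h1, comp_zero]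
  have hθ : ℓ • θ = 0 := by
    show ℓ • ((EtCoh.push j).map κ ≫ pC) = 0
    rw [← Preadditive.nsmul_comp, ← Functor.map_nsmul, show ℓ • κ = pw ≫ κ by
      rw [show pw = ℓ • 𝟙 _ from rfl, Preadditive.nsmul_comp, Category.id_comp], hκ, Functor.map_comp,
      Category.assoc, hpC, comp_zero]
  have hθs : ∀ (V : (Yh).Etale) (s : EtCoh.sect jG V), ℓ • θ.hom.app (op V) s = 0 := fun V s => by
    rw [← nsmul_hom_app, hθ]
    rfl
  -- the constant sheaves
  let cs := constantSheaf (Yh).smallEtaleTopology AddCommGrpCat.{u + 1}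
  let Zl := cs.obj (Zm.{u} ℓ)
  let πt := πsec K ϖ (EtCoh.top Yh)
  let tπ : cs.obj Z0.{u} ⟶ jG := homConst jG (fromZ (A := (jG).obj.obj (op (EtCoh.top Yh))) πt)
  let a₀ := θ.hom.app (op (EtCoh.top Yh)) πt
  let ψ : Zl ⟶ C := homConst C (fromMod (A := C.obj.obj (op (EtCoh.top Yh))) a₀ (hθs _ πt))
  have hψ : cs.map (qmap.{u} ℓ) ≫ ψ = tπ ≫ θ := by
    refine constHom_ext fun U m => ?_
    have e1 : (cs.map (qmap.{u} ℓ)).hom.app (op U) (rest (cs.obj Z0.{u}) U (unitTop Z0.{u} m)) =
        rest Zl U (unitTop (Zm.{u} ℓ) (qmap.{u} ℓ m)) := by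
      rw [rest_unitTop, rest_unitTop]
      exact (ConcreteCategory.congr_hom (congrArg (fun k => NatTrans.app k (op U))
        (toSheafify_naturality (Yh).smallEtaleTopology
          ((Functor.const (Yh).Etaleᵒᵖ).map (qmap.{u} ℓ) :
            (Functor.const (Yh).Etaleᵒᵖ).obj Z0.{u} ⟶ (Functor.const (Yh).Etaleᵒᵖ).obj (Zm.{u} ℓ)))) (m : Z0.{u})).symm
    refine (ConcreteCategory.comp_apply _ _ _).trans (((congrArg (ψ.hom.app (op U)) e1).trans
      (homConst_rest _ _ U _)).trans ?_)
    refine Eq.trans ?_ ((congrArg (θ.hom.app (op U)) (homConst_rest jG _ U m)).symm.trans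
      (ConcreteCategory.comp_apply _ _ _).symm)
    refine Eq.trans ?_ (NatTrans.naturality_apply θ.hom ((EtCore.topIsTerminal Yh).from U).op _).symm
    refine congrArg (rest C U) ((fromMod_qmap _ _ m).trans ?_)
    exact (map_zsmul (θ.hom.app (op (EtCoh.top Yh))).hom m.down πt).symm
  have hψs : ∀ (V : (Yh).Etale) (m : Zm.{u} ℓ),
      ψ.hom.app (op V) (rest Zl V (unitTop (Zm.{u} ℓ) m)) = m.down.val • θ.hom.app (op V) (πsec K ϖ V) := fun V m => by
    refine (homConst_rest _ _ V m).trans ?_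
    rw [fromMod_apply]
    refine (map_nsmul (C.obj.map ((EtCore.topIsTerminal Yh).from V).op).hom _ a₀).trans ?_
    congr 1
    exact (NatTrans.naturality_apply θ.hom ((EtCore.topIsTerminal Yh).from V).op πt).symm.trans
      (congrArg (θ.hom.app (op V)) (map_πsec K ϖ _))
  haveI : Epi ψ := epi_of_local _ fun V c v => by
    by_cases hv : V.hom v = IsLocalRing.closedPoint R
    · haveI : Sheaf.IsLocallySurjective θ := (Sheaf.isLocallySurjective_iff_epi' _ _).2 inferInstance
      obtain ⟨W, g, w, ⟨a, ha⟩, hw⟩ := H18Et.Subterminal.exists_mem_of_cover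
        (Presheaf.imageSieve_mem _ θ.hom c) v
      have hw' : W.hom w = IsLocalRing.closedPoint R := by
        rw [← hv, ← hw]
        exact (congrArg (fun k : W.left ⟶ Yh => k w) (Over.w g.hom)).symm
      obtain ⟨W', g', w', m, b, hw'', hab⟩ := exists_local_form_sect K ϖ hϖ w hw' ℓ hℓ a
      refine ⟨W', g' ≫ g, w', rest Zl W' (unitTop (Zm.{u} ℓ) (ULift.up (m : ZMod ℓ))), ?_, ?_⟩
      · show g.left (g'.left w') = v
        rw [hw'', hw]
      · rw [hψs, op_comp, Functor.map_comp, ConcreteCategory.comp_apply, ← ha, ← app_res, hab, map_add,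
          map_nsmul, map_nsmul, hθs, add_zero]
        show (m : ZMod ℓ).val • _ = _
        rw [ZMod.val_natCast]
        conv_rhs => rw [← Nat.mod_add_div m ℓ, add_smul, mul_comm ℓ, ← smul_smul, hθs, smul_zero, add_zero]
    · obtain ⟨W, g, w, hw, hc⟩ := exists_map_eq_zero_jgen hℓ μ hμ v hv c
      exact ⟨W, g, w, 0, hw, by rw [hc, map_zero]⟩
  -- the kernel dies at the closed point
  have hN : IsZero ((EtCoh.pull ih).obj (kernel ψ)) := by
    rw [H18Et.isZero_iff_stalk]
    intro Ω _ _ ξ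
    refine IsZero.of_iso ?_ ((H18Et.stalkPullIso ih ξ).app (kernel ψ))
    haveI : Subsingleton ((EtCoh.stalk (ξ ≫ ih)).obj (kernel ψ)) := subsingleton_of_forall_eq 0 fun p => by
      obtain ⟨U, x, s, rfl⟩ := H18Et.germ_surjective (ξ ≫ ih) (kernel ψ) p
      refine (H18Et.germ_eq_zero_iff (kernel ψ) x s).2 fun hs => ?_
      let v := H18Et.ptOf x
      have hv : U.hom v = IsLocalRing.closedPoint R := by
        rw [H18Et.LC.ptOf_base]
        show ih (ξ default) = _
        exact IsLocalRing.comap_closedPoint (IsLocalRing.residue R) ▸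
          congrArg (PrimeSpectrum.comap (IsLocalRing.residue R)) (Subsingleton.elim _ _)
      let s' := (kernel.ι ψ).hom.app (op U) s
      obtain ⟨m, W, g, ⟨w, hw⟩, hm⟩ := H18Et.ConstSheaf.exists_mem_locus (isConstant_unitTop (X := Yh) (Zm.{u} ℓ)) s' v
      have hw' : W.hom w = IsLocalRing.closedPoint R := by
        rw [← hv, ← hw]
        exact (congrArg (fun k : W.left ⟶ Yh => k w) (Over.w g.hom)).symm
      have h0 : m.down.val • θ.hom.app (op W) (πsec K ϖ W) = 0 := by
        rw [← hψs, ← hm, app_res]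
        have : ψ.hom.app (op U) s' = 0 := by
          show ((kernel.ι ψ).hom.app (op U) ≫ ψ.hom.app (op U)) s = 0
          rw [← NatTrans.comp_app, ← ObjectProperty.FullSubcategory.comp_hom, kernel.condition]
          rfl
        rw [this, map_zero]
      by_cases hm0 : m.down = 0
      · refine hs W g ⟨w, hw⟩ ?_
        haveI : Mono (kernel.ι ψ).hom := inferInstanceAs (Mono ((sheafToPresheaf _ _).map _))
        refine (AddCommGrpCat.mono_iff_injective ((kernel.ι ψ).hom.app (op W))).1 inferInstance ?_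
        rw [map_zero, app_res]
        refine hm.trans ?_
        rw [show m = 0 from ULift.ext _ _ hm0, rest_unitTop, map_zero]
      · exfalso
        have h1 : θ.hom.app (op W) (πsec K ϖ W) = 0 := by
          have hcop : Nat.Coprime m.down.val ℓ := (hℓp.out.coprime_iff_not_dvd.2 fun hd => hm0
            ((ZMod.val_eq_zero _).1 (Nat.eq_zero_of_dvd_of_lt hd (ZMod.val_lt _)))).symm
          exact AddMonoid.addOrderOf_eq_one_iff.1 (Nat.eq_one_of_dvd_coprimes hcop
            (addOrderOf_dvd_of_nsmul_eq_zero h0) (addOrderOf_dvd_of_nsmul_eq_zero (hθs _ _)))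
        rw [show θ = (EtCoh.push j).map κ ≫ pC from rfl, ObjectProperty.FullSubcategory.comp_hom,
          NatTrans.comp_app, ConcreteCategory.comp_apply] at h1
        obtain ⟨W', g', w', a, hw'', ha⟩ := exists_local_preimage ((EtCoh.push j).map pI) w _ h1
        rw [← app_res, map_πsec] at ha
        let x' : EtCoh.sect ((EtCoh.push j).obj (Injective.under μ ⊞ EtCoh.Gm SK)) W' :=
          ((EtCoh.push j).map biprod.inl).hom.app (op W') a -
            ((EtCoh.push j).map biprod.inr).hom.app (op W') (πsec K ϖ W')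
        have hx' : ((EtCoh.push j).map (biprod.desc pI κ)).hom.app (op W') x' = 0 := by
          rw [map_sub, ← ConcreteCategory.comp_apply, ← ConcreteCategory.comp_apply, ← NatTrans.comp_app,
            ← NatTrans.comp_app, ← ObjectProperty.FullSubcategory.comp_hom,
            ← ObjectProperty.FullSubcategory.comp_hom, ← Functor.map_comp, ← Functor.map_comp, biprod.inl_desc,
            biprod.inr_desc, ha, sub_self]
        obtain ⟨b, hb⟩ := exists_push_preimage j hS x' hx'
        have hb' := congrArg (((EtCoh.push j).map biprod.snd).hom.app (op W')) hb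
        rw [map_sub, ← ConcreteCategory.comp_apply, ← ConcreteCategory.comp_apply, ← ConcreteCategory.comp_apply,
            ← NatTrans.comp_app, ← NatTrans.comp_app, ← NatTrans.comp_app,
            ← ObjectProperty.FullSubcategory.comp_hom, ← ObjectProperty.FullSubcategory.comp_hom,
            ← ObjectProperty.FullSubcategory.comp_hom, ← Functor.map_comp, ← Functor.map_comp, ← Functor.map_comp,
            biprod.lift_snd, biprod.inl_snd, biprod.inr_snd] at hb'
        have hneg : (EtCoh.push j).map (-pw) = -(ℓ • 𝟙 _) :=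
          (Functor.map_neg _).trans (congrArg Neg.neg
            (((EtCoh.push j).map_nsmul (f := 𝟙 (EtCoh.Gm SK)) (n := ℓ)).trans
              (congrArg (ℓ • ·) ((EtCoh.push j).map_id _))))
        rw [hneg, CategoryTheory.Functor.map_id, Functor.map_zero] at hb'
        refine nsmul_ne_πsec K ϖ hϖ w' (show W'.hom w' = _ from ?_) ℓ b ?_
        · rw [← hw', ← hw'']
          exact (congrArg (fun k : W'.left ⟶ Yh => k w') (Over.w g'.hom)).symm
        · have h2 : -(ℓ • b) = 0 - πsec K ϖ W' := by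
            rw [← nsmul_hom_app] at *
            exact hb'
          rwa [zero_sub, neg_inj] at h2
    exact AddCommGrpCat.isZero_of_subsingleton _
  let N : ShortComplex (EtCoh.Ab Yh) := ShortComplex.mk (kernel.ι ψ) ψ (kernel.condition _)
  have hNe : N.ShortExact :=
    { exact := ShortComplex.exact_of_f_is_kernel _ (kernelIsKernel _)
      mono_f := inferInstanceAs (Mono (kernel.ι ψ))
      epi_g := inferInstanceAs (Epi ψ) }
  haveI hNs := H15Site.HensCoh.subsingleton_H (q + 1) _ hN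
  -- the cokernel sequence of the direct images
  let D : ShortComplex (EtCoh.Ab Yh) := ShortComplex.mk (kernel.ι pC) pC (kernel.condition _)
  have hD : D.ShortExact :=
    { exact := ShortComplex.exact_of_f_is_kernel _ (kernelIsKernel _)
      mono_f := inferInstanceAs (Mono (kernel.ι pC))
      epi_g := inferInstanceAs (Epi (cokernel.π _)) }
  let pD := kernel.lift pC ((EtCoh.push j).map pI) hpC
  let bD : cs.obj Z0.{u} ⟶ kernel pC := tπ ≫ (EtCoh.push j).map e ≫ pD
  have hsc : (((ShortComplex.mk (lmap.{u} ℓ) (qmap.{u} ℓ) lmap_qmap)).map cs).ShortExact :=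
    H23Geom.DepthLocal.shortExact_const shortExact_mod
  let Φ : ((ShortComplex.mk (lmap.{u} ℓ) (qmap.{u} ℓ) lmap_qmap)).map cs ⟶ D :=
    { τ₁ := bD
      τ₂ := tπ ≫ (EtCoh.push j).map κ
      τ₃ := ψ
      comm₁₂ := by
        show (tπ ≫ (EtCoh.push j).map e ≫ pD) ≫ kernel.ι pC = cs.map (lmap.{u} ℓ) ≫ tπ ≫ (EtCoh.push j).map κ
        rw [Category.assoc, Category.assoc, kernel.lift_ι, ← Functor.map_comp, ← hκ, Functor.map_comp,
          show pw = ℓ • 𝟙 _ from rfl, show lmap.{u} ℓ = ℓ • 𝟙 _ from rfl, Functor.map_nsmul, Functor.map_nsmul,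
          CategoryTheory.Functor.map_id, CategoryTheory.Functor.map_id]
        simp only [Preadditive.nsmul_comp, Preadditive.comp_nsmul, Category.id_comp]
      comm₂₃ := by
        show (tπ ≫ (EtCoh.push j).map κ) ≫ pC = cs.map (qmap.{u} ℓ) ≫ ψ
        rw [hψ, Category.assoc] }
  haveI hI : Injective ((EtCoh.push j).obj (Injective.under μ)) := EtTors.injective_push j _
  haveI hjQ : Subsingleton (EtCoh.H Yh ((EtCoh.push j).obj (cokernel ι)) (q + 1)) := by
    refine subsingleton_H_push_of_rOne j q _ (fun i => isZero_rOne_jgen hℓ μ hμ i) ?_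
    refine subsingleton_of_forall_eq 0 fun z => ?_
    obtain ⟨w, hw⟩ := Ext.covariant_sequence_exact₃ _ (shortExact_cz μ) z rfl (h.elim _ _)
    rw [← hw, Ext.eq_zero_of_injective w, Ext.zero_comp]
  -- classes of the constant sheaf
  haveI hY : Subsingleton (EtCoh.H Yh Zl (q + 1)) := subsingleton_of_forall_eq 0 fun x => by
    have hnat := ShortComplex.ShortExact.extClass_naturality hsc hD Φ
    let y : Ext (EtCoh.const Yh ℤ) (cs.obj Z0.{u}) (q + 1 + 1) := Ext.comp x hsc.extClass rfl
    have h1 : Ext.comp (Ext.comp x (Ext.mk₀ ψ) (add_zero (q + 1))) hD.extClass (rfl : q + 1 + 1 = q + 1 + 1) = 0 := by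
      rw [Ext.comp_assoc_of_second_deg_zero]
      show Ext.comp x ((Ext.mk₀ Φ.τ₃).comp hD.extClass (zero_add 1)) rfl = 0
      rw [← hnat, ← Ext.comp_assoc_of_third_deg_zero]
      show y.comp (Ext.mk₀ (tπ ≫ (EtCoh.push j).map e ≫ pD)) (add_zero _) = 0
      rw [← Category.assoc, ← Ext.mk₀_comp_mk₀, ← Ext.comp_assoc_of_third_deg_zero,
        Ext.eq_zero_of_injective (y.comp (Ext.mk₀ (tπ ≫ (EtCoh.push j).map e)) (add_zero _)), Ext.zero_comp]
    obtain ⟨z, hz⟩ := Ext.covariant_sequence_exact₃ _ hD (x.comp (Ext.mk₀ ψ) (add_zero (q + 1))) rfl h1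
    rw [Subsingleton.elim (α := EtCoh.H Yh ((EtCoh.push j).obj (cokernel ι)) (q + 1)) z 0, Ext.zero_comp] at hz
    obtain ⟨w, hw⟩ := Ext.covariant_sequence_exact₂ _ hNe x hz.symm
    rw [← hw, hNs.elim w 0, Ext.zero_comp]
  -- the closed point
  let P := (EtCoh.push ih).obj ((EtCoh.pull ih).obj Zl)
  let η := H15Site.HensCoh.η₀ Zl
  haveI hP : Subsingleton (EtCoh.H Yh P (q + 1)) := subsingleton_of_forall_eq 0 fun x => by
    let T : ShortComplex (EtCoh.Ab Yh) :=
      ShortComplex.mk (Abelian.image.ι η) (cokernel.π η) (kernel.condition _)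
    have hT : T.ShortExact :=
      { exact := ShortComplex.exact_of_f_is_kernel _ (kernelIsKernel _)
        mono_f := inferInstanceAs (Mono (Abelian.image.ι η))
        epi_g := inferInstanceAs (Epi (cokernel.π η)) }
    let S : ShortComplex (EtCoh.Ab Yh) := ShortComplex.mk (kernel.ι η) (Abelian.factorThruImage η)
      (by rw [← cancel_mono (Abelian.image.ι η), Category.assoc, Abelian.image.fac, kernel.condition, zero_comp])
    have hS' : S.ShortExact :=
      { exact := ShortComplex.exact_of_f_is_kernel _ (KernelFork.IsLimit.ofι' S.f S.zero fun {A} k hk =>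
          ⟨kernel.lift η k (by rw [← Abelian.image.fac η, ← Category.assoc, hk, zero_comp]),
            kernel.lift_ι _ _ _⟩)
        mono_f := inferInstanceAs (Mono (kernel.ι η))
        epi_g := inferInstanceAs (Epi (Abelian.factorThruImage η)) }
    obtain ⟨y, hy⟩ := Ext.covariant_sequence_exact₂ _ hT x
      ((H15Site.HensCoh.subsingleton_H (q + 1) _ (H15Site.HensCoh.isZero_pull_cokernel Zl)).elim _ _)
    obtain ⟨z, hz⟩ := Ext.covariant_sequence_exact₃ _ hS' (y : Ext (EtCoh.const Yh ℤ) S.X₃ (q + 1)) rfl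
      ((H15Site.HensCoh.subsingleton_H (q + 1 + 1) _ (H15Site.HensCoh.isZero_pull_kernel Zl)).elim _ _)
    rw [← hy, ← hz, Subsingleton.elim (α := EtCoh.H Yh Zl (q + 1)) z 0, Ext.zero_comp, Ext.zero_comp]
  haveI : IsClosedImmersion ih := IsClosedImmersion.spec_of_surjective _ IsLocalRing.residue_surjective
  obtain ⟨i⟩ := H15Site.IntDesc.nonempty_H_push ih ((EtCoh.pull ih).obj Zl) (q + 1)
  haveI : Subsingleton (EtCoh.H (Spec (CommRingCat.of (IsLocalRing.ResidueField R)))
      ((EtCoh.pull ih).obj Zl) (q + 1)) :=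
    Function.Injective.subsingleton (β := EtCoh.H Yh P (q + 1)) i.addCommGroupIsoToAddEquiv.symm.injective
  let ic : (EtCoh.pull ih).obj Zl ≅ EtCoh.const (Spec (CommRingCat.of (IsLocalRing.ResidueField R))) (ZMod ℓ) :=
    EtCore.pullConst ih (ZMod ℓ)
  exact subsingleton_of_forall_eq 0 fun z => by
    have h1 : (z.comp (Ext.mk₀ ic.inv) (add_zero _)).comp (Ext.mk₀ ic.hom) (add_zero _) = z := by
      rw [Ext.comp_assoc_of_third_deg_zero, Ext.mk₀_comp_mk₀, ic.inv_hom_id, Ext.comp_mk₀_id]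
    rw [← h1, Subsingleton.elim (α := EtCoh.H _ ((EtCoh.pull ih).obj Zl) (q + 1)) (z.comp (Ext.mk₀ ic.inv) (add_zero _)) 0,
      Ext.zero_comp]

end

variable (R) in
include R in
/-- **`cd_ℓ(K) ≥ 1`.** -/
theorem one_le_of_cohDimLEAt_of_unit_K {ℓ : ℕ} [hℓp : Fact ℓ.Prime] (hK : IsUnit (ℓ : Γ(SK, ⊤))) {d : ℕ}
    (h : Dix.CohDimLEAt SK ℓ d) : 1 ≤ d := by
  by_contra hd
  obtain ⟨ϖ, hϖ⟩ := IsDiscreteValuationRing.exists_irreducible R
  have hμ : Dix.IsPrimaryTorsion ℓ (EtCoh.mu SK ℓ) := fun U s x => ⟨U, 𝟙 U, ⟨x, rfl⟩, 1, by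
    rw [pow_one, op_id, CategoryTheory.Functor.map_id]
    exact S7732.killedBy_mu _ ℓ U s⟩
  haveI := h _ hμ 1 (by omega)
  let P : Γ(SK, ⊤)ˣ := Units.map (Scheme.ΓSpecIso (CommRingCat.of K)).inv.hom.toMonoidHom (pK K ϖ)
  let t : EtCoh.const SK ℤ ⟶ EtCoh.Gm SK :=
    homConst (EtCoh.Gm SK) (fromZ (A := (EtCoh.Gm SK).obj.obj (op (EtCoh.top SK))) (sec (U := EtCoh.top SK) P))
  have h1 : (Ext.mk₀ t).comp (shortExact_kummer hK).extClass (zero_add 1) = 0 :=
    Subsingleton.elim (α := EtCoh.H SK (EtCoh.mu SK ℓ) 1) _ _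
  obtain ⟨z, hz⟩ := Ext.covariant_sequence_exact₃ _ (shortExact_kummer hK) (Ext.mk₀ t) (zero_add 1) h1
  obtain ⟨f, rfl⟩ := (Ext.mk₀_bijective _ _).surjective z
  rw [Ext.mk₀_comp_mk₀] at hz
  have hf := congrArg (fun k => k.hom.app (op (EtCoh.top SK))
    (rest (EtCoh.const SK ℤ) (EtCoh.top SK) (unitTop (AddCommGrpCat.of (ULift.{u + 1} ℤ)) (ULift.up 1))))
    ((Ext.mk₀_bijective _ _).injective hz)
  rw [homConst_rest] at hf
  obtain ⟨v, hv⟩ := H18Et.MuConst.sec_surjective (f.hom.app (op (EtCoh.top SK))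
    (rest (EtCoh.const SK ℤ) (EtCoh.top SK) (unitTop (AddCommGrpCat.of (ULift.{u + 1} ℤ)) (ULift.up 1))))
  have hP : v ^ ℓ = P := by
    refine H18Et.MuConst.sec_injective (U := EtCoh.top SK) ?_
    rw [← H18Et.MuConst.nsmul_sec, hv, ← nsmul_hom_app]
    have hpw : f ≫ EtCoh.powMap SK ℓ = ℓ • f := by
      show f ≫ (ℓ • 𝟙 (EtCoh.Gm SK)) = ℓ • f
      rw [Preadditive.comp_nsmul, Category.comp_id]
    refine Eq.trans ?_ (hf.trans ?_)
    · exact (congrArg (fun k => k.hom.app (op (EtCoh.top SK))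
        (rest (EtCoh.const SK ℤ) (EtCoh.top SK) (unitTop (AddCommGrpCat.of (ULift.{u + 1} ℤ)) (ULift.up 1)))) hpw).symm
    · show rest (EtCoh.Gm SK) (EtCoh.top SK) ((1 : ℤ) • sec P) = _
      rw [one_zsmul]
      exact (congrArg (fun g => (EtCoh.Gm SK).obj.map g (sec (U := EtCoh.top SK) P))
        (Quiver.Hom.unop_inj ((EtCore.topIsTerminal SK).hom_ext _ (𝟙 _)))).trans
          (ConcreteCategory.congr_hom ((EtCoh.Gm SK).obj.map_id _) _)
  let v' : Γ(SK, ⊤)ˣ := v
  have hP' : v' ^ ℓ = P := hP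
  let a : K := (Scheme.ΓSpecIso (CommRingCat.of K)).hom (v' : Γ(SK, ⊤))
  have ha : a ^ ℓ = algebraMap R K ϖ := by
    rw [← pK_val K ϖ hϖ]
    show (Scheme.ΓSpecIso (CommRingCat.of K)).hom.hom (v' : Γ(SK, ⊤)) ^ ℓ = _
    rw [← map_pow, ← Units.val_pow_eq_pow_val, hP']
    exact ConcreteCategory.congr_hom (Scheme.ΓSpecIso (CommRingCat.of K)).inv_hom_id (pK K ϖ : K)
  haveI : IsLocalization.Away ϖ K := isLocalization_powers hϖ K
  obtain ⟨n, c, hc⟩ := IsLocalization.Away.surj ϖ a
  have h2 : c ^ ℓ = ϖ ^ (1 + n * ℓ) := IsFractionRing.injective R K (by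
    rw [map_pow, ← hc, mul_pow, ← pow_mul, ha, pow_add, map_mul, map_pow, map_pow, pow_one])
  have h3 := congrArg (IsDiscreteValuationRing.addVal R) h2
  rw [AddValuation.map_pow, AddValuation.map_pow, IsDiscreteValuationRing.addVal_uniformizer hϖ,
    nsmul_eq_mul, nsmul_eq_mul, mul_one] at h3
  cases hcv : IsDiscreteValuationRing.addVal R c with
  | top =>
    rw [hcv, ENat.mul_top (by exact_mod_cast hℓp.out.ne_zero)] at h3
    exact (ENat.coe_ne_top _) h3.symm
  | coe r =>
    rw [hcv] at h3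
    have h4 : ℓ * r = 1 + n * ℓ := by exact_mod_cast h3
    have h5 : ℓ ∣ 1 := (Nat.dvd_add_left (dvd_mul_left ℓ n)).1 (h4 ▸ dvd_mul_right ℓ r)
    exact hℓp.out.ne_one (Nat.dvd_one.1 h5)

/-- `cd_ℓ(K) ≥ 1` when `ℓ` is invertible in the ring. -/
theorem one_le_of_cohDimLEAt {ℓ : ℕ} [Fact ℓ.Prime] (hℓ : IsUnit (ℓ : R)) {d : ℕ}
    (h : Dix.CohDimLEAt SK ℓ d) : 1 ≤ d :=
  one_le_of_cohDimLEAt_of_unit_K R (isUnit_nat_K R K hℓ) h

end Groth.Agent.H05EGA4.EtCl.Lower
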