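import Mathlib

/-!
# Étale algebras over a discrete valuation ring: units away from the uniformizer
-/

set_option autoImplicit false
set_option linter.style.haveILetI false
set_option backward.isDefEq.respectTransparency false
set_option backward.isDefEq.respectTransparency.types false

universe u

open TensorProduct

namespace Groth.Agent.H05EGA4.EtCl.Lower

variable {R : Type u} [CommRing R] [IsDomain R] [IsDiscreteValuationRing R] {ϖ : R} (hϖ : Irreducible ϖ)

include hϖ in
theorem isLocalization_powers (K : Type u) [CommRing K] [Algebra R K] [IsFractionRing R K] :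
    IsLocalization (Submonoid.powers ϖ) K := by
  refine (IsLocalization.iff_of_le_of_exists_dvd (Submonoid.powers ϖ) (nonZeroDivisors R)
    (powers_le_nonZeroDivisors_of_noZeroDivisors hϖ.ne_zero) fun n hn => ?_).2 ‹_›
  obtain ⟨k, u, rfl⟩ := IsDiscreteValuationRing.eq_unit_mul_pow_irreducible (nonZeroDivisors.ne_zero hn) hϖ
  exact ⟨ϖ ^ k, ⟨k, rfl⟩, Units.mul_left_dvd.2 dvd_rfl⟩

variable {A : Type u} [CommRing A] [Algebra R A] [Algebra.Etale R A] (P : Ideal A) [P.IsPrime]
  (hP : P.comap (algebraMap R A) = IsLocalRing.maximalIdeal R)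

section Local

include hP

theorem isLocalHom_localization : IsLocalHom (algebraMap R (Localization.AtPrime P)) := by
  refine ⟨fun r hr => ?_⟩
  by_contra hu
  have h1 : algebraMap R A r ∈ P := by
    rw [← Ideal.mem_comap, hP]
    exact hu
  rw [IsScalarTower.algebraMap_apply R A (Localization.AtPrime P)] at hr
  exact (IsLocalization.AtPrime.to_map_mem_maximal_iff (Localization.AtPrime P) P _).2 h1 hr

include hϖ

theorem maximalIdeal_eq_span : IsLocalRing.maximalIdeal (Localization.AtPrime P) =
    Ideal.span {algebraMap R (Localization.AtPrime P) ϖ} := by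
  haveI := isLocalHom_localization P hP
  rw [← Algebra.FormallyUnramified.map_maximalIdeal (R := R) (S := Localization.AtPrime P),
    hϖ.maximalIdeal_eq, Ideal.map_span, Set.image_singleton]

theorem isRegular_uniformizer : IsLeftRegular (algebraMap R (Localization.AtPrime P) ϖ) := by
  haveI : Module.Flat R A := Algebra.Smooth.flat R A
  haveI : Module.Flat R (Localization.AtPrime P) := Module.Flat.trans R A _
  intro a b h
  have h1 := Module.Flat.isSMulRegular_of_isRegular (M := Localization.AtPrime P) (IsRegular.of_ne_zero hϖ.ne_zero)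
  exact h1 (show ϖ • a = ϖ • b by rwa [Algebra.smul_def, Algebra.smul_def])

/-- Nonzero elements of the local ring are powers of the uniformizer times units. -/
theorem exists_eq_pow_mul_unit {c : Localization.AtPrime P} (hc : c ≠ 0) :
    ∃ (r : ℕ) (v : (Localization.AtPrime P)ˣ), c = algebraMap R (Localization.AtPrime P) ϖ ^ r * v := by
  let D := Localization.AtPrime P
  haveI : IsNoetherianRing A := Algebra.FiniteType.isNoetherianRing R A
  haveI : IsNoetherianRing D := IsLocalization.isNoetherianRing P.primeCompl D inferInstance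
  have hex : ∃ n : ℕ, c ∉ IsLocalRing.maximalIdeal D ^ n := by
    by_contra hcon
    push Not at hcon
    have h1 : c ∈ ⨅ n : ℕ, IsLocalRing.maximalIdeal D ^ n := Submodule.mem_iInf _ |>.2 hcon
    rw [Ideal.iInf_pow_eq_bot_of_isLocalRing _ (IsLocalRing.maximalIdeal.isMaximal D).ne_top] at h1
    exact hc h1
  classical
  obtain ⟨r, hr⟩ : ∃ r, Nat.find hex = r + 1 := Nat.exists_eq_succ_of_ne_zero fun h0 => by
    have := Nat.find_spec hex
    rw [h0, pow_zero, Ideal.one_eq_top] at this
    exact this trivial
  have hmem : c ∈ IsLocalRing.maximalIdeal D ^ r := not_not.1 (Nat.find_min hex (by omega))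
  have hnot := hr ▸ Nat.find_spec hex
  rw [maximalIdeal_eq_span hϖ P hP, Ideal.span_singleton_pow, Ideal.mem_span_singleton'] at hmem hnot
  obtain ⟨v, rfl⟩ := hmem
  have hv : IsUnit v := by
    by_contra hv
    obtain ⟨w, rfl⟩ : ∃ w, w * algebraMap R D ϖ = v := Ideal.mem_span_singleton'.1
      (maximalIdeal_eq_span hϖ P hP ▸ hv)
    exact hnot ⟨w, by ring⟩
  exact ⟨r, hv.unit, by rw [mul_comm, IsUnit.unit_spec]⟩

theorem pow_mul_unit_inj {a b : ℕ} {v w : (Localization.AtPrime P)ˣ}
    (h : algebraMap R (Localization.AtPrime P) ϖ ^ a * v = algebraMap R (Localization.AtPrime P) ϖ ^ b * w) :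
    a = b := by
  have key : ∀ {a b : ℕ} {v w : (Localization.AtPrime P)ˣ}, a ≤ b →
      algebraMap R (Localization.AtPrime P) ϖ ^ a * v = algebraMap R (Localization.AtPrime P) ϖ ^ b * w → a = b := by
    intro a b v w hab h
    obtain ⟨c, rfl⟩ := Nat.exists_eq_add_of_le hab
    rw [pow_add, mul_assoc] at h
    have h2 := ((isRegular_uniformizer hϖ P hP).pow a) h
    rcases Nat.eq_zero_or_pos c with rfl | hc
    · rfl
    · have hu : IsUnit (algebraMap R (Localization.AtPrime P) ϖ) :=
        (isUnit_pow_iff hc.ne').1 (isUnit_of_mul_isUnit_left (h2 ▸ v.isUnit))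
      exact absurd hu ((maximalIdeal_eq_span hϖ P hP) ▸ Ideal.mem_span_singleton_self _ :
        algebraMap R (Localization.AtPrime P) ϖ ∈ IsLocalRing.maximalIdeal _)
  rcases le_total a b with hab | hab
  · exact key hab h
  · exact (key hab h.symm).symm

variable {T : Type u} [CommRing T] [Algebra A T]
  [IsLocalization (Submonoid.powers (algebraMap R A ϖ)) T]

/-- Units of the generic fibre have the form `ϖ^n u` near a closed point. -/
theorem exists_local_form (a : Tˣ) : ∃ f : A, f ∉ P ∧ ∃ (u : Localization.Away f) (_ : IsUnit u) (r N : ℕ) (c : A),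
    algebraMap A T c = a.1 * algebraMap A T (algebraMap R A ϖ ^ N) ∧
      algebraMap A (Localization.Away f) c = algebraMap A (Localization.Away f) (algebraMap R A ϖ) ^ r * u := by
  let p := algebraMap R A ϖ
  obtain ⟨N, c, hcN⟩ := IsLocalization.Away.surj p a.1
  obtain ⟨N', c', hcN'⟩ := IsLocalization.Away.surj p a⁻¹.1
  have hD : algebraMap A (Localization.AtPrime P) c ≠ 0 := fun h0 => by
    have h1 : algebraMap A T (c * c') = algebraMap A T (p ^ (N + N')) := by
      rw [map_mul, ← hcN, ← hcN', map_pow, pow_add]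
      calc _ = (a.1 * a⁻¹.1) * (algebraMap A T p ^ N * algebraMap A T p ^ N') := by ring
        _ = _ := by rw [Units.mul_inv, one_mul]
    obtain ⟨⟨_, M, rfl⟩, hM⟩ := (IsLocalization.eq_iff_exists (Submonoid.powers p) T).1 h1
    have h2 := congrArg (algebraMap A (Localization.AtPrime P)) hM
    simp only [map_mul, map_pow, h0, zero_mul, mul_zero] at h2
    have hreg := (isRegular_uniformizer hϖ P hP).pow (M + (N + N'))
    have h3 : algebraMap R (Localization.AtPrime P) ϖ ^ (M + (N + N')) * 1 =
        algebraMap R (Localization.AtPrime P) ϖ ^ (M + (N + N')) * 0 := by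
      rw [mul_one, mul_zero, pow_add, IsScalarTower.algebraMap_apply R A (Localization.AtPrime P)]
      exact h2.symm
    exact one_ne_zero (hreg h3)
  obtain ⟨r, v, hv⟩ := exists_eq_pow_mul_unit hϖ P hP hD
  obtain ⟨⟨q, s⟩, hqs⟩ := IsLocalization.surj P.primeCompl v.1
  have hq : q ∉ P := fun hq => by
    have h1 : IsUnit (algebraMap A (Localization.AtPrime P) q) :=
      hqs ▸ v.isUnit.mul (IsLocalization.map_units _ s)
    exact (IsLocalization.AtPrime.to_map_mem_maximal_iff (Localization.AtPrime P) P q).2 hq h1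
  have heq : algebraMap A (Localization.AtPrime P) (c * s.1) = algebraMap A (Localization.AtPrime P) (p ^ r * q) := by
    rw [map_mul, map_mul, map_pow, hv, IsScalarTower.algebraMap_apply R A (Localization.AtPrime P), ← hqs]
    ring
  obtain ⟨⟨t, ht⟩, htt⟩ := (IsLocalization.eq_iff_exists P.primeCompl (Localization.AtPrime P)).1 heq
  let f := t * (s.1 * q)
  have hf : f ∉ P := fun h => by
    rcases ‹P.IsPrime›.mem_or_mem h with h | h
    · exact ht h
    · rcases ‹P.IsPrime›.mem_or_mem h with h | h
      · exact s.2 h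
      · exact hq h
  have hfu : IsUnit (algebraMap A (Localization.Away f) f) := IsLocalization.Away.algebraMap_isUnit f
  simp only [f, map_mul] at hfu
  have hsu := isUnit_of_mul_isUnit_left (isUnit_of_mul_isUnit_right hfu)
  have hqu := isUnit_of_mul_isUnit_right (isUnit_of_mul_isUnit_right hfu)
  have htu := isUnit_of_mul_isUnit_left hfu
  refine ⟨f, hf, algebraMap A _ q * hsu.unit⁻¹.1, hqu.mul (Units.isUnit _), r, N, c, ?_, ?_⟩
  · rw [map_pow]
    exact hcN.symm
  · have h5 := congrArg (algebraMap A (Localization.Away f)) htt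
    simp only [map_mul, map_pow] at h5
    have h6 := htu.mul_left_cancel h5
    rw [← mul_assoc, Units.eq_mul_inv_iff_mul_eq, IsUnit.unit_spec]
    exact h6

/-- The uniformizer is not a power on the generic fibre near a closed point. -/
theorem pow_ne_uniformizer {ℓ : ℕ} (hℓ : 1 < ℓ) (b : T) : b ^ ℓ ≠ algebraMap A T (algebraMap R A ϖ) := by
  intro hb
  let p := algebraMap R A ϖ
  obtain ⟨N, c, hcN⟩ := IsLocalization.Away.surj p b
  have h1 : algebraMap A T (c ^ ℓ) = algebraMap A T (p ^ (N * ℓ + 1)) := by
    rw [map_pow, ← hcN, mul_pow, hb, ← pow_mul, map_pow, pow_succ, mul_comm]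
  obtain ⟨⟨_, M, rfl⟩, hM⟩ := (IsLocalization.eq_iff_exists (Submonoid.powers p) T).1 h1
  have h2 := congrArg (algebraMap A (Localization.AtPrime P)) hM
  simp only [map_mul, map_pow, p, ← IsScalarTower.algebraMap_apply] at h2
  by_cases hc : algebraMap A (Localization.AtPrime P) c = 0
  · rw [hc, zero_pow (by omega), mul_zero, ← pow_add] at h2
    exact one_ne_zero (((isRegular_uniformizer hϖ P hP).pow _) (show
      algebraMap R (Localization.AtPrime P) ϖ ^ (M + (N * ℓ + 1)) * (1 : Localization.AtPrime P) = _ * 0 by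
        rw [mul_one, mul_zero]; exact h2.symm))
  obtain ⟨r, v, hv⟩ := exists_eq_pow_mul_unit hϖ P hP hc
  rw [hv, mul_pow, ← pow_mul, ← mul_assoc, ← pow_add, ← pow_add] at h2
  have h3 := pow_mul_unit_inj hϖ P hP (v := v ^ ℓ) (w := 1) (by simpa using h2)
  have h4 : r * ℓ = N * ℓ + 1 := by omega
  have h5 : ℓ ∣ 1 := (Nat.dvd_add_right (dvd_mul_left ℓ N)).1 (h4 ▸ dvd_mul_left ℓ r)
  exact absurd (Nat.le_of_dvd one_pos h5) (by omega)

end Local

end Groth.Agent.H05EGA4.EtCl.Lower
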