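import Mathlib

/-!
# Finiteness over a purely transcendental subfield
-/

set_option autoImplicit false
set_option linter.style.haveILetI false
set_option linter.unusedSectionVars false
set_option backward.isDefEq.respectTransparency false
set_option backward.isDefEq.respectTransparency.types false

universe u

open scoped Classical

namespace Groth.Agent.H05EGA4.EtCl.Lower

/-- A finitely generated extension is finite over a field containing a transcendence basis. -/
theorem finiteDimensional_of_range {k k' : Type u} [Field k] [Field k'] [Algebra k k'] {t : ℕ} {s₀ : Set k'}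
    (hs₀ : IsTranscendenceBasis k ((↑) : s₀ → k')) (e : s₀ ≃ Fin t)
    (hfg : ∃ s : Finset k', IntermediateField.adjoin k (s : Set k') = ⊤) (F : Type u) [Field F] [Algebra F k']
    (hrg : ∀ p : MvPolynomial (Fin t) k, ∃ c : F,
      algebraMap F k' c = MvPolynomial.aeval (fun i => (e.symm i : k')) p) :
    FiniteDimensional F k' := by
  let x : Fin t → k' := fun i => (e.symm i : k')
  let g : MvPolynomial (Fin t) k →ₐ[k] k' := MvPolynomial.aeval x
  choose a ha using hrg
  have halg : Algebra.IsAlgebraic F k' := ⟨fun y => by
    haveI := hs₀.isAlgebraic
    obtain ⟨p, hp0, hp⟩ := Algebra.IsAlgebraic.isAlgebraic (R := Algebra.adjoin k (Set.range ((↑) : s₀ → k'))) y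
    have hsurj : ∀ c : Algebra.adjoin k (Set.range ((↑) : s₀ → k')), ∃ q, g q = (c : k') := fun c => by
      have hc := c.2
      have hrange : Set.range ((↑) : s₀ → k') = Set.range x := by
        show _ = Set.range (Subtype.val ∘ e.symm)
        rw [e.symm.surjective.range_comp]
      have heq : Algebra.adjoin k (Set.range ((↑) : s₀ → k')) = g.range := by
        rw [hrange, Algebra.adjoin_range_eq_range_aeval]
      exact heq.le hc
    choose q hq using hsurj
    refine ⟨∑ n ∈ p.support, Polynomial.monomial n (a (q (p.coeff n))), ?_, ?_⟩
    · intro h0
      obtain ⟨n, hn⟩ := Polynomial.support_nonempty.2 hp0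
      have h1 := congrArg (fun P => algebraMap F k' (Polynomial.coeff P n)) h0
      simp only [Polynomial.finsetSum_coeff, Polynomial.coeff_monomial, Finset.sum_ite_eq', if_pos hn,
        Polynomial.coeff_zero, map_zero, ha] at h1
      exact Polynomial.mem_support_iff.1 hn (Subtype.ext ((hq _).symm.trans h1))
    · rw [map_sum]
      rw [Polynomial.aeval_def, Polynomial.eval₂_eq_sum, Polynomial.sum_def] at hp
      refine Eq.trans (Finset.sum_congr rfl fun n _ => ?_) hp
      rw [Polynomial.aeval_monomial]
      show algebraMap F k' _ * _ = _
      rw [ha, hq]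
      rfl⟩
  obtain ⟨s, hs⟩ := hfg
  have htop : IntermediateField.adjoin F (s : Set k') = ⊤ := by
    refine eq_top_iff.2 fun y _ => ?_
    have hy : y ∈ IntermediateField.adjoin k (s : Set k') := hs ▸ IntermediateField.mem_top
    induction hy using IntermediateField.adjoin_induction with
    | mem z hz => exact IntermediateField.subset_adjoin _ _ hz
    | algebraMap c =>
      rw [← g.commutes c, ← ha]
      exact IntermediateField.algebraMap_mem _ _
    | add a b _ _ ha hb => exact add_mem (ha IntermediateField.mem_top) (hb IntermediateField.mem_top)
    | inv a _ ha => exact inv_mem (ha IntermediateField.mem_top)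
    | mul a b _ _ ha hb => exact mul_mem (ha IntermediateField.mem_top) (hb IntermediateField.mem_top)
  haveI : Algebra.IsIntegral F k' := Algebra.IsAlgebraic.isIntegral
  have hfin : FiniteDimensional F (IntermediateField.adjoin F (s : Set k')) :=
    IntermediateField.finiteDimensional_adjoin fun y _ => Algebra.IsIntegral.isIntegral y
  rw [htop] at hfin
  exact Module.Finite.equiv IntermediateField.topEquiv.toLinearEquiv

end Groth.Agent.H05EGA4.EtCl.Lower
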