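import Groth.Agent.H9GalCoh.Sections
import Groth.Agent.S7732

/-!
# Fields whose separable extensions have `ℓ`-power degree: cyclic extensions of degree `ℓ²`
-/

set_option autoImplicit false
set_option linter.style.haveILetI false
set_option linter.unusedSectionVars false
set_option backward.isDefEq.respectTransparency false
set_option backward.isDefEq.respectTransparency.types false

universe u

open Polynomial IntermediateField
open scoped Classical

namespace Groth.Agent.H05EGA4.EtCl.Lower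

open Groth.Agent.H9GalCoh.Sect (IsPClosed)

variable {K : Type u} [Field K] {ℓ : ℕ} [hℓ : Fact ℓ.Prime]

theorem isPClosed_of_finite (hK : IsPClosed ℓ K) (K' : Type u) [Field K'] [Algebra K K'] [FiniteDimensional K K']
    [Algebra.IsSeparable K K'] : IsPClosed ℓ K' := by
  intro L _ _ hf hs
  haveI := hf
  haveI := hs
  letI : Algebra K L := ((algebraMap K' L).comp (algebraMap K K')).toAlgebra
  haveI : IsScalarTower K K' L := IsScalarTower.of_algebraMap_eq' rfl
  haveI : FiniteDimensional K L := Module.Finite.trans K' L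
  haveI : Algebra.IsSeparable K L := Algebra.IsSeparable.trans K K' L
  obtain ⟨m, hm⟩ := hK L inferInstance inferInstance
  obtain ⟨n, -, hn⟩ := (Nat.dvd_prime_pow hℓ.out).1
    (hm ▸ Dvd.intro_left _ (Module.finrank_mul_finrank K K' L) : Module.finrank K' L ∣ ℓ ^ m)
  exact ⟨n, hn⟩

/-- The normal closure in a separable closure. -/
theorem exists_galois_closure (hK : IsPClosed ℓ K) (L : Type u) [Field L] [Algebra K L] [FiniteDimensional K L]
    [Algebra.IsSeparable K L] :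
    ∃ (N : Type u) (_ : Field N) (_ : Algebra K N) (_ : FiniteDimensional K N) (_ : IsGalois K N)
      (φ : L →ₐ[K] N) (m : ℕ), Nat.card (N ≃ₐ[K] N) = ℓ ^ m ∧
        Nat.card φ.fieldRange.fixingSubgroup * Module.finrank K L = ℓ ^ m := by
  let Ω := SeparableClosure K
  let φ₀ : L →ₐ[K] Ω := IsSepClosed.lift
  let N := IntermediateField.normalClosure K φ₀.fieldRange Ω
  haveI : FiniteDimensional K φ₀.fieldRange := Module.Finite.equiv (AlgEquiv.ofInjectiveField φ₀).toLinearEquiv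
  haveI : IsGalois K N := IsGalois.normalClosure K φ₀.fieldRange Ω
  let φ : L →ₐ[K] N := φ₀.codRestrict N.toSubalgebra fun x =>
    IntermediateField.le_normalClosure φ₀.fieldRange ⟨x, rfl⟩
  obtain ⟨m, hm⟩ := hK N inferInstance inferInstance
  refine ⟨N, inferInstance, inferInstance, inferInstance, inferInstance, φ, m,
    (IsGalois.card_aut_eq_finrank K N).trans hm, ?_⟩
  rw [IsGalois.card_fixingSubgroup_eq_finrank, ← hm,
    (AlgEquiv.ofInjectiveField φ).toLinearEquiv.finrank_eq, mul_comm]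
  exact Module.finrank_mul_finrank K φ.fieldRange N

/-- Extensions of degree `ℓ` are Galois. -/
theorem isGalois_of_finrank_eq (hK : IsPClosed ℓ K) (L : Type u) [Field L] [Algebra K L] [FiniteDimensional K L]
    [Algebra.IsSeparable K L] (h : Module.finrank K L = ℓ) : IsGalois K L := by
  obtain ⟨N, _, _, _, _, φ, m, hcard, hsub⟩ := exists_galois_closure hK L
  let H := φ.fieldRange.fixingSubgroup
  have hidx : H.index = ℓ := by
    have h1 := H.card_mul_index
    rw [hcard, ← hsub, h] at h1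
    exact Nat.eq_of_mul_eq_mul_left Nat.card_pos h1
  haveI : H.Normal := by
    obtain ⟨m', rfl⟩ : ∃ m', m = m' + 1 := ⟨m - 1, by
      rcases m with _ | m
      · rw [pow_zero, h] at hsub
        exact absurd (Nat.eq_one_of_mul_eq_one_left hsub) hℓ.out.ne_one
      · rfl⟩
    exact Subgroup.normal_of_index_eq_minFac_card (by
      rw [hidx, hcard, Nat.Prime.pow_minFac hℓ.out (Nat.succ_ne_zero m')])
  haveI := IsGalois.of_fixedField_normal_subgroup H
  exact IsGalois.of_algEquiv ((IntermediateField.equivOfEq (IsGalois.fixedField_fixingSubgroup φ.fieldRange)).trans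
    (AlgEquiv.ofInjectiveField φ).symm)

/-- A nontrivial extension contains one of degree `ℓ`. -/
theorem exists_subfield_degree (hK : IsPClosed ℓ K) (L : Type u) [Field L] [Algebra K L] [FiniteDimensional K L]
    [Algebra.IsSeparable K L] (h : Module.finrank K L ≠ 1) :
    ∃ E : IntermediateField K L, Module.finrank K E = ℓ := by
  obtain ⟨N, _, _, _, _, φ, m, hcard, hsub⟩ := exists_galois_closure hK L
  let H := φ.fieldRange.fixingSubgroup
  obtain ⟨n, -, hn⟩ := (Nat.dvd_prime_pow hℓ.out).1 (⟨_, hsub.symm⟩ : Nat.card H ∣ ℓ ^ m)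
  have hnm : n < m := by
    by_contra hle
    push Not at hle
    rw [hn] at hsub
    refine h ((Nat.mul_eq_left (pow_ne_zero n hℓ.out.ne_zero)).1 (hsub.trans ?_))
    exact le_antisymm (Nat.pow_le_pow_right hℓ.out.pos hle)
      (hsub ▸ Nat.le_mul_of_pos_right _ Module.finrank_pos)
  obtain ⟨S, hS, hle⟩ := Sylow.exists_subgroup_card_pow_prime_le ℓ (G := N ≃ₐ[K] N) (m := m - 1)
    (by rw [hcard]; exact pow_dvd_pow ℓ (Nat.sub_le m 1)) H hn (by omega)
  let E := IntermediateField.fixedField S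
  have hE : Module.finrank K E = ℓ := by
    have h1 := Module.finrank_mul_finrank K E N
    rw [IntermediateField.finrank_fixedField_eq_card, hS, ← IsGalois.card_aut_eq_finrank K N, hcard] at h1
    refine Nat.eq_of_mul_eq_mul_right (pow_pos hℓ.out.pos (m - 1)) (h1.trans ?_)
    rw [← pow_succ']
    congr 1
    omega
  have hEle : E ≤ φ.fieldRange := by
    rw [← IsGalois.fixedField_fixingSubgroup φ.fieldRange]
    exact IntermediateField.fixedField_antitone hle
  refine ⟨E.comap φ, ?_⟩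
  rw [← hE, ← IntermediateField.finrank_eq_finrank_subalgebra, ← IntermediateField.finrank_eq_finrank_subalgebra]
  have he : (E.comap φ).map φ = E := by
    refine le_antisymm (IntermediateField.map_le_iff_le_comap.2 le_rfl) fun x hx => ?_
    obtain ⟨y, rfl⟩ := hEle hx
    exact ⟨y, hx, rfl⟩
  have h2 := ((E.comap φ).equivMap φ).toLinearEquiv.finrank_eq
  rw [IntermediateField.finrank_eq_finrank_subalgebra, IntermediateField.finrank_eq_finrank_subalgebra]
  exact h2.trans (by rw [he])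

/-- A cyclic extension of degree `ℓ²` over `L`. -/
def Extends (K : Type u) [Field K] (ℓ : ℕ) (L : Type u) [Field L] [Algebra K L] : Prop :=
  ∃ (L₂ : Type u) (_ : Field L₂) (_ : Algebra K L₂) (_ : FiniteDimensional K L₂) (_ : IsGalois K L₂)
    (_ : Algebra L L₂) (_ : IsScalarTower K L L₂) (σ : L₂ ≃ₐ[K] L₂),
    (∀ τ : L₂ ≃ₐ[K] L₂, ∃ i : ℕ, σ ^ i = τ) ∧ Nat.card (L₂ ≃ₐ[K] L₂) = ℓ * ℓ

theorem card_eq_of_pow_ne_one {G : Type*} [Group G] [Finite G] {m : ℕ} (hG : Nat.card G = ℓ ^ m)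
    (hle : Nat.card G ≤ ℓ * ℓ) {σ : G} (hσ : σ ^ ℓ ≠ 1) :
    Nat.card G = ℓ * ℓ ∧ ∀ τ : G, ∃ i : ℕ, σ ^ i = τ := by
  obtain ⟨n, hnm, hn⟩ := (Nat.dvd_prime_pow hℓ.out).1 (hG ▸ orderOf_dvd_natCard σ)
  have h2 : 2 ≤ n := by
    by_contra h
    refine hσ (orderOf_dvd_iff_pow_eq_one.1 ?_)
    rw [hn]
    conv_rhs => rw [← pow_one ℓ]
    exact pow_dvd_pow ℓ (show n ≤ 1 by omega)
  have h3 : ℓ * ℓ ≤ orderOf σ := by
    rw [hn, ← sq]
    exact Nat.pow_le_pow_right hℓ.out.pos h2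
  have h4 := orderOf_le_card (x := σ)
  refine ⟨le_antisymm hle (h3.trans h4), fun τ => ?_⟩
  have h5 : (Submonoid.powers σ : Set G) = Set.univ := by
    refine Set.eq_of_subset_of_ncard_le (Set.subset_univ _) ?_
    rw [Set.ncard_univ, ← Nat.card_coe_set_eq]
    refine le_trans hle (h3.trans (le_of_eq ?_))
    exact (Nat.card_submonoidPowers).symm
  exact Submonoid.mem_powers_iff _ _ |>.1 (show τ ∈ (Submonoid.powers σ : Set G) from h5 ▸ Set.mem_univ τ)

/-- A root whose orbit has `ℓ²` elements gives a cyclic extension of degree `ℓ²`. -/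
theorem extends_of_root (hK : IsPClosed ℓ K) {Ω : Type u} [Field Ω] [Algebra K Ω] [IsGalois K Ω] (β : Ω)
    (f : K[X]) (hf0 : f ≠ 0) (hdeg : f.natDegree ≤ ℓ * ℓ) (hfβ : aeval β f = 0)
    (hroots : ∀ z : Ω, aeval z f = 0 → z ∈ K⟮β⟯) (L : Type u) [Field L] [Algebra K L] (φ : L →ₐ[K] Ω)
    (hL : ∀ x, φ x ∈ K⟮β⟯) (σ : Ω ≃ₐ[K] Ω) (hσ : (σ ^ ℓ) β ≠ β) : Extends K ℓ L := by
  have hint : IsIntegral K β := Algebra.IsIntegral.isIntegral β
  let E := K⟮β⟯
  haveI : FiniteDimensional K E := adjoin.finiteDimensional hint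
  haveI : Normal K E := by
    rw [IntermediateField.normal_iff_forall_map_le]
    intro τ
    rw [IntermediateField.adjoin_map, Set.image_singleton, IntermediateField.adjoin_simple_le_iff]
    refine hroots _ ?_
    rw [aeval_algHom_apply, hfβ, map_zero]
  haveI : IsGalois K E := {}
  obtain ⟨m, hm⟩ := hK E inferInstance inferInstance
  have hcard : Nat.card (E ≃ₐ[K] E) = ℓ ^ m := (IsGalois.card_aut_eq_finrank K E).trans hm
  have hle : Nat.card (E ≃ₐ[K] E) ≤ ℓ * ℓ := by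
    rw [IsGalois.card_aut_eq_finrank, adjoin.finrank hint]
    exact le_trans (Polynomial.natDegree_le_of_dvd (minpoly.dvd K β hfβ) hf0) hdeg
  let r := AlgEquiv.restrictNormalHom (F := K) (K₁ := Ω) E
  have hσ' : r σ ^ ℓ ≠ 1 := fun h => hσ (by
    rw [← map_pow] at h
    have h1 := AlgEquiv.restrictNormal_commutes (σ ^ ℓ) E ⟨β, mem_adjoin_simple_self K β⟩
    rw [show (σ ^ ℓ).restrictNormal E = 1 from h] at h1
    exact h1.symm)
  obtain ⟨hc, hgen⟩ := card_eq_of_pow_ne_one hcard hle hσ'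
  let φE : L →ₐ[K] E := φ.codRestrict E.toSubalgebra hL
  letI : Algebra L E := φE.toRingHom.toAlgebra
  haveI : IsScalarTower K L E := IsScalarTower.of_algebraMap_eq fun x => (φE.commutes x).symm
  exact ⟨E, inferInstance, inferInstance, inferInstance, inferInstance, inferInstance, inferInstance, r σ, hgen, hc⟩

theorem ne_zero_sepClosure (hℓK : (ℓ : K) ≠ 0) : (ℓ : SeparableClosure K) ≠ 0 := fun h => hℓK
  ((algebraMap K (SeparableClosure K)).injective (by rw [map_natCast, map_zero]; exact h))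

/-- Elements of the separable closure outside `K` are moved. -/
theorem exists_apply_ne {x : SeparableClosure K} (hx : ∀ c : K, algebraMap K _ c ≠ x) :
    ∃ σ : SeparableClosure K ≃ₐ[K] SeparableClosure K, σ x ≠ x := by
  by_contra h
  push Not at h
  obtain ⟨c, hc⟩ := IntermediateField.mem_bot.1 ((InfiniteGalois.mem_bot_iff_fixed x).2 h)
  exact hx c hc

theorem exists_pow_eq {b : SeparableClosure K} (hℓK : (ℓ : K) ≠ 0) (hb : b ≠ 0) :
    ∃ β : SeparableClosure K, β ^ ℓ = b := by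
  haveI : NeZero (ℓ : SeparableClosure K) := ⟨ne_zero_sepClosure hℓK⟩
  exact IsSepClosed.exists_pow_nat_eq b ℓ

/-- The primitive `ℓ`th root of unity. -/
theorem exists_zeta (hK : IsPClosed ℓ K) (hℓK : (ℓ : K) ≠ 0) : ∃ ζ : K, IsPrimitiveRoot ζ ℓ := by
  haveI : NeZero (ℓ : K) := ⟨hℓK⟩
  obtain ⟨ζ, hζ⟩ := S7732.exists_cyclotomic_root K ℓ hℓK hK
  refine ⟨ζ, isRoot_cyclotomic_iff.1 ?_⟩
  rw [IsRoot.def, ← map_cyclotomic_int ℓ K, eval_map]
  exact hζ

/-- Extensions of degree `ℓ` are generated by roots. -/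
theorem exists_kummer (hK : IsPClosed ℓ K) (hℓK : (ℓ : K) ≠ 0) (L : Type u) [Field L] [Algebra K L]
    [FiniteDimensional K L] [Algebra.IsSeparable K L] (h : Module.finrank K L = ℓ) :
    ∃ (a : K) (α : L), α ^ ℓ = algebraMap K L a ∧ K⟮α⟯ = ⊤ ∧ a ≠ 0 := by
  haveI := isGalois_of_finrank_eq hK L h
  obtain ⟨ζ, hζ⟩ := exists_zeta hK hℓK
  haveI : IsCyclic Gal(L/K) := isCyclic_of_prime_card (p := ℓ) ((IsGalois.card_aut_eq_finrank K L).trans h)
  obtain ⟨α, ⟨a, ha⟩, hα⟩ := exists_root_adjoin_eq_top_of_isCyclic K L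
    ⟨ζ, (mem_primitiveRoots (by rw [h]; exact hℓ.out.pos)).2 (by rwa [h])⟩
  rw [h] at ha
  refine ⟨a, α, ha.symm, hα, fun h0 => ?_⟩
  rw [h0, map_zero, eq_comm, pow_eq_zero_iff hℓ.out.ne_zero] at ha
  rw [ha, IntermediateField.adjoin_zero] at hα
  rw [← IntermediateField.finrank_top' (F := K) (E := L), ← hα, IntermediateField.finrank_bot] at h
  exact hℓ.out.ne_one h.symm

/-- Roots of roots: the orbit of `β` with `β^ℓ = α`. -/
theorem pow_apply_ne {Ω : Type u} [Field Ω] [Algebra K Ω] (σ : Ω ≃ₐ[K] Ω) {β ω : Ω} (hβ : σ β = ω * β)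
    (c : ℕ) (hω : σ ω = ω ^ c) (hne : ω ^ (∑ i ∈ Finset.range ℓ, c ^ i) ≠ 1) (hβ0 : β ≠ 0) :
    (σ ^ ℓ) β ≠ β := by
  have h : ∀ n : ℕ, (σ ^ n) β = ω ^ (∑ i ∈ Finset.range n, c ^ i) * β := fun n => by
    induction n with
    | zero => simp
    | succ n ih =>
      have e : ∑ i ∈ Finset.range (n + 1), c ^ i = c * (∑ i ∈ Finset.range n, c ^ i) + 1 := by
        rw [Finset.sum_range_succ', pow_zero, Finset.mul_sum]
        exact congrArg (· + 1) (Finset.sum_congr rfl fun i _ => pow_succ' c i)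
      rw [pow_succ', AlgEquiv.mul_apply, ih, map_mul, map_pow, hω, hβ, ← pow_mul, e, pow_succ, mul_assoc]
  rw [h]
  intro hh
  exact hne ((mul_eq_right₀ hβ0).1 hh)

/-- With an `ℓ²`th root of unity all extensions of degree `ℓ` extend. -/
theorem extends_of_zeta (hK : IsPClosed ℓ K) (hℓK : (ℓ : K) ≠ 0) {ω : K} (hω : IsPrimitiveRoot ω (ℓ * ℓ))
    (L : Type u) [Field L] [Algebra K L] [FiniteDimensional K L] [Algebra.IsSeparable K L]
    (h : Module.finrank K L = ℓ) : Extends K ℓ L := by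
  obtain ⟨a, α, hα, hgen, ha⟩ := exists_kummer hK hℓK L h
  let Ω := SeparableClosure K
  let φ : L →ₐ[K] Ω := IsSepClosed.lift
  have hα' : φ α ^ ℓ = algebraMap K Ω a := by rw [← map_pow, hα, φ.commutes]
  have hα0 : φ α ≠ 0 := fun h0 => ha ((map_eq_zero (algebraMap K Ω)).1
    (by rw [← hα', h0, zero_pow hℓ.out.ne_zero]))
  obtain ⟨β, hβ⟩ := exists_pow_eq hℓK hα0
  have hβ0 : β ≠ 0 := fun h0 => hα0 (by rw [← hβ, h0, zero_pow hℓ.out.ne_zero])
  have hnc : ∀ c : K, algebraMap K Ω c ≠ φ α := fun c hc => by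
    have h1 : α ∈ (⊥ : IntermediateField K L) :=
      IntermediateField.mem_bot.2 ⟨c, φ.toRingHom.injective ((φ.commutes c).trans hc)⟩
    rw [← IntermediateField.adjoin_simple_eq_bot_iff, hgen] at h1
    rw [← IntermediateField.finrank_top' (F := K) (E := L), h1, IntermediateField.finrank_bot] at h
    exact hℓ.out.ne_one h.symm
  obtain ⟨σ, hσ⟩ := exists_apply_ne hnc
  have hω' : IsPrimitiveRoot (algebraMap K Ω ω) (ℓ * ℓ) := hω.map_of_injective (algebraMap K Ω).injective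
  haveI : NeZero (ℓ * ℓ) := ⟨mul_ne_zero hℓ.out.ne_zero hℓ.out.ne_zero⟩
  have hβ2 : β ^ (ℓ * ℓ) = algebraMap K Ω a := by rw [pow_mul, hβ, hα']
  obtain ⟨i, -, hi⟩ := hω'.eq_pow_of_pow_eq_one (ξ := σ β / β) (by
    rw [div_pow, ← map_pow, hβ2, AlgEquiv.commutes, div_self ((_root_.map_ne_zero _).2 ha)])
  have hσβ : σ β = algebraMap K Ω ω ^ i * β := by rw [hi, div_mul_cancel₀ _ hβ0]
  refine extends_of_root hK β (X ^ (ℓ * ℓ) - C a) (X_pow_sub_C_ne_zero (Nat.mul_pos hℓ.out.pos hℓ.out.pos) a)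
    (natDegree_X_pow_sub_C).le (by rw [map_sub, map_pow, aeval_X, aeval_C]; exact sub_eq_zero.2 hβ2) (fun z hz => ?_) L φ (fun x => ?_) σ ?_
  · have hz' : z ^ (ℓ * ℓ) = algebraMap K Ω a := by simpa [sub_eq_zero] using hz
    obtain ⟨j, -, hj⟩ := hω'.eq_pow_of_pow_eq_one (ξ := z / β) (by
      rw [div_pow, hz', hβ2, div_self ((_root_.map_ne_zero _).2 ha)])
    rw [← div_mul_cancel₀ z hβ0, ← hj, ← map_pow]
    exact mul_mem (IntermediateField.algebraMap_mem _ _) (mem_adjoin_simple_self K β)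
  · have hx : x ∈ K⟮α⟯ := hgen ▸ IntermediateField.mem_top
    have hx' : φ x ∈ K⟮φ α⟯ := by
      rw [← Set.image_singleton, ← IntermediateField.adjoin_map]
      exact ⟨x, hx, rfl⟩
    refine (IntermediateField.adjoin_simple_le_iff.2 ?_ : K⟮φ α⟯ ≤ K⟮β⟯) hx'
    rw [← hβ]
    exact pow_mem (mem_adjoin_simple_self K β) ℓ
  · refine pow_apply_ne σ hσβ 1 (by rw [pow_one, map_pow, AlgEquiv.commutes]) ?_ hβ0
    simp only [one_pow, Finset.sum_const, Finset.card_range, smul_eq_mul, mul_one]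
    intro h1
    exact hσ (by rw [← hβ, map_pow, hσβ, mul_pow, h1, one_mul])

/-- For odd `ℓ` the extension by the `ℓ²`th roots of unity extends. -/
theorem exists_extends_odd (hK : IsPClosed ℓ K) (hℓK : (ℓ : K) ≠ 0) (hodd : ℓ ≠ 2)
    (hno : ¬ ∃ ω : K, IsPrimitiveRoot ω (ℓ * ℓ)) :
    ∃ (L : IntermediateField K (SeparableClosure K)) (_ : FiniteDimensional K L) (ω : L),
      IsPrimitiveRoot ω (ℓ * ℓ) ∧ Module.finrank K L = ℓ ∧ Extends K ℓ L := by
  let Ω := SeparableClosure K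
  obtain ⟨ζ, hζ⟩ := exists_zeta hK hℓK
  have hζ0 : (algebraMap K Ω ζ) ≠ 0 := (_root_.map_ne_zero _).2 (hζ.ne_zero hℓ.out.ne_zero)
  obtain ⟨ω, hω⟩ := exists_pow_eq hℓK hζ0
  have hω0 : ω ≠ 0 := fun h0 => hζ0 (by rw [← hω, h0, zero_pow hℓ.out.ne_zero])
  obtain ⟨β, hβ⟩ := exists_pow_eq hℓK hω0
  have hβ0 : β ≠ 0 := fun h0 => hω0 (by rw [← hβ, h0, zero_pow hℓ.out.ne_zero])
  have hζ' : IsPrimitiveRoot (algebraMap K Ω ζ) ℓ := hζ.map_of_injective (algebraMap K Ω).injective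
  have prim : ∀ {x y : Ω} {n : ℕ}, IsPrimitiveRoot y (ℓ ^ (n + 1)) → x ^ ℓ = y →
      IsPrimitiveRoot x (ℓ ^ (n + 2)) := fun {x y n} hy hxy => by
    refine IsPrimitiveRoot.iff_orderOf.2 (orderOf_eq_prime_pow ?_ ?_)
    · rw [pow_succ', pow_mul, hxy]
      exact hy.pow_ne_one_of_pos_of_lt (pow_ne_zero _ hℓ.out.ne_zero)
        (Nat.pow_lt_pow_right hℓ.out.one_lt n.lt_succ_self)
    · rw [pow_succ' ℓ (n + 1), pow_mul, hxy, hy.pow_eq_one]
  have hω2 : IsPrimitiveRoot ω (ℓ * ℓ) := by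
    have := prim (n := 0) (by rwa [zero_add, pow_one]) hω
    rwa [zero_add, pow_two] at this
  have hβ3 : IsPrimitiveRoot β (ℓ ^ 3) := prim (n := 1) (by rw [show 1 + 1 = 2 from rfl, pow_two]; exact hω2) hβ
  let L := K⟮ω⟯
  have hωi : IsIntegral K ω := Algebra.IsIntegral.isIntegral ω
  haveI : FiniteDimensional K L := adjoin.finiteDimensional hωi
  have hnc : ∀ c : K, algebraMap K Ω c ≠ ω := fun c hc => hno ⟨c,
    IsPrimitiveRoot.of_map_of_injective (f := algebraMap K Ω) (by rwa [hc]) (algebraMap K Ω).injective⟩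
  have hdeg : Module.finrank K L = ℓ := by
    obtain ⟨m, hm⟩ := hK L inferInstance inferInstance
    have hle : Module.finrank K L ≤ ℓ := by
      rw [adjoin.finrank hωi]
      refine le_trans (natDegree_le_of_dvd (minpoly.dvd K ω (p := X ^ ℓ - C ζ) (by rw [map_sub, map_pow, aeval_X, aeval_C]; exact sub_eq_zero.2 hω))
        (X_pow_sub_C_ne_zero hℓ.out.pos ζ)) natDegree_X_pow_sub_C.le
    rcases m with _ | _ | m
    · exfalso
      rw [pow_zero] at hm
      have hbot : K⟮ω⟯ = ⊥ := IntermediateField.finrank_eq_one_iff.1 hm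
      have hmem := mem_adjoin_simple_self K ω
      rw [hbot] at hmem
      obtain ⟨c, hc⟩ := IntermediateField.mem_bot.1 hmem
      exact hnc c hc
    · rwa [zero_add, pow_one] at hm
    · exfalso
      rw [hm] at hle
      have := Nat.pow_lt_pow_right hℓ.out.one_lt (show 1 < m + 1 + 1 by omega)
      rw [pow_one] at this
      omega
  refine ⟨L, inferInstance, ⟨ω, mem_adjoin_simple_self K ω⟩,
    IsPrimitiveRoot.of_map_of_injective (f := L.val) (by exact hω2) L.val.injective, hdeg, ?_⟩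
  obtain ⟨σ, hσ⟩ := exists_apply_ne hnc
  haveI : NeZero (ℓ ^ 3) := ⟨pow_ne_zero 3 hℓ.out.ne_zero⟩
  have hζ1 : algebraMap K Ω ζ = β ^ (ℓ * ℓ) := by rw [pow_mul, hβ, hω]
  obtain ⟨c, -, hc⟩ := hβ3.eq_pow_of_pow_eq_one (ξ := σ β) (by rw [← map_pow, hβ3.pow_eq_one, map_one])
  -- the multiplier is `1` modulo `ℓ`
  have hc1 : (ℓ : ℤ) ∣ (c : ℤ) - 1 := by
    have h1 : algebraMap K Ω ζ ^ c = algebraMap K Ω ζ := by
      calc algebraMap K Ω ζ ^ c = (β ^ c) ^ (ℓ * ℓ) := by rw [hζ1, ← pow_mul, ← pow_mul, mul_comm]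
        _ = σ (algebraMap K Ω ζ) := by rw [hc, hζ1, map_pow]
        _ = _ := AlgEquiv.commutes _ _
    refine (hζ'.zpow_eq_one_iff_dvd _).1 ?_
    rw [zpow_sub₀ hζ0, zpow_natCast, zpow_one, h1, div_self hζ0]
  have hdvd : ∀ n : ℕ, (ℓ : ℤ) ^ 2 ∣ ∑ i ∈ Finset.range n, ((c : ℤ) ^ i - 1 - (i : ℤ) * ((c : ℤ) - 1)) := fun n => by
    refine Finset.dvd_sum fun i _ => ?_
    clear ‹i ∈ Finset.range n›
    induction i with
    | zero => simp
    | succ i ih =>
      have e : (c : ℤ) ^ (i + 1) - 1 - ((i + 1 : ℕ) : ℤ) * ((c : ℤ) - 1) =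
          c * ((c : ℤ) ^ i - 1 - (i : ℤ) * ((c : ℤ) - 1)) + ((c : ℤ) - 1) ^ 2 * i := by
        push_cast
        ring
      rw [e]
      exact dvd_add (dvd_mul_of_dvd_right ih _)
        (dvd_mul_of_dvd_left (pow_dvd_pow_of_dvd hc1 2) _)
  refine extends_of_root hK β (X ^ (ℓ * ℓ) - C ζ) (X_pow_sub_C_ne_zero (Nat.mul_pos hℓ.out.pos hℓ.out.pos) ζ)
    natDegree_X_pow_sub_C.le (by rw [map_sub, map_pow, aeval_X, aeval_C]; exact sub_eq_zero.2 hζ1.symm) (fun z hz => ?_) L L.val (fun x => ?_) σ ?_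
  · have hz' : z ^ (ℓ * ℓ) = algebraMap K Ω ζ := by simpa [sub_eq_zero] using hz
    obtain ⟨j, -, hj⟩ := hβ3.eq_pow_of_pow_eq_one (ξ := z) (by
      rw [show ℓ ^ 3 = ℓ * ℓ * ℓ by ring, pow_mul, hz', hζ'.pow_eq_one])
    rw [← hj]
    exact pow_mem (mem_adjoin_simple_self K β) j
  · refine (IntermediateField.adjoin_simple_le_iff.2 ?_ : K⟮ω⟯ ≤ K⟮β⟯) x.2
    rw [← hβ]
    exact pow_mem (mem_adjoin_simple_self K β) ℓ
  · intro hfix
    have h1 : ∀ n : ℕ, (σ ^ n) β = β ^ (c ^ n) := fun n => by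
      induction n with
      | zero => simp
      | succ n ih => rw [pow_succ', AlgEquiv.mul_apply, ih, map_pow, ← hc, ← pow_mul, pow_succ' c]
    rw [h1] at hfix
    have h4 : (ℓ : ℤ) ^ 3 ∣ (c : ℤ) ^ ℓ - 1 := by
      have h13 : β ^ (((c ^ ℓ : ℕ) : ℤ) - 1) = 1 := by
        rw [zpow_sub₀ hβ0, zpow_natCast, zpow_one, hfix, div_self hβ0]
      have := (hβ3.zpow_eq_one_iff_dvd _).1 h13
      push_cast at this
      exact this
    -- `c^ℓ - 1 = (c - 1) S` with `S` exactly divisible by `ℓ`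
    have h5 : ((c : ℤ) - 1) * ∑ i ∈ Finset.range ℓ, (c : ℤ) ^ i = (c : ℤ) ^ ℓ - 1 := mul_geom_sum _ _
    have h6 : (ℓ : ℤ) ^ 2 ∣ (∑ i ∈ Finset.range ℓ, (c : ℤ) ^ i) - ℓ := by
      have h8 := hdvd ℓ
      rw [Finset.sum_sub_distrib, Finset.sum_sub_distrib, ← Finset.sum_mul, Finset.sum_const, Finset.card_range,
        nsmul_eq_mul, mul_one] at h8
      have h9 : (ℓ : ℤ) ∣ ∑ i ∈ Finset.range ℓ, (i : ℤ) := by
        have h10 : (∑ i ∈ Finset.range ℓ, i) * 2 = ℓ * (ℓ - 1) := Finset.sum_range_id_mul_two ℓ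
        have h11 : ℓ ∣ ∑ i ∈ Finset.range ℓ, i :=
          ((Nat.coprime_primes hℓ.out Nat.prime_two).2 hodd).dvd_of_dvd_mul_right ⟨ℓ - 1, h10⟩
        have h15 := Int.natCast_dvd_natCast.2 h11
        rwa [Nat.cast_sum] at h15
      have h12 : (ℓ : ℤ) ^ 2 ∣ (∑ i ∈ Finset.range ℓ, (i : ℤ)) * ((c : ℤ) - 1) := by
        rw [pow_two]
        exact mul_dvd_mul h9 hc1
      simpa using dvd_add h8 h12
    obtain ⟨t, ht⟩ := h6
    have h7 : (ℓ : ℤ) ^ 2 ∣ (c : ℤ) - 1 := by
      have h8 : (ℓ : ℤ) ^ 2 * ℓ ∣ ((c : ℤ) - 1) * (1 + ℓ * t) * ℓ := by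
        have h9 : (c : ℤ) ^ ℓ - 1 = ((c : ℤ) - 1) * (1 + ℓ * t) * ℓ := by
          rw [← h5, show ∑ i ∈ Finset.range ℓ, (c : ℤ) ^ i = ℓ + (ℓ : ℤ) ^ 2 * t by linarith]
          ring
        rw [← h9, ← pow_succ]
        exact h4
      refine (IsCoprime.pow_left (m := 2) ?_).dvd_of_dvd_mul_right
        (Int.dvd_of_mul_dvd_mul_right (by exact_mod_cast hℓ.out.ne_zero) h8)
      exact ⟨-t, 1, by ring⟩
    -- hence `ω` is fixed
    apply hσ
    rw [← hβ, map_pow, ← hc, ← pow_mul]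
    obtain ⟨s, hs⟩ := h7
    have h14 : β ^ (((c * ℓ : ℕ) : ℤ) - (ℓ : ℤ)) = 1 := (hβ3.zpow_eq_one_iff_dvd _).2
      ⟨s, by push_cast; linear_combination (ℓ : ℤ) * hs⟩
    rwa [zpow_sub₀ hβ0, zpow_natCast, zpow_natCast, div_eq_one_iff_eq (pow_ne_zero ℓ hβ0)] at h14

/-- Extensions by square roots of sums of two squares extend. -/
theorem exists_extends_two (hK : IsPClosed 2 K) (h2 : (2 : K) ≠ 0) (x y : K)
    (ha : ∀ c : K, c * c ≠ x * x + y * y) :
    ∃ (L : IntermediateField K (SeparableClosure K)) (_ : FiniteDimensional K L) (α : L),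
      α * α = algebraMap K L (x * x + y * y) ∧ Module.finrank K L = 2 ∧ Extends K 2 L := by
  haveI : Fact (Nat.Prime 2) := ⟨Nat.prime_two⟩
  have h2' : ((2 : ℕ) : K) ≠ 0 := by exact_mod_cast h2
  let Ω := SeparableClosure K
  let a := x * x + y * y
  let ι := algebraMap K Ω
  have ha0 : a ≠ 0 := fun h => ha 0 (by rw [mul_zero]; exact h.symm)
  have hx : x ≠ 0 := fun h => ha y (by rw [h, mul_zero, zero_add])
  have hy : y ≠ 0 := fun h => ha x (by rw [h, mul_zero, add_zero])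
  obtain ⟨α, hα⟩ := exists_pow_eq (b := ι a) h2' ((_root_.map_ne_zero ι).2 ha0)
  rw [pow_two] at hα
  have hnc : ∀ c : K, ι c ≠ α := fun c hc => ha c (ι.injective (by rw [map_mul, hc]; exact hα))
  obtain ⟨σ, hσ⟩ := exists_apply_ne hnc
  have hσα : σ α = -α := by
    refine ((mul_self_eq_mul_self_iff).1 ?_).resolve_left hσ
    rw [← map_mul, hα, AlgEquiv.commutes]
  have hb0 : ι a + ι x * α ≠ 0 := fun h => hnc (-a / x) (by
    rw [map_div₀, map_neg, div_eq_iff ((_root_.map_ne_zero ι).2 hx)]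
    linear_combination -h)
  obtain ⟨β, hβ⟩ := exists_pow_eq (ℓ := 2) h2' hb0
  have hβ0 : β ≠ 0 := fun h0 => hb0 (by rw [← hβ, h0, zero_pow two_ne_zero])
  have hyα : α * ι y ≠ 0 := mul_ne_zero (fun h0 => hnc 0 (by rw [map_zero, h0])) ((_root_.map_ne_zero ι).2 hy)
  have hconj : (ι a + ι x * α) * (ι a - ι x * α) = (α * ι y) * (α * ι y) := by
    have hae : ι a = ι x * ι x + ι y * ι y := by simp [a]
    linear_combination (-(ι x * ι x) - ι y * ι y) * hα + ι a * hae
  let γ := α * ι y / β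
  have hγ : γ * γ = ι a - ι x * α := by
    show α * ι y / β * (α * ι y / β) = _
    rw [div_mul_div_comm, ← hconj, ← pow_two, hβ, mul_div_cancel_left₀ _ hb0]
  let L := K⟮α⟯
  have hαi : IsIntegral K α := Algebra.IsIntegral.isIntegral α
  haveI : FiniteDimensional K L := adjoin.finiteDimensional hαi
  have hdeg : Module.finrank K L = 2 := by
    obtain ⟨m, hm⟩ := hK L inferInstance inferInstance
    have hle : Module.finrank K L ≤ 2 := by
      rw [adjoin.finrank hαi]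
      refine le_trans (natDegree_le_of_dvd (minpoly.dvd K α (p := X ^ 2 - C a) (by rw [map_sub, map_pow, aeval_X, aeval_C, pow_two]; exact sub_eq_zero.2 hα))
        (X_pow_sub_C_ne_zero two_pos a)) natDegree_X_pow_sub_C.le
    rcases m with _ | _ | m
    · exfalso
      rw [pow_zero] at hm
      have hbot : K⟮α⟯ = ⊥ := IntermediateField.finrank_eq_one_iff.1 hm
      have hmem := mem_adjoin_simple_self K α
      rw [hbot] at hmem
      obtain ⟨c, hc⟩ := IntermediateField.mem_bot.1 hmem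
      exact hnc c hc
    · rwa [zero_add, pow_one] at hm
    · exfalso
      rw [hm] at hle
      have := Nat.pow_lt_pow_right (show 1 < 2 by norm_num) (show 1 < m + 1 + 1 by omega)
      rw [pow_one] at this
      omega
  refine ⟨L, inferInstance, ⟨α, mem_adjoin_simple_self K α⟩, Subtype.ext hα, hdeg, ?_⟩
  have hαβ : α ∈ K⟮β⟯ := by
    rw [show α = (β * β - ι a) / ι x by
      rw [← pow_two, hβ, add_sub_cancel_left, mul_div_cancel_left₀ _ ((_root_.map_ne_zero ι).2 hx)]]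
    exact div_mem (sub_mem (mul_mem (mem_adjoin_simple_self K β) (mem_adjoin_simple_self K β))
      (IntermediateField.algebraMap_mem _ _)) (IntermediateField.algebraMap_mem _ _)
  have hγβ : γ ∈ K⟮β⟯ := div_mem (mul_mem hαβ (IntermediateField.algebraMap_mem _ _)) (mem_adjoin_simple_self K β)
  let f : K[X] := (X ^ 2 - C a) ^ 2 - C (x * x * a)
  have hf : f.Monic := by
    refine ((monic_X_pow_sub_C a two_ne_zero).pow 2).sub_of_left ?_
    rw [degree_eq_natDegree ((monic_X_pow_sub_C a two_ne_zero).pow 2).ne_zero,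
      Monic.natDegree_pow (monic_X_pow_sub_C a two_ne_zero), natDegree_X_pow_sub_C]
    exact degree_C_le.trans_lt (by norm_num)
  have hfdeg : f.natDegree ≤ 2 * 2 := by
    refine (natDegree_sub_le _ _).trans (max_le ?_ (by rw [natDegree_C]; exact Nat.zero_le _))
    rw [Monic.natDegree_pow (monic_X_pow_sub_C a two_ne_zero), natDegree_X_pow_sub_C]
  refine extends_of_root hK β f hf.ne_zero hfdeg ?_ (fun z hz => ?_) L L.val (fun t => ?_) σ ?_
  · simp only [f, map_sub, map_pow, aeval_X, aeval_C, map_mul]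
    rw [hβ]
    linear_combination (ι x * ι x) * hα
  · simp only [f, map_sub, map_pow, aeval_X, aeval_C, map_mul, sub_eq_zero] at hz
    have h1 : z ^ 2 - ι a = ι x * α ∨ z ^ 2 - ι a = -(ι x * α) :=
      sq_eq_sq_iff_eq_or_eq_neg.1 (by rw [hz]; linear_combination -(ι x * ι x) * hα)
    rcases h1 with h1 | h1
    · rcases sq_eq_sq_iff_eq_or_eq_neg.1 (show z ^ 2 = β ^ 2 by rw [hβ]; linear_combination h1) with rfl | rfl
      · exact mem_adjoin_simple_self K z
      · exact neg_mem (mem_adjoin_simple_self K β)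
    · rcases sq_eq_sq_iff_eq_or_eq_neg.1 (show z ^ 2 = γ ^ 2 by rw [pow_two γ, hγ]; linear_combination h1) with rfl | rfl
      · exact hγβ
      · exact neg_mem hγβ
  · exact (IntermediateField.adjoin_simple_le_iff.2 hαβ : K⟮α⟯ ≤ K⟮β⟯) t.2
  · have hsq : σ β ^ 2 = γ ^ 2 := by
      rw [← map_pow, hβ, map_add, map_mul, AlgEquiv.commutes, AlgEquiv.commutes, hσα, pow_two γ, hγ]
      ring
    rw [pow_two, AlgEquiv.mul_apply]
    have hσγ : σ γ = -(α * ι y) / σ β := by
      rw [show γ = α * ι y / β from rfl, map_div₀, map_mul, hσα, AlgEquiv.commutes, neg_mul]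
    have hne : -β ≠ β := fun h => by
      refine (mul_ne_zero ((_root_.map_ne_zero ι).2 h2) hβ0) ?_
      rw [map_ofNat]
      linear_combination -h
    rcases sq_eq_sq_iff_eq_or_eq_neg.1 hsq with h | h
    · rw [h, hσγ, h, show γ = α * ι y / β from rfl, neg_div, div_div_cancel₀ hyα]
      exact hne
    · rw [h, map_neg, hσγ, h, show γ = α * ι y / β from rfl, neg_div_neg_eq, div_div_cancel₀ hyα]
      exact hne

end Groth.Agent.H05EGA4.EtCl.Lower
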