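import Groth.Agent.H05EGA4.EtCl.Lower.DvrResidue
import Groth.Agent.H15Site.HensCoh.Main
import Groth.Agent.H15Site.IntDesc.PushH

/-!
# The fraction field of a henselian discrete valuation ring gains at most one degree
-/

set_option autoImplicit false
set_option linter.style.haveILetI false
set_option linter.unusedSectionVars false
set_option linter.overlappingInstances false
set_option backward.isDefEq.respectTransparency false
set_option backward.isDefEq.respectTransparency.types false

universe u

open CategoryTheory CategoryTheory.Limits AlgebraicGeometry Opposite Abelian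
open scoped Classical

namespace Groth.Agent.H05EGA4.EtCl.Lower

open scoped Groth.Agent.H18Et

section Henselian

variable (R : Type u) [CommRing R] [HenselianLocalRing R]

local notation "Yh" => Spec (CommRingCat.of R)
local notation "ih" => Spec.map (CommRingCat.ofHom (IsLocalRing.residue R))

/-- The spectrum of a henselian local ring has the dimension of its residue field. -/
theorem cohDimLEAt_henselian {ℓ d : ℕ}
    (h : Dix.CohDimLEAt (Spec (CommRingCat.of (IsLocalRing.ResidueField R))) ℓ d) :
    Dix.CohDimLEAt Yh ℓ d := by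
  intro F hF q hq
  let η := H15Site.HensCoh.η₀ F
  let T : ShortComplex (EtCoh.Ab Yh) :=
    ShortComplex.mk (Abelian.image.ι η) (cokernel.π η) (kernel.condition _)
  have hT : T.ShortExact :=
    { exact := ShortComplex.exact_of_f_is_kernel _ (kernelIsKernel _)
      mono_f := inferInstanceAs (Mono (Abelian.image.ι η))
      epi_g := inferInstanceAs (Epi (cokernel.π η)) }
  let S : ShortComplex (EtCoh.Ab Yh) := ShortComplex.mk (kernel.ι η) (Abelian.factorThruImage η)
    (by rw [← cancel_mono (Abelian.image.ι η), Category.assoc, Abelian.image.fac, kernel.condition, zero_comp])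
  have hS : S.ShortExact :=
    { exact := ShortComplex.exact_of_f_is_kernel _ (KernelFork.IsLimit.ofι' S.f S.zero fun {A} k hk =>
        ⟨kernel.lift η k (by rw [← Abelian.image.fac η, ← Category.assoc, hk, zero_comp]),
          kernel.lift_ι _ _ _⟩)
      mono_f := inferInstanceAs (Mono (kernel.ι η))
      epi_g := inferInstanceAs (Epi (Abelian.factorThruImage η)) }
  obtain ⟨r, rfl⟩ : ∃ r, q = r + 1 := ⟨q - 1, by omega⟩
  haveI : IsClosedImmersion ih := IsClosedImmersion.spec_of_surjective _ IsLocalRing.residue_surjective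
  haveI := H18Et.pull_preservesFiniteLimits ih
  obtain ⟨i⟩ := H15Site.IntDesc.nonempty_H_push ih ((EtCoh.pull ih).obj F) (r + 1)
  haveI := h _ (isPrimaryTorsion_pull ih hF) (r + 1) hq
  haveI hP : Subsingleton (EtCoh.H Yh ((EtCoh.push ih).obj ((EtCoh.pull ih).obj F)) (r + 1)) :=
    Function.Injective.subsingleton (β := EtCoh.H _ ((EtCoh.pull ih).obj F) (r + 1))
      i.addCommGroupIsoToAddEquiv.injective
  refine subsingleton_of_forall_eq 0 fun x => ?_
  obtain ⟨y, hy⟩ := Ext.covariant_sequence_exact₁ _ hT (x.comp (Ext.mk₀ S.g) (add_zero _)) (hP.elim _ _)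
    (rfl : r + 1 = r + 1)
  rw [(H15Site.HensCoh.subsingleton_H r _ (H15Site.HensCoh.isZero_pull_cokernel F)).elim y 0, Ext.zero_comp] at hy
  obtain ⟨z, hz⟩ := Ext.covariant_sequence_exact₂ _ hS x hy.symm
  rw [← hz, (H15Site.HensCoh.subsingleton_H (r + 1) _ (H15Site.HensCoh.isZero_pull_kernel F)).elim z 0,
    Ext.zero_comp]

end Henselian

variable {R K : Type u} [CommRing R] [IsDomain R] [IsDiscreteValuationRing R] [Field K] [Algebra R K]
  [IsFractionRing R K]

/-- The first direct images from the generic point stay primary. -/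
theorem isPrimaryTorsion_rOne_jgen [QuasiCompact (jgen R K)] {ℓ : ℕ} [hℓp : Fact ℓ.Prime]
    (G : EtCoh.Ab (Spec (CommRingCat.of K))) (hG : Dix.IsPrimaryTorsion ℓ G) :
    Dix.IsPrimaryTorsion ℓ (rOne (jgen R K) G) := by
  haveI := isOpenImmersion_jgen R K
  refine isPrimaryTorsion_of_supp_stalk _ fun s => ?_
  obtain ⟨T, _, _, _, _, _, hsc⟩ := exists_strictHens ((Spec (CommRingCat.of R)).presheaf.stalk s)
  haveI := hsc
  refine ⟨_, inferInstance, inferInstance, Hens2.geomPt _ s T, hensGeomPt_base s T, fun p => ?_⟩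
  obtain ⟨w, hw⟩ := exists_H_of_stalk (jgen R K) s T 0 G p
  haveI : IsNoetherianRing T := (S0540.result ((Spec (CommRingCat.of R)).presheaf.stalk s) T).1 inferInstance
  let Z := pullback (jgen R K) (Hens2.specOf (Spec (CommRingCat.of R)) s T)
  let g := pullback.snd (jgen R K) (Hens2.specOf (Spec (CommRingCat.of R)) s T)
  haveI : IsLocallyNoetherian Z := LocallyOfFiniteType.isLocallyNoetherian g
  haveI : CompactSpace Z := QuasiCompact.compactSpace_of_compactSpace g
  haveI : AlgebraicGeometry.IsNoetherian Z := {}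
  haveI := (inferInstance : Hensel.IsStrictHenselization ((Spec (CommRingCat.of R)).presheaf.stalk s) T).henselian
  have hcases := strictHens_cases _ ((stalk_cases R s).imp And.right And.right) T
  have hdom : IsDomain T := by
    rcases hcases with ⟨-, hT⟩ | ⟨-, hT, -⟩
    · exact hT.isDomain
    · exact hT
  haveI := hdom
  -- all points of the fibre lie over the zero ideal
  have hbot : ∀ z : Z, (g z).asIdeal = ⊥ := fun z => by
    rcases hcases with ⟨-, hT⟩ | ⟨⟨_, _⟩, _, _⟩
    · letI := hT.toField
      exact (Ideal.eq_bot_or_top (g z).asIdeal).resolve_right (g z).isPrime.ne_top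
    · by_contra hne
      haveI := (g z).isPrime
      have hmax := IsLocalRing.eq_maximalIdeal (IsPrime.to_maximal_ideal hne)
      have h1 : (Hens2.specOf (Spec (CommRingCat.of R)) s T) (g z) = s := by
        rw [show g z = IsLocalRing.closedPoint T from PrimeSpectrum.ext hmax]
        exact H15Site.SpecArrows.specOf_closedPoint
      have h2 : (Hens2.specOf (Spec (CommRingCat.of R)) s T) (g z) = (⟨⊥, Ideal.isPrime_bot⟩ : PrimeSpectrum R) := by
        rw [← Scheme.Hom.comp_apply, ← pullback.condition, Scheme.Hom.comp_apply]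
        exact jgen_apply R K _
      rcases stalk_cases R s with ⟨-, hf⟩ | ⟨hc, -⟩
      · exact IsDiscreteValuationRing.not_isField _ hf
      · have h3 := congrArg PrimeSpectrum.asIdeal ((h1.symm.trans h2).symm.trans hc)
        exact IsDiscreteValuationRing.not_a_field R h3.symm
  haveI : Subsingleton Z := ⟨fun a b => g.isEmbedding.injective
    (PrimeSpectrum.ext ((hbot a).trans (hbot b).symm))⟩
  obtain ⟨m, hm⟩ := exists_pow_nsmul_H_points (fun z => by
    rw [show ({z} : Set Z) = Set.univ from Set.eq_univ_of_forall fun a => Subsingleton.elim a z]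
    exact isClosed_univ) hℓp.out _ (isPrimaryTorsion_pull (pullback.fst (jgen R K) (Hens2.specOf _ s T)) hG)
    1 Nat.one_pos w
  exact ⟨m, hw _ hm⟩

/-- `cd_ℓ(K) ≤ cd_ℓ(k) + 1`, given the strictly henselian case. -/
theorem cohDimLEAt_fractionField_of_local (R K : Type u) [CommRing R] [IsDomain R] [IsDiscreteValuationRing R]
    [HenselianLocalRing R] [Field K] [Algebra R K] [IsFractionRing R K] {ℓ d : ℕ} [Fact ℓ.Prime]
    (hloc : ∀ (T : Type u) [CommRing T] [IsDomain T] [IsDiscreteValuationRing T] [HenselianLocalRing T]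
      [IsSepClosed (IsLocalRing.ResidueField T)]
      [Algebra ((Spec (CommRingCat.of R)).presheaf.stalk (IsLocalRing.closedPoint R)) T]
      [IsLocalHom (algebraMap ((Spec (CommRingCat.of R)).presheaf.stalk (IsLocalRing.closedPoint R)) T)]
      [Hensel.IsStrictHenselization ((Spec (CommRingCat.of R)).presheaf.stalk (IsLocalRing.closedPoint R)) T],
      Dix.CohDimLEAt (Spec (CommRingCat.of (FractionRing T))) ℓ 1)
    (h : Dix.CohDimLEAt (Spec (CommRingCat.of (IsLocalRing.ResidueField R))) ℓ d) :
    Dix.CohDimLEAt (Spec (CommRingCat.of K)) ℓ (d + 1) := by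
  haveI := isOpenImmersion_jgen R K
  haveI : QuasiCompact (jgen R K) := inferInstanceAs (QuasiCompact (Spec.map _))
  haveI : QuasiSeparated (jgen R K) := inferInstance
  exact cohDimLEAt_succ (jgen R K) (fun G hG j => H18Et.Cons.isZero_of_supp_eq_empty _ fun s =>
      notMem_supp_rOne_jgen_of hloc G hG (j + 1) s (Or.inr (Nat.le_add_left 1 j)))
    (fun G hG => isPrimaryTorsion_rOne_jgen G hG)
    (fun G hG => isPrimaryTorsion_push (jgen R K) (fun P _ => (H18Et.Coh.qcqs_bc (jgen R K) P).1) G hG)
    (cohDimLEAt_henselian R h)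

/-- **`cd_ℓ(K) ≤ cd_ℓ(k) + 1`.** -/
theorem cohDimLEAt_fractionField_henselian (R K : Type u) [CommRing R] [IsDomain R] [IsDiscreteValuationRing R]
    [HenselianLocalRing R] [Field K] [Algebra R K] [IsFractionRing R K] {ℓ d : ℕ} [Fact ℓ.Prime]
    (hℓ : IsUnit (ℓ : R)) (h : Dix.CohDimLEAt (Spec (CommRingCat.of (IsLocalRing.ResidueField R))) ℓ d) :
    Dix.CohDimLEAt (Spec (CommRingCat.of K)) ℓ (d + 1) := by
  haveI := isOpenImmersion_jgen R K
  haveI : QuasiCompact (jgen R K) := inferInstanceAs (QuasiCompact (Spec.map _))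
  haveI : QuasiSeparated (jgen R K) := inferInstance
  exact cohDimLEAt_succ (jgen R K) (fun G hG j => isZero_rOne_jgen hℓ G hG j)
    (fun G hG => isPrimaryTorsion_rOne_jgen G hG)
    (fun G hG => isPrimaryTorsion_push (jgen R K) (fun P _ => (H18Et.Coh.qcqs_bc (jgen R K) P).1) G hG)
    (cohDimLEAt_henselian R h)

end Groth.Agent.H05EGA4.EtCl.Lower
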