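import Groth.Agent.H05EGA4.EtCl.Lower.BaseBound
import Groth.Agent.H05EGA4.DimOneBase
import Groth.Agent.S0555

/-!
# The bound `cd ≤ dim` for strictly henselian local domains over a field or a discrete valuation ring
-/

set_option autoImplicit false
set_option linter.style.haveILetI false
set_option linter.unusedSectionVars false
set_option linter.overlappingInstances false
set_option backward.isDefEq.respectTransparency false
set_option backward.isDefEq.respectTransparency.types false

universe u

open CategoryTheory CategoryTheory.Limits AlgebraicGeometry Opposite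
open scoped Classical

namespace Groth.Agent.H05EGA4.EtCl.Lower

open scoped Groth.Agent.H18Et

variable {W S D : Type u} [CommRing W] [IsDomain W] [IsLocalRing W] [IsNoetherianRing W]
  [CommRing S] [IsDomain S] [Algebra W S] [Algebra.FiniteType W S] [FaithfulSMul W S]
  [CommRing D] [IsDomain D] [HenselianLocalRing D] [IsSepClosed (IsLocalRing.ResidueField D)]
  [Algebra W D] [Algebra S D] [IsScalarTower W S D]
  (L : Type u) [Field L] [Algebra D L] [IsFractionRing D L]
  {ℓ : ℕ} [hℓ : Fact ℓ.Prime]

/-- **`cd_ℓ(Frac D) ≤ height q`.** -/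
theorem cohDimLEAt_le_height (hW : IsField W ∨ IsDiscreteValuationRing W) (hℓW : IsUnit (ℓ : W))
    (hinj : Function.Injective (algebraMap S D)) (q : Ideal S) [q.IsPrime]
    (hq : q = (IsLocalRing.maximalIdeal D).comap (algebraMap S D))
    [Algebra S L] [IsScalarTower S D L] [Algebra.IsAlgebraic S L] {n : ℕ} (hn : q.height ≤ n) :
    Dix.CohDimLEAt (Spec (CommRingCat.of L)) ℓ n := by
  letI : Algebra W L := ((algebraMap S L).comp (algebraMap W S)).toAlgebra
  haveI : IsScalarTower W S L := IsScalarTower.of_algebraMap_eq' rfl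
  haveI : IsScalarTower W D L := IsScalarTower.of_algebraMap_eq fun c => by
    show algebraMap S L (algebraMap W S c) = _
    rw [IsScalarTower.algebraMap_apply S D L, ← IsScalarTower.algebraMap_apply W S D]
  let p := q.under W
  haveI : q.LiesOver p := ⟨rfl⟩
  haveI : IsNoetherianRing S := Algebra.FiniteType.isNoetherianRing W S
  have hdim : ringKrullDim W ≤ 1 := by
    rcases hW with h | h
    · rw [ringKrullDim_eq_zero_of_isField h]
      exact zero_le_one
    · haveI := h
      exact le_of_eq ((IsPrincipalIdealRing.ringKrullDim_eq_one _ (IsDiscreteValuationRing.not_isField W)))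
  have hcat : CAlg.IsUniversallyCatenary W :=
    ((H05EGA4.FormalStrict.formallyStrictlyCatenary_iff W).1 (S2639.result W hdim)).1
  have hform := S0555.result W hcat S p q
  -- finiteness
  obtain ⟨a, ha⟩ : ∃ a : ℕ, Algebra.trdeg W S = a := by
    obtain ⟨m, f, hf⟩ := (Algebra.FiniteType.iff_quotient_mvPolynomial'' (R := W) (S := S)).1 inferInstance
    have h1 : Algebra.trdeg W S ≤ (m : Cardinal.{u}) := by
      refine (trdeg_le_of_surjective f hf).trans (le_of_eq ?_)
      rw [MvPolynomial.trdeg_of_isDomain, Cardinal.mk_fin, Cardinal.lift_natCast]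
    obtain ⟨a, ha⟩ := Cardinal.lt_aleph0.1 (h1.trans_lt Cardinal.natCast_lt_aleph0)
    exact ⟨a, ha⟩
  have hL : Algebra.trdeg W L = a := by
    haveI : FaithfulSMul S L := (faithfulSMul_iff_algebraMap_injective S L).2 (by
      rw [IsScalarTower.algebraMap_eq S D L]
      exact (IsFractionRing.injective D L).comp hinj)
    rw [← trdeg_add_eq W S (A := L), ha, trdeg_eq_zero (R := S) (A := L), add_zero]
  obtain ⟨m, hm⟩ : ∃ m : ℕ, q.height = m :=
    ⟨_, (ENat.coe_toNat (Ideal.height_ne_top (Ideal.IsPrime.ne_top inferInstance))).symm⟩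
  obtain ⟨c, hc⟩ : ∃ c : ℕ, p.height = c :=
    ⟨_, (ENat.coe_toNat (Ideal.height_ne_top (Ideal.IsPrime.ne_top inferInstance))).symm⟩
  rw [hm, hc, ha, Cardinal.ofENat_nat, Cardinal.ofENat_nat] at hform
  obtain ⟨b, hb⟩ : ∃ b : ℕ, Algebra.trdeg (W ⧸ p) (S ⧸ q) = b := Cardinal.lt_aleph0.1
    (lt_of_le_of_lt (le_add_self.trans hform.le) (by rw [← Nat.cast_add]; exact Cardinal.natCast_lt_aleph0))
  rw [hb] at hform
  have hsum : m + b = c + a := by exact_mod_cast hform
  have hmn : m ≤ n := by rw [hm] at hn; exact_mod_cast hn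
  haveI : FaithfulSMul (W ⧸ p) (S ⧸ q) :=
    (faithfulSMul_iff_algebraMap_injective _ _).2 Ideal.algebraMap_quotient_injective
  obtain ⟨s, hs⟩ := exists_isTranscendenceBasis (W ⧸ p) (S ⧸ q)
  obtain ⟨e⟩ : Nonempty (s ≃ Fin b) := by
    have h1 := hs.lift_cardinalMk_eq_trdeg
    rw [Cardinal.lift_id, Cardinal.lift_id, hb] at h1
    exact Cardinal.lift_mk_eq'.1 (show Cardinal.lift.{0} (Cardinal.mk s) = Cardinal.lift.{u} (Cardinal.mk (Fin b)) by
      rw [h1, Cardinal.mk_fin, Cardinal.lift_natCast, Cardinal.lift_natCast])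
  choose z hz using fun i : Fin b => Ideal.Quotient.mk_surjective ((e.symm i : s) : S ⧸ q)
  let y : Fin b → D := fun i => algebraMap S D (z i)
  have hind : AlgebraicIndependent (W ⧸ p) fun i : Fin b => ((e.symm i : s) : S ⧸ q) := hs.1.comp _ e.symm.injective
  have haev : ∀ P : MvPolynomial (Fin b) W, MvPolynomial.aeval y P = algebraMap S D (MvPolynomial.aeval z P) :=
    fun P => (MvPolynomial.aeval_algebraMap_apply D z P)
  have hunit : ∀ P : MvPolynomial (Fin b) W, P.map (Ideal.Quotient.mk p) ≠ 0 → IsUnit (MvPolynomial.aeval y P) :=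
    fun P hP => by
    by_contra hu
    refine hP (hind ?_)
    have h1 : MvPolynomial.aeval z P ∈ q := by
      rw [hq, Ideal.mem_comap, ← haev]
      exact hu
    have h2 := Ideal.Quotient.eq_zero_iff_mem.2 h1
    rw [map_zero, ← h2, MvPolynomial.aeval_def, MvPolynomial.eval₂_map, MvPolynomial.aeval_def,
      MvPolynomial.eval₂_comp_left (Ideal.Quotient.mk q)]
    congr 1
    funext i
    exact (hz i).symm
  have hinjD : Function.Injective (algebraMap W D) := by
    rw [IsScalarTower.algebraMap_eq W S D]
    exact hinj.comp (FaithfulSMul.algebraMap_injective W S)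
  by_cases hp : p = ⊥
  · have hc0 : c = 0 := by
      rw [hp, Ideal.height_bot] at hc
      exact_mod_cast hc.symm
    have h1 := cohDimLEAt_over_field (ℓ := ℓ) L hinjD y (fun P hP => hunit P fun h0 => hP
      (MvPolynomial.map_injective _ (by
        intro u v huv
        have h3 := Ideal.Quotient.eq.1 huv
        rw [hp, Ideal.mem_bot] at h3
        exact sub_eq_zero.1 h3) (h0.trans (map_zero _).symm))) hL
    exact fun G hG i hi => h1 G hG i (by omega)
  · haveI : p.IsPrime := inferInstance
    have hnf : ¬ IsField W := fun h => by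
      letI := h.toField
      exact hp ((Ideal.eq_bot_or_top p).resolve_right (Ideal.IsPrime.ne_top inferInstance))
    haveI := hW.resolve_left hnf
    have hpm : p = IsLocalRing.maximalIdeal W := IsLocalRing.eq_maximalIdeal (IsPrime.to_maximal_ideal hp)
    have hc1 : 1 ≤ c := by
      by_contra h
      have h0 : p.height = 0 := by rw [hc]; exact_mod_cast Nat.lt_one_iff.1 (not_le.1 h)
      rw [Ideal.height_eq_zero_iff, IsDomain.minimalPrimes_eq_singleton_bot] at h0
      exact hp h0
    have hm1 : 1 ≤ m := by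
      by_contra h
      have h0 : q.height = 0 := by rw [hm]; exact_mod_cast Nat.lt_one_iff.1 (not_le.1 h)
      rw [Ideal.height_eq_zero_iff, IsDomain.minimalPrimes_eq_singleton_bot] at h0
      exact hp (le_bot_iff.1 fun w hw => (map_eq_zero_iff _ (FaithfulSMul.algebraMap_injective W S)).1
        (Ideal.mem_bot.1 (h0 ▸ hw : algebraMap W S w ∈ (⊥ : Ideal S))))
    have hc2 : c ≤ 1 := by
      have h2 := (Ideal.height_le_ringKrullDim_of_ne_top (Ideal.IsPrime.ne_top (inferInstance : p.IsPrime))).trans hdim
      rw [hc] at h2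
      exact_mod_cast h2
    obtain ⟨ϖ, hϖ⟩ := IsDiscreteValuationRing.exists_irreducible W
    have hres : ∀ P : MvPolynomial (Fin b) W, P.map (IsLocalRing.residue W) ≠ 0 → P.map (Ideal.Quotient.mk p) ≠ 0 :=
      fun P hP h0 => hP (MvPolynomial.ext _ _ fun d => by
        have h3 := congrArg (MvPolynomial.coeff d) h0
        rw [MvPolynomial.coeff_map, MvPolynomial.coeff_zero, Ideal.Quotient.eq_zero_iff_mem, hpm] at h3
        rw [MvPolynomial.coeff_map, MvPolynomial.coeff_zero]
        exact (IsLocalRing.residue_eq_zero_iff _).2 h3)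
    have hloc : IsLocalHom (algebraMap W D) := ⟨fun w hw => by
      by_contra hu
      have h4 : algebraMap W S w ∈ q := by
        show w ∈ p
        rw [hpm]
        exact hu
      rw [hq, Ideal.mem_comap, ← IsScalarTower.algebraMap_apply W S D] at h4
      exact h4 hw⟩
    have hindy : Function.Injective (MvPolynomial.aeval (R := W) y) := by
      rw [injective_iff_map_eq_zero]
      intro P hP
      by_contra hP0
      have hnu : ¬ IsUnit (MvPolynomial.C ϖ : MvPolynomial (Fin b) W) := fun h =>
        hϖ.not_isUnit (by simpa using h.map MvPolynomial.constantCoeff)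
      obtain ⟨P₀, hP₀, hP₀'⟩ := (FiniteMultiplicity.of_not_isUnit hnu hP0).exists_eq_pow_mul_and_not_dvd
        (a := MvPolynomial.C ϖ)
      have h5 : IsUnit (MvPolynomial.aeval y P₀) := hunit P₀ (hres P₀ fun h0 => hP₀' (by
        rw [MvPolynomial.C_dvd_iff_dvd_coeff]
        intro d
        have h3 := congrArg (MvPolynomial.coeff d) h0
        rw [MvPolynomial.coeff_map, MvPolynomial.coeff_zero, IsLocalRing.residue_eq_zero_iff, hϖ.maximalIdeal_eq,
          Ideal.mem_span_singleton] at h3
        exact h3))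
      rw [hP₀, map_mul, map_pow, MvPolynomial.aeval_C] at hP
      exact pow_ne_zero _ ((map_ne_zero_iff _ hinjD).2 hϖ.ne_zero) (h5.mul_left_eq_zero.1 hP)
    have h1 := cohDimLEAt_over_dvr (ℓ := ℓ) L hinjD hloc hℓW y (fun P hP => hunit P (hres P hP)) hindy hL
    exact fun G hG i hi => h1 G hG i (by omega)

end Groth.Agent.H05EGA4.EtCl.Lower
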