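import Mathlib

/-!
# Fields in which `-1` is not a sum of squares can be ordered (Artin–Schreier)
-/

set_option autoImplicit false
set_option linter.style.haveILetI false

universe u

open scoped Classical

namespace Groth.Agent.H05EGA4.EtCl.Lower

/-- Positive cones: closed under sums and products, containing squares, not `-1`. -/
structure IsPre {F : Type u} [Field F] (P : Set F) : Prop where
  add : ∀ {a b}, a ∈ P → b ∈ P → a + b ∈ P
  mul : ∀ {a b}, a ∈ P → b ∈ P → a * b ∈ P
  sq : ∀ a, a * a ∈ P
  neg_one : (-1 : F) ∉ P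

variable {F : Type u} [Field F]

theorem isSumSq_neg_one_or_orderable :
    IsSumSq (-1 : F) ∨ ∃ _ : LinearOrder F, IsStrictOrderedRing F := by
  by_contra h
  push Not at h
  obtain ⟨h1, h2⟩ := h
  have h0 : IsPre {x : F | IsSumSq x} :=
    { add := fun ha hb => ha.add hb
      mul := fun ha hb => ha.mul hb
      sq := fun a => IsSumSq.mul_self a
      neg_one := h1 }
  obtain ⟨P, -, hP, hmax⟩ := zorn_subset_nonempty {Q : Set F | IsPre Q}
    (fun c hc hchain hne => ⟨⋃₀ c, ⟨fun {a b} ha hb => by
        obtain ⟨s, hs, ha⟩ := ha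
        obtain ⟨t, ht, hb⟩ := hb
        rcases hchain.total hs ht with hle | hle
        · exact ⟨t, ht, (hc ht).add (hle ha) hb⟩
        · exact ⟨s, hs, (hc hs).add ha (hle hb)⟩,
      fun {a b} ha hb => by
        obtain ⟨s, hs, ha⟩ := ha
        obtain ⟨t, ht, hb⟩ := hb
        rcases hchain.total hs ht with hle | hle
        · exact ⟨t, ht, (hc ht).mul (hle ha) hb⟩
        · exact ⟨s, hs, (hc hs).mul ha (hle hb)⟩,
      fun a => by
        obtain ⟨s, hs⟩ := hne
        exact ⟨s, hs, (hc hs).sq a⟩,
      fun hn => by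
        obtain ⟨s, hs, hn⟩ := hn
        exact (hc hs).neg_one hn⟩, fun s hs => Set.subset_sUnion_of_mem hs⟩) _ h0
  -- totality
  have htot : ∀ a, a ∈ P ∨ -a ∈ P := fun a => by
    have hext : ∀ b, (∀ x ∈ P, ∀ y ∈ P, x + b * y ≠ -1) → b ∈ P := fun b hb => by
      let Q : Set F := {z | ∃ x ∈ P, ∃ y ∈ P, z = x + b * y}
      have hQ : IsPre Q :=
        { add := fun ⟨x, hx, y, hy, e⟩ ⟨x', hx', y', hy', e'⟩ =>
            ⟨x + x', hP.add hx hx', y + y', hP.add hy hy', by rw [e, e']; ring⟩
          mul := fun ⟨x, hx, y, hy, e⟩ ⟨x', hx', y', hy', e'⟩ =>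
            ⟨x * x' + b * b * (y * y'), hP.add (hP.mul hx hx') (hP.mul (hP.sq b) (hP.mul hy hy')),
              x * y' + y * x', hP.add (hP.mul hx hy') (hP.mul hy hx'), by rw [e, e']; ring⟩
          sq := fun z => ⟨z * z, hP.sq z, 0, by simpa using hP.sq 0, by ring⟩
          neg_one := fun ⟨x, hx, y, hy, e⟩ => hb x hx y hy e.symm }
      refine hmax hQ (fun z hz => ⟨z, hz, 0, by simpa using hP.sq 0, by ring⟩) ?_
      exact ⟨0, by simpa using hP.sq 0, 1, by simpa using hP.sq 1, by ring⟩
    by_contra hcon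
    push Not at hcon
    obtain ⟨ha, hna⟩ := hcon
    obtain ⟨x, hx, y, hy, e⟩ : ∃ x ∈ P, ∃ y ∈ P, x + a * y = -1 := by
      by_contra hh
      push Not at hh
      exact ha (hext a hh)
    obtain ⟨x', hx', y', hy', e'⟩ : ∃ x ∈ P, ∃ y ∈ P, x + (-a) * y = -1 := by
      by_contra hh
      push Not at hh
      exact hna (hext (-a) hh)
    apply hP.neg_one
    have e3 : (-1 : F) = x + x' + (x * x' + a * a * (y * y')) := by
      linear_combination (-(1 + x')) * e + (a * y) * e'
    rw [e3]
    exact hP.add (hP.add hx hx') (hP.add (hP.mul hx hx') (hP.mul (hP.sq a) (hP.mul hy hy')))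
  have hpos : ∀ a, a ∈ P → -a ∈ P → a = 0 := fun a ha hna => by
    by_contra hne
    apply hP.neg_one
    have : (-1 : F) = a * -a * (a⁻¹ * a⁻¹) := by field_simp
    rw [this]
    exact hP.mul (hP.mul ha hna) (hP.sq _)
  have h00 : (0 : F) ∈ P := by simpa using hP.sq 0
  letI lo : LinearOrder F :=
    { le := fun a b => b - a ∈ P
      le_refl := fun a => by show a - a ∈ P; rw [sub_self]; exact h00
      le_trans := fun a b c hab hbc => by
        show c - a ∈ P
        rw [← sub_add_sub_cancel c b a]
        exact hP.add hbc hab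
      le_antisymm := fun a b hab hba => by
        have := hpos (b - a) hab (by rw [neg_sub]; exact hba)
        exact (sub_eq_zero.1 this).symm
      le_total := fun a b => (htot (b - a)).imp id fun h => by
        show a - b ∈ P
        rwa [neg_sub] at h
      toDecidableLE := Classical.decRel _ }
  haveI : IsOrderedAddMonoid F :=
    { add_le_add_left := fun a b hab c => by
        show b + c - (a + c) ∈ P
        rw [add_sub_add_right_eq_sub]
        exact hab }
  haveI : ZeroLEOneClass F := ⟨show (1 : F) - 0 ∈ P by rw [sub_zero]; simpa using hP.sq 1⟩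
  exact h2 lo (IsStrictOrderedRing.of_mul_pos fun a b ha hb => by
    have ha' : a - 0 ∈ P := ha.le
    have hb' : b - 0 ∈ P := hb.le
    refine lt_of_le_of_ne ?_ (mul_ne_zero ha.ne' hb.ne').symm
    show a * b - 0 ∈ P
    rw [sub_zero] at ha' hb' ⊢
    exact hP.mul ha' hb')

/-- Fields which cannot be ordered. -/
theorem isSumSq_of_not_orderable (h : ¬ ∃ _ : LinearOrder F, IsStrictOrderedRing F) : IsSumSq (-1 : F) :=
  isSumSq_neg_one_or_orderable.resolve_right h

theorem isSumSq_map {G : Type u} [Field G] (φ : F →+* G) {a : F} (h : IsSumSq a) : IsSumSq (φ a) := by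
  induction h with
  | zero => rw [map_zero]; exact IsSumSq.zero
  | sq_add x _ ih => rw [map_add, map_mul]; exact IsSumSq.sq_add _ ih

/-- Transport of `-1` being a sum of squares from a field which cannot be ordered. -/
theorem isSumSq_neg_one_of_hom {G : Type u} [Field G] (φ : F →+* G)
    (h : ¬ ∃ _ : LinearOrder F, IsStrictOrderedRing F) : IsSumSq (-1 : G) := by
  have := isSumSq_map φ (isSumSq_of_not_orderable h)
  rwa [map_neg, map_one] at this

end Groth.Agent.H05EGA4.EtCl.Lower
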