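import Groth.Agent.H05EGA4.EtCl.Lower.Orderable
import Groth.Agent.H05EGA4.EtCl.Lower.CyclicLift
import Groth.Agent.H05EGA4.EtCl.Lower.DvrLower
import Groth.Agent.H05EGA4.EtCl.PushVanish
import Mathlib.Algebra.Ring.Semireal.Defs
import Mathlib.GroupTheory.Sylow
import Mathlib.FieldTheory.Galois.Basic

/-!
# Orderable fields have infinite 2-cohomological dimension
-/

set_option autoImplicit false
set_option linter.style.haveILetI false
set_option linter.unusedSectionVars false
set_option linter.overlappingInstances false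
set_option backward.isDefEq.respectTransparency false
set_option backward.isDefEq.respectTransparency.types false

universe u

open CategoryTheory CategoryTheory.Limits AlgebraicGeometry Opposite Abelian Polynomial IntermediateField
open scoped Classical

namespace Groth.Agent.H05EGA4.EtCl.Lower

open Groth.Agent.H18Et.ConstSheaf (rest unitTop homConst homConst_rest)
open Groth.Agent.H18Et.MuConst (sec)
open scoped Groth.Agent.H18Et

/-- If `H^1(K, μ_ℓ) = 0` every element is an `ℓ`-th power. -/
theorem exists_pow_eq_of_H1 (K : Type u) [Field K] (ℓ : ℕ) [Fact ℓ.Prime] (hℓK : (ℓ : K) ≠ 0)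
    (h : Subsingleton (EtCoh.H (Spec (CommRingCat.of K)) (EtCoh.mu (Spec (CommRingCat.of K)) ℓ) 1)) (c : Kˣ) :
    ∃ a : K, a ^ ℓ = c := by
  let S : Scheme.{u} := Spec (CommRingCat.of K)
  let P : Γ(S, ⊤)ˣ := Units.map (Scheme.ΓSpecIso (CommRingCat.of K)).inv.hom.toMonoidHom c
  let t : EtCoh.const S ℤ ⟶ EtCoh.Gm S :=
    homConst (EtCoh.Gm S) (fromZ (A := (EtCoh.Gm S).obj.obj (op (EtCoh.top S))) (sec (U := EtCoh.top S) P))
  have hK : IsUnit (ℓ : Γ(S, ⊤)) := S7732.isUnit_gamma K ℓ hℓK
  have h1 : (Ext.mk₀ t).comp (shortExact_kummer hK).extClass (zero_add 1) = 0 :=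
    Subsingleton.elim (α := EtCoh.H S (EtCoh.mu S ℓ) 1) _ _
  obtain ⟨z, hz⟩ := Ext.covariant_sequence_exact₃ _ (shortExact_kummer hK) (Ext.mk₀ t) (zero_add 1) h1
  obtain ⟨f, rfl⟩ := (Ext.mk₀_bijective _ _).surjective z
  rw [Ext.mk₀_comp_mk₀] at hz
  have hf := congrArg (fun k => k.hom.app (op (EtCoh.top S))
    (rest (EtCoh.const S ℤ) (EtCoh.top S) (unitTop (AddCommGrpCat.of (ULift.{u + 1} ℤ)) (ULift.up 1))))
    ((Ext.mk₀_bijective _ _).injective hz)
  rw [homConst_rest] at hf
  obtain ⟨v, hv⟩ := H18Et.MuConst.sec_surjective (f.hom.app (op (EtCoh.top S))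
    (rest (EtCoh.const S ℤ) (EtCoh.top S) (unitTop (AddCommGrpCat.of (ULift.{u + 1} ℤ)) (ULift.up 1))))
  have hP : v ^ ℓ = P := by
    refine H18Et.MuConst.sec_injective (U := EtCoh.top S) ?_
    rw [← H18Et.MuConst.nsmul_sec, hv, ← nsmul_hom_app]
    have hpw : f ≫ EtCoh.powMap S ℓ = ℓ • f := by
      show f ≫ (ℓ • 𝟙 (EtCoh.Gm S)) = ℓ • f
      rw [Preadditive.comp_nsmul, Category.comp_id]
    refine Eq.trans ?_ (hf.trans ?_)
    · exact (congrArg (fun k => k.hom.app (op (EtCoh.top S))
        (rest (EtCoh.const S ℤ) (EtCoh.top S) (unitTop (AddCommGrpCat.of (ULift.{u + 1} ℤ)) (ULift.up 1)))) hpw).symm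
    · show rest (EtCoh.Gm S) (EtCoh.top S) ((1 : ℤ) • sec P) = _
      rw [one_zsmul]
      exact (congrArg (fun g => (EtCoh.Gm S).obj.map g (sec (U := EtCoh.top S) P))
        (Quiver.Hom.unop_inj ((EtCore.topIsTerminal S).hom_ext _ (𝟙 _)))).trans
          (ConcreteCategory.congr_hom ((EtCoh.Gm S).obj.map_id _) _)
  let v' : Γ(S, ⊤)ˣ := v
  have hP' : v' ^ ℓ = P := hP
  refine ⟨(Scheme.ΓSpecIso (CommRingCat.of K)).hom (v' : Γ(S, ⊤)), ?_⟩
  show (Scheme.ΓSpecIso (CommRingCat.of K)).hom.hom (v' : Γ(S, ⊤)) ^ ℓ = _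
  rw [← map_pow, ← Units.val_pow_eq_pow_val, hP']
  exact ConcreteCategory.congr_hom (Scheme.ΓSpecIso (CommRingCat.of K)).inv_hom_id (c : K)

open Groth.Agent.H9GalCoh in
open Groth.Agent.H9GalCoh.Cyclic (V P Z D aug norm) in
/-- Cyclic extensions without cohomology: vanishing goes down by two degrees. -/
theorem subsingleton_H_of_cyclic (K : Type u) [Field K] (L : Type u) [Field L] [Algebra K L]
    [AlgebraicGeometry.Etale (Transfer.str K L)] [FiniteDimensional K L] [IsGalois K L] {σ : L ≃ₐ[K] L}
    (hσ : ∀ τ : L ≃ₐ[K] L, ∃ i : ℕ, σ ^ i = τ) (F : EtCoh.Ab (Spec (CommRingCat.of K))) (q : ℕ)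
    (hvan : ∀ r, q ≤ r → Subsingleton
      (EtCoh.H (Spec (CommRingCat.of L)) ((EtCoh.pull (Transfer.str K L)).obj F) r))
    (h : Subsingleton (EtCoh.H (Spec (CommRingCat.of K)) F (1 + (q + 1)))) :
    Subsingleton (EtCoh.H (Spec (CommRingCat.of K)) F q) := by
  haveI := H18Et.pull_preservesFiniteLimits (Transfer.str K L)
  have hE : ∀ r, q ≤ r → Subsingleton (Ext (P K L) F r) := fun r hr => by
    haveI := hvan r hr
    exact Function.Injective.subsingleton (f := H18Et.FreeSheaf.phi (Transfer.str K L) F r)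
      (H18Et.FreeSheaf.phi_bijective (Transfer.str K L) F r).1
  have hS : (ShortComplex.mk (norm K L) (cokernel.π (norm K L)) (cokernel.condition _)).ShortExact :=
    Cyclic.shortExact_norm K L
  have hT : (ShortComplex.mk (cokernel.desc (norm K L) (D K L σ) (Cyclic.norm_D K L _))
    (aug K L) (Cyclic.desc_D_aug K L _)).ShortExact := Cyclic.shortExact_aug hσ
  refine subsingleton_of_forall_eq 0 fun (x : Ext (Z K) F q) => ?_
  obtain ⟨z, hz⟩ := Ext.contravariant_sequence_exact₁ hT F (hS.extClass.comp x (Nat.add_comm 1 q))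
    (rfl : 1 + (q + 1) = 1 + (q + 1)) (h.elim _ _)
  have hy : hS.extClass.comp x (Nat.add_comm 1 q) = 0 := by
    rw [← hz, show z = 0 from (hE (q + 1) (Nat.le_succ q)).elim z 0, Ext.comp_zero]
  obtain ⟨w, hw⟩ := Ext.contravariant_sequence_exact₁ hS F x (Nat.add_comm 1 q) hy
  rw [← hw, show w = 0 from (hE q le_rfl).elim w 0, Ext.comp_zero]

section Semireal

variable {K : Type u} [Field K] (hreal : ¬ IsSumSq (-1 : K))

include hreal

theorem isSumSq_add_ne_zero {a b : K} (ha : IsSumSq a) (hb : IsSumSq b) (ha0 : a ≠ 0) : a + b ≠ 0 := fun h => by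
  refine hreal ?_
  have h1 : (-1 : K) = a * b * (a⁻¹ * a⁻¹) := by
    rw [eq_neg_of_add_eq_zero_right h]
    field_simp
  rw [h1]
  exact (ha.mul hb).mul (IsSumSq.mul_self _)

/-- The shape of one plus a sum of squares of polynomials. -/
theorem shape_of_sums (l : List K[X]) :
    (1 + (l.map fun g => g * g).sum : K[X]) ≠ 0 ∧ Even (1 + (l.map fun g => g * g).sum : K[X]).natDegree ∧
      IsSumSq (1 + (l.map fun g => g * g).sum : K[X]).leadingCoeff := by
  induction l with
  | nil => simp
  | cons g l ih =>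
    obtain ⟨hA, hev, hlc⟩ := ih
    rw [List.map_cons, List.sum_cons, add_left_comm]
    set A := (1 + (l.map fun g => g * g).sum : K[X]) with hAdef
    rcases eq_or_ne g 0 with rfl | hg
    · rw [zero_mul, zero_add]
      exact ⟨hA, hev, hlc⟩
    have hgg : g * g ≠ 0 := mul_ne_zero hg hg
    have hd : (g * g).natDegree = g.natDegree + g.natDegree := natDegree_mul hg hg
    have hgl : (g * g).leadingCoeff = g.leadingCoeff * g.leadingCoeff := leadingCoeff_mul g g
    rcases lt_trichotomy (g * g).natDegree A.natDegree with hlt | heq | hgt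
    · have h1 := natDegree_add_eq_right_of_natDegree_lt hlt
      refine ⟨fun h0 => ?_, h1.symm ▸ hev, ?_⟩
      · rw [h0, natDegree_zero] at h1
        omega
      · rw [leadingCoeff_add_of_degree_lt (degree_lt_degree hlt)]
        exact hlc
    · have hne : (g * g).leadingCoeff + A.leadingCoeff ≠ 0 :=
        isSumSq_add_ne_zero hreal (hgl ▸ IsSumSq.mul_self _) hlc (leadingCoeff_ne_zero.2 hgg)
      have hdeg : (g * g).degree = A.degree := by
        rw [degree_eq_natDegree hgg, degree_eq_natDegree hA, heq]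
      have h1 := leadingCoeff_add_of_degree_eq hdeg hne
      have h2 : (g * g + A).natDegree = A.natDegree := by
        refine le_antisymm ((natDegree_add_le _ _).trans (max_le heq.le le_rfl)) (le_natDegree_of_ne_zero ?_)
        rw [coeff_add]
        conv_lhs => arg 1; rw [← heq]
        exact hne
      refine ⟨fun h0 => hne ?_, h2.symm ▸ hev, ?_⟩
      · rw [← h1, h0, leadingCoeff_zero]
      · rw [h1, hgl]
        exact IsSumSq.sq_add _ hlc
    · have h1 := natDegree_add_eq_left_of_natDegree_lt hgt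
      refine ⟨fun h0 => ?_, h1.symm ▸ hd.symm ▸ ⟨g.natDegree, rfl⟩, ?_⟩
      · rw [h0, natDegree_zero] at h1
        omega
      · rw [add_comm, leadingCoeff_add_of_degree_lt (degree_lt_degree hgt), hgl]
        exact IsSumSq.mul_self _

/-- Springer: polynomials of odd degree do not divide one plus a sum of squares. -/
theorem not_dvd_of_odd : ∀ (n : ℕ) (f : K[X]), f.natDegree = n → Odd n → ∀ l : List K[X],
    ¬ f ∣ 1 + (l.map fun g => g * g).sum := by
  intro n
  induction n using Nat.strong_induction_on with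
  | _ n ih =>
    intro f hf hn l hdvd
    have hf0 : f ≠ 0 := fun h => by
      rw [h, natDegree_zero] at hf
      rw [← hf] at hn
      exact Nat.not_odd_zero hn
    let l' := l.map (· % f)
    have hdvd' : f ∣ 1 + (l'.map fun g => g * g).sum := by
      have h1 : ∀ m : List K[X], f ∣ (m.map fun g => g * g).sum - ((m.map (· % f)).map fun g => g * g).sum := fun m => by
        induction m with
        | nil => simp
        | cons g m ihm =>
          simp only [List.map_cons, List.sum_cons]
          rw [add_sub_add_comm]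
          refine dvd_add ⟨g / f * (g + g % f), ?_⟩ ihm
          linear_combination (-(g + g % f)) * EuclideanDomain.div_add_mod g f
      have h2 := dvd_sub hdvd (h1 l)
      rwa [add_sub_assoc, sub_sub_cancel] at h2
    obtain ⟨hA, hev, -⟩ := shape_of_sums hreal l'
    have hle : (1 + (l'.map fun g => g * g).sum : K[X]).natDegree ≤ 2 * n - 2 := by
      refine (natDegree_add_le _ _).trans (max_le (by simp) ?_)
      have key : ∀ m : List K[X], (∀ g ∈ m, g.natDegree < n) → (m.map fun g => g * g).sum.natDegree ≤ 2 * n - 2 := fun m => by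
        induction m with
        | nil => simp
        | cons g m ihm =>
          intro hm
          rw [List.map_cons, List.sum_cons]
          refine (natDegree_add_le _ _).trans (max_le (natDegree_mul_le.trans ?_) (ihm fun x hx => hm x (List.mem_cons_of_mem _ hx)))
          have := hm g List.mem_cons_self
          omega
      refine key l' fun g hg => ?_
      obtain ⟨g₀, -, rfl⟩ := List.mem_map.1 hg
      exact hf ▸ natDegree_mod_lt g₀ (by rw [hf]; exact fun h => Nat.not_odd_zero (h ▸ hn))
    obtain ⟨h, hh⟩ := hdvd'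
    have hh0 : h ≠ 0 := fun h0 => hA (by rw [hh, h0, mul_zero])
    rw [hh, natDegree_mul hf0 hh0, hf] at hev hle
    have hodd : Odd h.natDegree := by
      rcases Nat.even_or_odd h.natDegree with he | ho
      · exact absurd hev (Nat.not_even_iff_odd.2 (hn.add_even he))
      · exact ho
    have hn1 : 1 ≤ n := hn.pos
    have hlt : h.natDegree < n := by omega
    exact ih h.natDegree hlt h rfl hodd l' ⟨f, hh.trans (mul_comm f h)⟩

end Semireal

theorem charZero_of_semireal {F : Type u} [Field F] (hF : ¬ IsSumSq (-1 : F)) : CharZero F := by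
  refine charZero_of_inj_zero fun n hn => ?_
  by_contra h0
  obtain ⟨m, rfl⟩ := Nat.exists_eq_add_one_of_ne_zero h0
  rw [Nat.cast_succ] at hn
  refine hF ?_
  rw [← eq_neg_of_add_eq_zero_left hn]
  exact IsSumSq.natCast m

/-- A maximal semireal algebraic extension. -/
theorem exists_maximal_semireal (F : Type u) [Field F] (hF : ¬ IsSumSq (-1 : F)) :
    ∃ K : IntermediateField F (AlgebraicClosure F), ¬ IsSumSq (-1 : K) ∧
      ∀ ψ : AlgebraicClosure F, ψ ∉ K → ∃ l : List K[X], aeval ψ (1 + (l.map fun g => g * g).sum) = 0 := by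
  let Ω := AlgebraicClosure F
  let P : Set (IntermediateField F Ω) := {K | ¬ IsSumSq (-1 : K)}
  have hmono : ∀ (K K' : IntermediateField F Ω) (h : K ≤ K'), IsSumSq (-1 : K) → IsSumSq (-1 : K') := fun K K' h hs => by
    have := isSumSq_map (IntermediateField.inclusion h).toRingHom hs
    rwa [map_neg, map_one] at this
  have hbot : (⊥ : IntermediateField F Ω) ∈ P := fun hs => hF (by
    have := isSumSq_map (IntermediateField.botEquiv F Ω).toRingEquiv.toRingHom hs
    rwa [map_neg, map_one] at this)
  obtain ⟨K, -, hKP, hmax⟩ := zorn_le_nonempty₀ P (fun c hc hchain y hy => by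
    refine ⟨sSup c, fun hs => ?_, fun z hz => le_sSup hz⟩
    have key : ∀ x : (sSup c : IntermediateField F Ω), IsSumSq x → ∃ K ∈ c, ∃ z : K, IsSumSq z ∧ (z : Ω) = x := by
      intro x hx
      have hdir : DirectedOn (· ≤ ·) c := hchain.directedOn
      induction hx with
      | zero => exact ⟨y, hy, 0, IsSumSq.zero, rfl⟩
      | @sq_add a s hs ihs =>
        obtain ⟨K₁, hK₁, z, hz, hzs⟩ := ihs
        haveI : Nonempty c := ⟨⟨y, hy⟩⟩
        have ha : (a : Ω) ∈ ((⨆ t : c, (t : IntermediateField F Ω) : IntermediateField F Ω) : Set Ω) := by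
          rw [← sSup_eq_iSup']
          exact a.2
        rw [IntermediateField.coe_iSup_of_directed (hdir.directed_val)] at ha
        obtain ⟨⟨K₂, hK₂⟩, ha⟩ := Set.mem_iUnion.1 ha
        obtain ⟨K₃, hK₃, h13, h23⟩ := hdir K₁ hK₁ K₂ hK₂
        refine ⟨K₃, hK₃, ⟨a, h23 ha⟩ * ⟨a, h23 ha⟩ + IntermediateField.inclusion h13 z,
          IsSumSq.sq_add _ (isSumSq_map (IntermediateField.inclusion h13).toRingHom hz), ?_⟩
        show (a : Ω) * a + (z : Ω) = _
        rw [hzs]
        rfl
    obtain ⟨K', hK', z, hz, hz'⟩ := key _ hs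
    refine hc hK' ?_
    rwa [show z = -1 from Subtype.ext hz'] at hz) ⊥ hbot
  have hout : ∀ ψ : Ω, ψ ∉ K → ∃ l : List K[X], aeval ψ (1 + (l.map fun g => g * g).sum) = 0 := fun ψ hψ => by
    let K' := (K⟮ψ⟯).restrictScalars F
    have hle : K ≤ K' := fun x hx => (K⟮ψ⟯).algebraMap_mem ⟨x, hx⟩
    have hs : IsSumSq (-1 : K') := by
      by_contra hs
      exact hψ (hmax hs hle (IntermediateField.mem_adjoin_simple_self K ψ))
    have key : ∀ x : K', IsSumSq x → ∃ l : List K[X], aeval ψ (l.map fun g => g * g).sum = (x : Ω) := by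
      intro x hx
      induction hx with
      | zero => exact ⟨[], by simp⟩
      | @sq_add a s hs ihs =>
        obtain ⟨l, hl⟩ := ihs
        have ha : (a : Ω) ∈ Algebra.adjoin K ({ψ} : Set Ω) := by
          rw [← IntermediateField.adjoin_simple_toSubalgebra_of_isAlgebraic (Algebra.IsAlgebraic.isAlgebraic ψ)]
          exact a.2
        rw [Algebra.adjoin_singleton_eq_range_aeval] at ha
        obtain ⟨g, hg⟩ := ha
        refine ⟨g :: l, ?_⟩
        rw [List.map_cons, List.sum_cons, map_add, map_mul, hl, show aeval ψ g = (a : Ω) from hg]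
        rfl
    obtain ⟨l, hl⟩ := key _ hs
    exact ⟨l, by rw [map_add, map_one, hl]; show (1 : Ω) + -1 = 0; ring⟩
  exact ⟨K, hKP, fun ψ hψ => hout ψ hψ⟩

section Max

variable {F : Type u} [Field F] {K : IntermediateField F (AlgebraicClosure F)} [CharZero K]
  (hKP : ¬ IsSumSq (-1 : K))
  (hout : ∀ ψ : AlgebraicClosure F, ψ ∉ K → ∃ l : List K[X], aeval ψ (1 + (l.map fun g => g * g).sum) = 0)

include hKP hout

theorem finrank_eq_one_of_odd (E : Type u) [Field E] [Algebra K E] [FiniteDimensional K E]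
    (hE : Odd (Module.finrank K E)) : Module.finrank K E = 1 := by
  let Ω := AlgebraicClosure F
  obtain ⟨α, hα⟩ := Field.exists_primitive_element K E
  have hint : IsIntegral K α := Algebra.IsIntegral.isIntegral α
  have hdeg : (minpoly K α).natDegree = Module.finrank K E := by
    rw [← IntermediateField.adjoin.finrank hint, hα, IntermediateField.finrank_top']
  obtain ⟨ψ, hψ⟩ := IsAlgClosed.exists_aeval_eq_zero Ω (minpoly K α) (minpoly.degree_pos hint).ne'
  by_contra h1
  have hmin : minpoly K ψ = minpoly K α :=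
    (minpoly.eq_of_irreducible_of_monic (minpoly.irreducible hint) hψ (minpoly.monic hint)).symm
  have hψK : ψ ∉ K := fun hmem => by
    apply h1
    rw [← hdeg, ← hmin, show ψ = algebraMap K Ω ⟨ψ, hmem⟩ from rfl, minpoly.eq_X_sub_C, natDegree_X_sub_C]
  obtain ⟨l, hl⟩ := hout ψ hψK
  exact not_dvd_of_odd hKP _ (minpoly K α) hdeg hE l (hmin ▸ minpoly.dvd K ψ hl)

theorem isSquare_or_isSquare_neg' (a : K) : IsSquare a ∨ IsSquare (-a) := by
  let Ω := AlgebraicClosure F
  have hsq : ∀ a : K, ¬ IsSquare a → IsSumSq (-a) := fun a ha => by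
    obtain ⟨s, hs⟩ := IsAlgClosed.exists_pow_nat_eq (algebraMap K Ω a) Nat.zero_lt_two
    have hsK : s ∉ K := fun hmem => ha ⟨⟨s, hmem⟩, Subtype.ext (by
      show (a : Ω) = s * s
      rw [← pow_two, hs]
      rfl)⟩
    obtain ⟨l, hl⟩ := hout s hsK
    have key : ∀ l : List K[X], ∃ A B C : K, IsSumSq A ∧ IsSumSq B ∧
        aeval s (l.map fun g => g * g).sum = algebraMap K Ω (A + a * B) + algebraMap K Ω C * s := fun l => by
      induction l with
      | nil => exact ⟨0, 0, 0, IsSumSq.zero, IsSumSq.zero, by simp⟩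
      | cons g l ihl =>
        obtain ⟨A, B, C, hA, hB, hE⟩ := ihl
        obtain ⟨b, c, hg⟩ : ∃ b c : K, aeval s g = algebraMap K Ω b + algebraMap K Ω c * s := by
          induction g using Polynomial.induction_on' with
          | add p q hp hq =>
            obtain ⟨b, c, hb⟩ := hp
            obtain ⟨b', c', hb'⟩ := hq
            exact ⟨b + b', c + c', by rw [map_add, hb, hb', map_add, map_add]; ring⟩
          | monomial n x =>
            rw [aeval_monomial]
            obtain ⟨m, rfl | rfl⟩ := Nat.even_or_odd' n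
            · exact ⟨x * a ^ m, 0, by rw [pow_mul, hs, map_mul, map_pow, map_zero, zero_mul, add_zero]⟩
            · exact ⟨0, x * a ^ m, by rw [pow_succ, pow_mul, hs, map_mul, map_pow, map_zero, zero_add, mul_assoc]⟩
        refine ⟨b * b + A, c * c + B, 2 * b * c + C, IsSumSq.sq_add _ hA, IsSumSq.sq_add _ hB, ?_⟩
        rw [List.map_cons, List.sum_cons, map_add, map_mul, hg, hE]
        simp only [map_add, map_mul, map_ofNat]
        rw [← hs]
        ring
    obtain ⟨A, B, C, hA, hB, hE⟩ := key l
    rw [map_add, map_one, hE] at hl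
    have hC : C = 0 := by
      by_contra hC
      refine hsK ?_
      have h1 : s = algebraMap K Ω (-(1 + (A + a * B)) / C) := by
        rw [map_div₀, eq_div_iff ((map_ne_zero_iff _ (algebraMap K Ω).injective).2 hC)]
        simp only [map_neg, map_add, map_one, map_mul] at hl ⊢
        linear_combination hl
      rw [h1]
      exact ((-(1 + (A + a * B)) / C : K)).2
    rw [hC, map_zero, zero_mul, add_zero, ← map_one (algebraMap K Ω), ← map_add,
      map_eq_zero_iff _ (algebraMap K Ω).injective] at hl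
    have hB0 : B ≠ 0 := fun hB0 => by
      rw [hB0, mul_zero, add_zero] at hl
      exact hKP (eq_neg_of_add_eq_zero_right hl ▸ hA)
    have h2 : -a = (1 + A) * B * (B⁻¹ * B⁻¹) := by
      field_simp
      linear_combination -hl
    rw [h2]
    exact ((IsSumSq.one.add hA).mul hB).mul (IsSumSq.mul_self _)
  by_contra hno
  push Not at hno
  have h1 := hsq a hno.1
  have h2 := hsq (-a) hno.2
  rw [neg_neg] at h2
  have ha0 : a ≠ 0 := fun h => hno.1 ⟨0, by rw [h, mul_zero]⟩
  refine hKP ?_
  rw [show (-1 : K) = (-a) * a * (a⁻¹ * a⁻¹) by field_simp]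
  exact (h1.mul h2).mul (IsSumSq.mul_self _)

end Max

theorem isSquare_of_quadratic {K L : Type u} [Field K] [CharZero K] [Field L] [Algebra K L]
    (hpm : ∀ a : K, IsSquare a ∨ IsSquare (-a)) (hnn : ∀ a : K, IsSumSq a → IsSquare a) (i : L) (hi : i * i = -1)
    (a b : K) : IsSquare (algebraMap K L a + algebraMap K L b * i) := by
  obtain ⟨z, hz⟩ : ∃ z, z = algebraMap K L a + algebraMap K L b * i := ⟨_, rfl⟩
  rw [← hz]
  have hi2 : i * i = -1 := hi
  rcases eq_or_ne b 0 with rfl | hb
  · rw [map_zero, zero_mul, add_zero] at hz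
    rcases hpm a with ⟨c, hc⟩ | ⟨c, hc⟩
    · exact ⟨algebraMap K L c, by rw [hz, hc, map_mul]⟩
    · refine ⟨algebraMap K L c * i, ?_⟩
      rw [hz, show a = -(c * c) by linear_combination -hc, map_neg, map_mul]
      linear_combination -(algebraMap K L c * algebraMap K L c) * hi2
  · obtain ⟨c₀, hc₀⟩ := hnn (a * a + b * b) (IsSumSq.sq_add a (IsSumSq.mul_self b))
    -- choose the sign of the root
    obtain ⟨c, hc, x, hx⟩ : ∃ c : K, a * a + b * b = c * c ∧ ∃ x : K, (a + c) / 2 = x * x := by
      rcases hpm ((a + c₀) / 2) with ⟨x, hx⟩ | ⟨x, hx⟩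
      · exact ⟨c₀, hc₀, x, hx⟩
      · have hxne : x ≠ 0 := fun h0 => hb (by
          rw [h0, mul_zero, neg_eq_zero, div_eq_zero_iff] at hx
          have h2 : (2 : K) ≠ 0 := two_ne_zero
          have h3 : a + c₀ = 0 := hx.resolve_right h2
          have h4 : b * b = 0 := by linear_combination hc₀ - (a - c₀) * h3
          exact mul_self_eq_zero.1 h4)
        refine ⟨-c₀, by linear_combination hc₀, b / (2 * x), ?_⟩
        field_simp
        have hx' : -(a + c₀) = 2 * (x * x) := by rw [← hx]; field_simp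
        linear_combination (-(a - c₀)) * hx' - hc₀
    have hx0 : x ≠ 0 := fun h0 => hb (by
      rw [h0, mul_zero, div_eq_zero_iff] at hx
      have h3 : a + c = 0 := hx.resolve_right two_ne_zero
      have h4 : b * b = 0 := by linear_combination hc - (a - c) * h3
      exact mul_self_eq_zero.1 h4)
    refine ⟨algebraMap K L x + algebraMap K L (b / (2 * x)) * i, ?_⟩
    have h5 : a = x * x - b / (2 * x) * (b / (2 * x)) := by
      have hx' : a + c = 2 * (x * x) := by rw [← hx]; field_simp
      field_simp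
      linear_combination (2 * x * x + c - a) * hx' + hc
    have h6 : b = 2 * (x * (b / (2 * x))) := by field_simp
    rw [hz]
    conv_lhs => rw [h5]
    conv_lhs => arg 2; arg 1; rw [h6]
    simp only [map_sub, map_mul, map_ofNat]
    linear_combination -(algebraMap K L (b / (2 * x)) * algebraMap K L (b / (2 * x))) * hi2

/-- A field all whose elements are squares, finite over a field without extensions of odd degree, is separably closed. -/
theorem isSepClosed_of_isSquare (K L : Type u) [Field K] [CharZero K] [Field L] [Algebra K L] [FiniteDimensional K L]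
    (hodd : ∀ (E : Type u) [Field E] [Algebra K E] [FiniteDimensional K E], Odd (Module.finrank K E) →
      Module.finrank K E = 1)
    (hLsq : ∀ z : L, IsSquare z) : IsSepClosed L := by
  haveI : Fact (Nat.Prime 2) := ⟨Nat.prime_two⟩
  let Ω := AlgebraicClosure L
  haveI : IsScalarTower K L Ω := inferInstance
  haveI : CharZero L := charZero_of_injective_algebraMap (algebraMap K L).injective
  haveI : Algebra.IsAlgebraic K Ω := Algebra.IsAlgebraic.trans K L Ω
  haveI : IsAlgClosure K Ω := ⟨inferInstance, inferInstance⟩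
  let Lr := (IsScalarTower.toAlgHom K L Ω).fieldRange
  let eLr : L ≃ₐ[K] Lr := AlgEquiv.ofInjectiveField _
  refine IsSepClosed.of_exists_root L fun p hpm' hirr hsep => ?_
  obtain ⟨z, hz⟩ := IsAlgClosed.exists_aeval_eq_zero Ω p hirr.degree_pos.ne'
  suffices z ∈ Lr by
    obtain ⟨y, hy⟩ := this
    refine ⟨y, (algebraMap L Ω).injective ?_⟩
    rw [map_zero, ← hz, ← show algebraMap L Ω y = z from hy]
    exact (aeval_algebraMap_apply_eq_algebraMap_eval y p).symm
  haveI : IsGalois K Ω := inferInstance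
  haveI : FiniteDimensional K Lr := eLr.toLinearEquiv.finiteDimensional
  let E : IntermediateField K Ω := Lr ⊔ K⟮z⟯
  haveI : FiniteDimensional K K⟮z⟯ := IntermediateField.adjoin.finiteDimensional (Algebra.IsIntegral.isIntegral z)
  let M := IntermediateField.normalClosure K E Ω
  haveI : IsGalois K M := IsGalois.normalClosure K E Ω
  have hEM : E ≤ M := IntermediateField.le_normalClosure E
  obtain ⟨S⟩ := (inferInstance : Nonempty (Sylow 2 (M ≃ₐ[K] M)))
  have hidx : (S : Subgroup (M ≃ₐ[K] M)).index = 1 := by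
    have h1 : Module.finrank K (IntermediateField.fixedField (S : Subgroup (M ≃ₐ[K] M))) =
        (S : Subgroup (M ≃ₐ[K] M)).index := by
      refine (Nat.eq_of_mul_eq_mul_left (Module.finrank_pos
        (R := IntermediateField.fixedField (S : Subgroup (M ≃ₐ[K] M))) (M := M)) ?_).symm
      rw [mul_comm, IntermediateField.finrank_fixedField_eq_card, Subgroup.index_mul_card,
        IsGalois.card_aut_eq_finrank,
        ← Module.finrank_mul_finrank K (IntermediateField.fixedField (S : Subgroup (M ≃ₐ[K] M))) M,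
        IntermediateField.finrank_fixedField_eq_card, mul_comm]
    rw [← h1]
    refine hodd _ ?_
    rw [h1, Nat.odd_iff]
    have := S.not_dvd_index
    omega
  obtain ⟨m, hm⟩ := IsPGroup.iff_card.1 S.isPGroup'
  have hcard : Nat.card (M ≃ₐ[K] M) = 2 ^ m := by
    rw [← (S : Subgroup (M ≃ₐ[K] M)).index_mul_card, hidx, one_mul, hm]
  let L' : IntermediateField K M := (IntermediateField.inclusion (le_sup_left.trans hEM)).fieldRange
  let eL : L ≃ₐ[K] L' := eLr.trans (AlgEquiv.ofInjectiveField _)
  by_contra hzL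
  have hLM : Nat.card L'.fixingSubgroup ≠ 1 := fun h1 => by
    rw [IsGalois.card_fixingSubgroup_eq_finrank] at h1
    have htop : L' = ⊤ := IntermediateField.finrank_eq_one_iff_eq_top.1 h1
    obtain ⟨y, hy⟩ : (⟨z, hEM (le_sup_right (a := Lr) (IntermediateField.mem_adjoin_simple_self K z))⟩ : M) ∈ L' :=
      htop ▸ IntermediateField.mem_top
    exact hzL (by have := congrArg Subtype.val hy; rw [← show (y : Ω) = z from this]; exact y.2)
  obtain ⟨r, -, hr⟩ := (Nat.dvd_prime_pow Nat.prime_two).1 (hcard ▸ L'.fixingSubgroup.card_subgroup_dvd_card)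
  obtain ⟨r, rfl⟩ : ∃ r', r = r' + 1 := ⟨r - 1, by
    rcases r with _ | r
    · exact absurd (hr.trans (pow_zero 2)) hLM
    · rfl⟩
  obtain ⟨H, hH, hHle⟩ : ∃ H : Subgroup (M ≃ₐ[K] M), Nat.card H = 2 ^ r ∧ H ≤ L'.fixingSubgroup := by
    obtain ⟨H₀, hH₀⟩ := Sylow.exists_subgroup_card_pow_prime (G := L'.fixingSubgroup) 2 (n := r)
      (by rw [hr]; exact pow_dvd_pow 2 r.le_succ)
    exact ⟨H₀.map L'.fixingSubgroup.subtype, by
      rw [Subgroup.card_map_of_injective Subtype.val_injective, hH₀], Subgroup.map_subtype_le H₀⟩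
  let E₂ := IntermediateField.fixedField H
  have hLE : L' ≤ E₂ := by
    rw [IntermediateField.le_iff_le]
    exact hHle
  have hEd : Module.finrank K E₂ = 2 * Module.finrank K L' := by
    refine Nat.eq_of_mul_eq_mul_right (pow_pos Nat.two_pos r) ?_
    rw [mul_comm 2, mul_assoc, ← pow_succ', ← hr, IsGalois.card_fixingSubgroup_eq_finrank,
      Module.finrank_mul_finrank, ← hH, ← IntermediateField.finrank_fixedField_eq_card H,
      Module.finrank_mul_finrank]
  obtain ⟨w, hwE, hwL⟩ : ∃ w ∈ E₂, w ∉ L' := by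
    by_contra hno
    push Not at hno
    have heq : E₂ = L' := le_antisymm hno hLE
    rw [heq] at hEd
    have := Module.finrank_pos (R := K) (M := L')
    omega
  have hwd : (minpoly L' w).natDegree ≤ 2 := by
    rw [← IntermediateField.adjoin.finrank (Algebra.IsIntegral.isIntegral w)]
    let E₃ : IntermediateField L' M := IntermediateField.extendScalars hLE
    have h2 : L'⟮w⟯ ≤ E₃ := IntermediateField.adjoin_simple_le_iff.2 hwE
    refine (LinearMap.finrank_le_finrank_of_injective
      (f := (IntermediateField.inclusion h2).toLinearMap) (IntermediateField.inclusion h2).injective).trans (le_of_eq ?_)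
    refine Nat.eq_of_mul_eq_mul_left (Module.finrank_pos (R := K) (M := L')) ?_
    rw [Module.finrank_mul_finrank K L' E₃, mul_comm _ 2]
    exact hEd
  have hw2 : (minpoly L' w).natDegree = 2 := le_antisymm hwd ((minpoly.two_le_natDegree_iff (Algebra.IsIntegral.isIntegral w)).2
    fun ⟨y, hy⟩ => hwL (hy ▸ y.2))
  let u := (minpoly L' w).coeff 1
  let v := (minpoly L' w).coeff 0
  have hquad : w * w + (u : M) * w + (v : M) = 0 := by
    have h1 := minpoly.aeval L' w
    rw [aeval_eq_sum_range, hw2] at h1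
    simp only [Finset.sum_range_succ, Finset.sum_range_zero, Algebra.smul_def] at h1
    have hlead : (minpoly L' w).coeff 2 = 1 := by
      rw [← hw2]
      exact minpoly.monic (Algebra.IsIntegral.isIntegral w)
    rw [hlead, map_one] at h1
    rw [← h1]
    show _ = (0 : M) + (v : M) * w ^ 0 + (u : M) * w ^ 1 + 1 * w ^ 2
    ring
  obtain ⟨e, he⟩ := hLsq (eL.symm (u * u - 4 * v))
  have he' : u * u - 4 * v = eL e * eL e := by rw [← map_mul, ← he, AlgEquiv.apply_symm_apply]
  have he'' : (u : M) * u - 4 * v = (eL e : M) * (eL e : M) := by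
    have := congrArg (fun t : L' => (t : M)) he'
    push_cast at this
    exact this
  have hsplit : (2 * w + (u : M) - (eL e : M)) * (2 * w + (u : M) + (eL e : M)) = 0 := by
    linear_combination 4 * hquad + he''
  refine hwL ?_
  rcases mul_eq_zero.1 hsplit with h7 | h7
  · rw [show w = ((eL e : M) - u) / 2 by field_simp; linear_combination h7]
    exact div_mem (sub_mem (eL e).2 u.2) (ofNat_mem L' 2)
  · rw [show w = (-(eL e : M) - u) / 2 by field_simp; linear_combination h7]
    exact div_mem (sub_mem (neg_mem (eL e).2) u.2) (ofNat_mem L' 2)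

/-- **Orderable fields have infinite `cd₂`.** -/
theorem not_cohDimLEAt_two_of_orderable (F : Type u) [Field F] (hF : ¬ IsSumSq (-1 : F)) (d : ℕ) :
    ¬ Dix.CohDimLEAt (Spec (CommRingCat.of F)) 2 d := by
  intro hd
  haveI : Fact (Nat.Prime 2) := ⟨Nat.prime_two⟩
  haveI : CharZero F := charZero_of_semireal hF
  obtain ⟨K, hKP, hout⟩ := exists_maximal_semireal F hF
  haveI : CharZero K := charZero_of_injective_algebraMap (algebraMap F K).injective
  let Ω := AlgebraicClosure F
  have hpm := isSquare_or_isSquare_neg' hKP hout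
  have hm1 : ¬ IsSquare (-1 : K) := fun h => hKP h.isSumSq
  have hnn : ∀ a : K, IsSumSq a → IsSquare a := fun a ha => by
    rcases hpm a with h | h
    · exact h
    · rcases eq_or_ne a 0 with rfl | ha0
      · exact ⟨0, (mul_zero 0).symm⟩
      · exact absurd (add_neg_cancel a) (isSumSq_add_ne_zero hKP ha h.isSumSq ha0)
  obtain ⟨ι, hι⟩ := IsAlgClosed.exists_pow_nat_eq (-1 : Ω) Nat.zero_lt_two
  have hι2 : ι * ι = -1 := by rw [← pow_two, hι]
  let L := K⟮ι⟯
  have hintι : IsIntegral K ι := Algebra.IsIntegral.isIntegral ι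
  haveI : FiniteDimensional K L := IntermediateField.adjoin.finiteDimensional hintι
  have hιK : ι ∉ K := fun hmem => hm1 ⟨⟨ι, hmem⟩, Subtype.ext hι2.symm⟩
  have hmin : minpoly K ι = X ^ 2 + 1 := by
    refine (minpoly.eq_of_irreducible_of_monic ?_ (by simp [hι]) (by monicity!)).symm
    rw [Polynomial.irreducible_iff_roots_eq_zero_of_degree_le_three (by rw [show (X ^ 2 + 1 : K[X]).natDegree = 2 by compute_degree!]) (by rw [show (X ^ 2 + 1 : K[X]).natDegree = 2 by compute_degree!]; norm_num)]
    refine Multiset.eq_zero_of_forall_notMem fun r hr => hm1 ?_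
    rw [mem_roots'] at hr
    have h1 : r ^ 2 + 1 = 0 := by simpa using hr.2
    exact ⟨r, by linear_combination -h1⟩
  have hmin2 : (minpoly K ι).natDegree = 2 := by rw [hmin]; compute_degree!
  have hL2 : Module.finrank K L = 2 := (IntermediateField.adjoin.finrank hintι).trans hmin2
  haveI : IsSepClosed L := by
    refine isSepClosed_of_isSquare K L (fun E _ _ _ => finrank_eq_one_of_odd hKP hout E) fun z => ?_
    obtain ⟨g, hg⟩ : ∃ g : K[X], aeval ι g = (z : Ω) := by
      have hz : (z : Ω) ∈ Algebra.adjoin K ({ι} : Set Ω) := by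
        rw [← IntermediateField.adjoin_simple_toSubalgebra_of_isAlgebraic hintι.isAlgebraic]
        exact z.2
      rw [Algebra.adjoin_singleton_eq_range_aeval] at hz
      exact hz
    let i : L := ⟨ι, IntermediateField.mem_adjoin_simple_self K ι⟩
    have hdeg : (g %ₘ minpoly K ι).natDegree ≤ 1 := by
      have h1 := natDegree_modByMonic_lt g (minpoly.monic hintι) (minpoly.ne_one K ι)
      rw [hmin2] at h1
      omega
    have hz : z = algebraMap K L ((g %ₘ minpoly K ι).coeff 0) + algebraMap K L ((g %ₘ minpoly K ι).coeff 1) * i := by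
      refine Subtype.ext ?_
      rw [← hg, ← Polynomial.aeval_modByMonic_eq_self_of_root (minpoly.aeval K ι),
        (eq_X_add_C_of_natDegree_le_one hdeg)]
      simp [i]
      ring
    rw [hz]
    exact isSquare_of_quadratic hpm hnn i (Subtype.ext hι2) _ _
  haveI : IsGalois K L := by
    haveI : Algebra.IsQuadraticExtension K L := ⟨hL2⟩
    exact ⟨⟩
  haveI := H9GalCoh.Transfer.etale_str K L
  obtain ⟨σ, hσ⟩ := S7732.powers_of_card (p := 2) ((IsGalois.card_aut_eq_finrank K L).trans hL2)
  have h2 : ((2 : ℕ) : K) ≠ 0 := by exact_mod_cast (two_ne_zero : (2 : K) ≠ 0)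
  let μ := EtCoh.mu (Spec (CommRingCat.of K)) 2
  have hμ : Dix.IsPrimaryTorsion 2 μ := fun U s x => ⟨U, 𝟙 U, ⟨x, rfl⟩, 1, by
    rw [pow_one, op_id, CategoryTheory.Functor.map_id]
    exact S7732.killedBy_mu _ 2 U s⟩
  have hK := cohDimLEAt_algebraic F K hd
  have hdown : ∀ j, Subsingleton (EtCoh.H (Spec (CommRingCat.of K)) μ (1 + 2 * j)) →
      Subsingleton (EtCoh.H (Spec (CommRingCat.of K)) μ 1) := fun j => by
    induction j with
    | zero => exact fun h => by simpa using h
    | succ j ihj =>
      refine fun h => ihj (subsingleton_H_of_cyclic K L hσ μ (1 + 2 * j) (fun r hr => ?_) ?_)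
      · obtain ⟨r', rfl⟩ := Nat.exists_eq_add_of_le' ((Nat.le_add_right 1 (2 * j)).trans hr)
        exact subsingleton_H_over_sepClosed L L _ r'
      · rwa [show 1 + (1 + 2 * j + 1) = 1 + 2 * (j + 1) by ring]
  haveI := hdown d (hK _ hμ _ (by omega))
  obtain ⟨a, ha⟩ := exists_pow_eq_of_H1 K 2 h2 inferInstance (-1)
  exact hm1 ⟨a, by rw [← pow_two, ha]; simp⟩


end Groth.Agent.H05EGA4.EtCl.Lower
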