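import Groth.Agent.H05EGA4.EtCl.Lower.Chain
import Groth.Agent.H05EGA4.EtCl.StrictFibre
import Groth.Agent.H05EGA4.EtCl.FieldTrdeg
import Groth.Agent.H05EGA4.EtCl.Max

/-!
# Minimal primes of the local rings of a scheme, and dimension bounds from cohomological dimension
-/

set_option autoImplicit false
set_option linter.style.haveILetI false
set_option linter.unusedSectionVars false
set_option linter.overlappingInstances false
set_option backward.isDefEq.respectTransparency false
set_option backward.isDefEq.respectTransparency.types false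

universe u

open CategoryTheory AlgebraicGeometry
open scoped Classical

namespace Groth.Agent.H05EGA4.EtCl.Lower

variable {X : Scheme.{u}}

theorem ker_specMap_eq {x y : X} (h : x ⤳ y) :
    RingHom.ker (Cyc.specMap y x h) = (H7CDiv.primeOf h).asIdeal := by
  ext a
  exact IsLocalRing.residue_eq_zero_iff _

/-- The residue field at a generalization is the fraction field of the quotient of the local ring. -/
theorem nonempty_residueField_equiv {x y : X} (h : x ⤳ y) (p : Ideal (X.presheaf.stalk y)) [p.IsPrime]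
    (hp : RingHom.ker (Cyc.specMap y x h) = p) :
    Nonempty (FractionRing (X.presheaf.stalk y ⧸ p) ≃+* X.residueField x) := by
  subst hp
  let A := X.presheaf.stalk y
  let φ := Cyc.specMap y x h
  letI : Algebra A (X.residueField x) := φ.toAlgebra
  let ψ : (RingHom.ker φ).ResidueField →ₐ[A] X.residueField x :=
    Ideal.ResidueField.liftₐ _ (Algebra.ofId _ _) (le_rfl : RingHom.ker φ ≤ RingHom.ker (algebraMap A (X.residueField x)))
      (fun a ha => Ne.isUnit fun h0 => ha h0)
  have hψ : Function.Bijective ψ := by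
    refine ⟨ψ.toRingHom.injective, fun a => ?_⟩
    obtain ⟨s, t, ht, hst⟩ := exists_mul_specMap h a
    refine ⟨algebraMap _ _ s / algebraMap _ _ t, ?_⟩
    rw [map_div₀, AlgHom.commutes, AlgHom.commutes]
    exact (div_eq_iff (b := φ t) fun h0 => ht h0).2 hst.symm
  exact ⟨(IsLocalization.algEquiv (nonZeroDivisors (A ⧸ RingHom.ker φ)) (FractionRing (A ⧸ RingHom.ker φ))
    (RingHom.ker φ).ResidueField).toRingEquiv.trans (RingEquiv.ofBijective ψ.toRingHom hψ)⟩

/-- Minimal primes of local rings come from maximal points. -/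
theorem exists_maxPt_of_minimalPrime (y : X) (p : Ideal (X.presheaf.stalk y))
    (hp : p ∈ minimalPrimes (X.presheaf.stalk y)) :
    ∃ (η : X) (h : η ⤳ y), IsMaxPt η ∧ RingHom.ker (Cyc.specMap y η h) = p := by
  haveI := hp.1.1
  let q : PrimeSpectrum (X.presheaf.stalk y) := ⟨p, inferInstance⟩
  have h := H7CDiv.fromSpecStalk_specializes q
  refine ⟨X.fromSpecStalk y q, h, fun z hz => ?_, ?_⟩
  · have hzy : z ⤳ y := hz.trans h
    have h1 : H7CDiv.primeOf hzy ⤳ q := by
      refine (X.fromSpecStalk y).isEmbedding.isInducing.specializes_iff.1 ?_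
      rw [H7CDiv.fromSpecStalk_primeOf]
      exact hz
    have h2 : H7CDiv.primeOf hzy = q := PrimeSpectrum.ext (le_antisymm
      ((PrimeSpectrum.le_iff_specializes _ _).2 h1)
      (hp.2 ⟨(H7CDiv.primeOf hzy).isPrime, bot_le⟩ ((PrimeSpectrum.le_iff_specializes _ _).2 h1)))
    exact (H7CDiv.fromSpecStalk_primeOf hzy).symm.trans (congrArg (X.fromSpecStalk y) h2)
  · rw [ker_specMap_eq]
    exact congrArg PrimeSpectrum.asIdeal (H7CDiv.primeOf_fromSpecStalk q h)

/-- The dimension is the maximum over the minimal primes. -/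
theorem exists_minimalPrime_dim (A : Type u) [CommRing A] [IsLocalRing A] [IsNoetherianRing A] {m : ℕ}
    (hm : ringKrullDim A = m) :
    ∃ P ∈ minimalPrimes A, ∃ _ : P.IsPrime, ringKrullDim (A ⧸ P) = (m : ℕ) := by
  obtain ⟨c, hc⟩ : ∃ c : LTSeries (PrimeSpectrum A), c.length = m := Order.le_krullDim_iff.1 hm.ge
  obtain ⟨P, hP, hPle⟩ := Ideal.exists_minimalPrimes_le (bot_le : ⊥ ≤ (c 0).asIdeal)
  haveI := hP.1.1
  refine ⟨P, hP, inferInstance, le_antisymm ?_ ?_⟩
  · exact (ringKrullDim_le_of_surjective _ Ideal.Quotient.mk_surjective).trans hm.le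
  · have hle : ∀ i, P ≤ (c i).asIdeal := fun i => hPle.trans (c.monotone (Fin.zero_le i))
    let q : Fin (c.length + 1) → PrimeSpectrum (A ⧸ P) := fun i =>
      ⟨(c i).asIdeal.map (Ideal.Quotient.mk P),
        Ideal.map_isPrime_of_surjective Ideal.Quotient.mk_surjective (by rw [Ideal.mk_ker]; exact hle i)⟩
    have hback : ∀ i, (q i).asIdeal.comap (Ideal.Quotient.mk P) = (c i).asIdeal := fun i => by
      show ((c i).asIdeal.map (Ideal.Quotient.mk P)).comap _ = _
      rw [Ideal.comap_map_of_surjective _ Ideal.Quotient.mk_surjective, ← RingHom.ker_eq_comap_bot, Ideal.mk_ker,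
        sup_eq_left.2 (hle i)]
    have hq : StrictMono q := fun i j hij => by
      have h1 : c i < c j := c.strictMono hij
      refine (PrimeSpectrum.asIdeal_lt_asIdeal _ _).1 (lt_of_le_of_ne (Ideal.map_mono h1.le) fun h2 => h1.ne ?_)
      exact PrimeSpectrum.ext ((hback i).symm.trans ((congrArg (Ideal.comap (Ideal.Quotient.mk P)) h2).trans (hback j)))
    rw [← hc]
    exact Order.LTSeries.length_le_krullDim (LTSeries.mk c.length q hq)

/-- **Lower bound for local rings.** -/
theorem le_and_exists_residue (A : Type u) [CommRing A] [IsLocalRing A] [IsNoetherianRing A] {ℓ : ℕ} [Fact ℓ.Prime]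
    (hℓ : IsUnit (ℓ : A)) (d : ℕ)
    (hd : ∀ P ∈ minimalPrimes A, Dix.CohDimLEAt (Spec (CommRingCat.of (FractionRing (A ⧸ P)))) ℓ d) {m : ℕ}
    (hm : ringKrullDim A = m) :
    m ≤ d ∧ ∃ (L : Type u) (_ : Field L) (_ : Algebra (IsLocalRing.ResidueField A) L)
      (_ : FiniteDimensional (IsLocalRing.ResidueField A) L), Dix.CohDimLEAt (Spec (CommRingCat.of L)) ℓ (d - m) := by
  obtain ⟨P, hP, _, hdim⟩ := exists_minimalPrime_dim A hm
  haveI : IsLocalRing (A ⧸ P) := IsLocalRing.of_surjective' (Ideal.Quotient.mk P) Ideal.Quotient.mk_surjective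
  have hℓP : IsUnit (ℓ : A ⧸ P) := by
    rw [← map_natCast (Ideal.Quotient.mk P)]
    exact hℓ.map _
  obtain ⟨h1, L, _, _, hfin, hL⟩ := exists_cohDimLEAt_residue m (A ⧸ P) hdim hℓP (FractionRing (A ⧸ P)) d (hd P hP)
  haveI : IsLocalHom (Ideal.Quotient.mk P) := IsLocalHom.of_surjective _ Ideal.Quotient.mk_surjective
  let ψ : IsLocalRing.ResidueField A →+* IsLocalRing.ResidueField (A ⧸ P) :=
    IsLocalRing.ResidueField.map (Ideal.Quotient.mk P)
  have hψ : Function.Surjective ψ := fun y => by
    obtain ⟨v, rfl⟩ := IsLocalRing.residue_surjective y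
    obtain ⟨b, rfl⟩ := Ideal.Quotient.mk_surjective v
    exact ⟨IsLocalRing.residue A b, IsLocalRing.ResidueField.map_residue (Ideal.Quotient.mk P) b⟩
  let χ : IsLocalRing.ResidueField A →+* L := (algebraMap (IsLocalRing.ResidueField (A ⧸ P)) L).comp ψ
  have hχ : χ.Finite := (RingHom.finite_algebraMap.2 hfin).comp (RingHom.Finite.of_surjective ψ hψ)
  exact ⟨h1, L, inferInstance, χ.toAlgebra, hχ, hL⟩

end Groth.Agent.H05EGA4.EtCl.Lower
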