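import Groth.Agent.H05EGA4.EtCl.Lower.LocalBound
import Groth.Agent.S0541

/-!
# The bound `cd ≤ dim` at the minimal primes of strict henselizations
-/

set_option autoImplicit false
set_option linter.style.haveILetI false
set_option linter.unusedSectionVars false
set_option linter.overlappingInstances false
set_option backward.isDefEq.respectTransparency false
set_option backward.isDefEq.respectTransparency.types false

universe u

open CategoryTheory CategoryTheory.Limits AlgebraicGeometry Opposite
open scoped Classical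

namespace Groth.Agent.H05EGA4.EtCl.Lower

open scoped Groth.Agent.H18Et

theorem height_le_height_comap {B : Type u} [CommRing B] (η : Ideal B) (q : Ideal (B ⧸ η)) [q.IsPrime] :
    q.height ≤ (q.comap (Ideal.Quotient.mk η)).height := by
  rw [show q.height = Order.height (⟨q, inferInstance⟩ : PrimeSpectrum (B ⧸ η)) from PrimeSpectrum.height_eq_orderHeight ⟨q, inferInstance⟩,
    show (q.comap (Ideal.Quotient.mk η)).height = Order.height (PrimeSpectrum.comap (Ideal.Quotient.mk η) ⟨q, inferInstance⟩) from
      PrimeSpectrum.height_eq_orderHeight (PrimeSpectrum.comap (Ideal.Quotient.mk η) ⟨q, inferInstance⟩)]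
  exact Order.height_le_height_apply_of_strictMono (fun a : PrimeSpectrum (B ⧸ η) => PrimeSpectrum.comap (Ideal.Quotient.mk η) a)
    (fun a c h => lt_of_le_of_ne (Ideal.comap_mono h.le) fun e => h.ne (PrimeSpectrum.comap_injective_of_surjective _ Ideal.Quotient.mk_surjective e))
    ⟨q, inferInstance⟩

/-- Minimal primes of a strict henselization of an algebra of finite type over a discrete valuation ring. -/
theorem cohDimLEAt_minimalPrime_dvr (V : Type u) [CommRing V] [IsDomain V] [IsDiscreteValuationRing V]
    {ℓ : ℕ} [Fact ℓ.Prime] (hℓV : IsUnit (ℓ : V))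
    (B : Type u) [CommRing B] [Algebra V B] [Algebra.FiniteType V B] (x : Ideal B) [x.IsPrime]
    (A : Type u) [CommRing A] [IsLocalRing A] [IsNoetherianRing A] [Algebra B A] [IsLocalization.AtPrime A x]
    (R : Type u) [CommRing R] [IsLocalRing R] [Algebra A R] [IsLocalHom (algebraMap A R)]
    [Hensel.IsStrictHenselization A R] (P : Ideal R) [P.IsPrime] (hP : P ∈ minimalPrimes R)
    {n : ℕ} (hn : ringKrullDim A ≤ n) :
    Dix.CohDimLEAt (Spec (CommRingCat.of (FractionRing (R ⧸ P)))) ℓ n := by
  letI : Algebra B R := ((algebraMap A R).comp (algebraMap B A)).toAlgebra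
  haveI : IsScalarTower B A R := IsScalarTower.of_algebraMap_eq' rfl
  let L := FractionRing (R ⧸ P)
  let p := P.comap (algebraMap A R)
  have hp : P ∈ (p.map (algebraMap A R)).minimalPrimes :=
    ⟨⟨inferInstance, Ideal.map_comap_le⟩, fun Q hQ hle => hP.2 ⟨hQ.1, bot_le⟩ hle⟩
  let η := p.comap (algebraMap B A)
  haveI : Nontrivial (R ⧸ P) := Ideal.Quotient.nontrivial_iff.2 (Ideal.IsPrime.ne_top inferInstance)
  haveI := (inferInstance : Hensel.IsStrictHenselization A R).henselian
  have hsurj : Function.Surjective (algebraMap R (R ⧸ P)) := Ideal.Quotient.mk_surjective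
  haveI : IsLocalRing (R ⧸ P) := IsLocalRing.of_surjective' _ hsurj
  haveI : IsLocalHom (algebraMap R (R ⧸ P)) := IsLocalHom.of_surjective _ hsurj
  haveI : Algebra.IsIntegral R (R ⧸ P) := ⟨fun r => RingHom.isIntegral_of_surjective _ hsurj r⟩
  obtain ⟨hH, halgres⟩ := H9Hens.henselian_of_isIntegral (R := R) (T := R ⧸ P)
  haveI := hH
  haveI := halgres
  haveI : IsSepClosed (IsLocalRing.ResidueField R) :=
    (inferInstance : Hensel.IsStrictHenselization A R).isSepClosure.1
  haveI : IsSepClosed (IsLocalRing.ResidueField (R ⧸ P)) :=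
    H9Hens.isSepClosed_of_isAlgebraic (IsLocalRing.ResidueField R)
  -- the base
  let p₀ := η.comap (algebraMap V B)
  let W := V ⧸ p₀
  haveI : Nontrivial W := Ideal.Quotient.nontrivial_iff.2 (Ideal.IsPrime.ne_top inferInstance)
  haveI : IsLocalRing W := IsLocalRing.of_surjective' (Ideal.Quotient.mk p₀) Ideal.Quotient.mk_surjective
  haveI : IsDomain W := Ideal.Quotient.isDomain p₀
  have hW : IsField W ∨ IsDiscreteValuationRing W := by
    by_cases h : p₀ = ⊥
    · exact Or.inr (IsDiscreteValuationRing.RingEquivClass.isDiscreteValuationRing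
        ((RingEquiv.quotientBot V).symm.trans (Ideal.quotEquivOfEq h.symm)))
    · haveI : p₀.IsMaximal := IsPrime.to_maximal_ideal h
      exact Or.inl ((Ideal.Quotient.maximal_ideal_iff_isField_quotient p₀).1 inferInstance)
  have hℓW : IsUnit (ℓ : W) := by
    rw [← map_natCast (Ideal.Quotient.mk p₀)]
    exact hℓV.map _
  let S := B ⧸ η
  letI : Algebra W S := (Ideal.quotientMap η (algebraMap V B) le_rfl).toAlgebra
  haveI : IsScalarTower V W S := IsScalarTower.of_algebraMap_eq fun v => rfl
  haveI : Algebra.FiniteType V S := Algebra.FiniteType.trans (R := V) (S := B) inferInstance inferInstance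
  haveI : Algebra.FiniteType W S := Algebra.FiniteType.of_restrictScalars_finiteType V W S
  haveI : FaithfulSMul W S := (faithfulSMul_iff_algebraMap_injective W S).2
    (Ideal.quotientMap_injective' le_rfl)
  haveI : IsNoetherianRing W := inferInstance
  -- the map to the quotient of the strict henselization
  let σ : S →+* R ⧸ P := Ideal.Quotient.lift η ((Ideal.Quotient.mk P).comp (algebraMap B R))
    fun a ha => Ideal.Quotient.eq_zero_iff_mem.2 ha
  have hσ : Function.Injective σ := by
    rw [injective_iff_map_eq_zero]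
    intro a ha
    obtain ⟨a, rfl⟩ := Ideal.Quotient.mk_surjective a
    exact Ideal.Quotient.eq_zero_iff_mem.2 (Ideal.Quotient.eq_zero_iff_mem.1 ha : algebraMap B R a ∈ P)
  letI : Algebra S (R ⧸ P) := σ.toAlgebra
  letI : Algebra W (R ⧸ P) := (σ.comp (algebraMap W S)).toAlgebra
  haveI : IsScalarTower W S (R ⧸ P) := IsScalarTower.of_algebraMap_eq' rfl
  haveI : IsScalarTower S (R ⧸ P) L := inferInstance
  -- algebraicity
  haveI : Algebra.IsAlgebraic S L := by
    obtain ⟨χ, hχ⟩ := isAlgebraic_minimalPrime p P hp
    let F := IntermediateField.adjoin (Subfield.closure (Set.range (algebraMap S L))) (∅ : Set L)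
    have hgen : ∀ z : p.ResidueField, ∃ b c : S, algebraMap S L c ≠ 0 ∧ χ z * algebraMap S L c = algebraMap S L b :=
      fun z => by
      obtain ⟨u, v, hv, rfl⟩ := IsFractionRing.div_surjective (A ⧸ p) z
      obtain ⟨u, rfl⟩ := Ideal.Quotient.mk_surjective u
      obtain ⟨v, rfl⟩ := Ideal.Quotient.mk_surjective v
      obtain ⟨⟨b₁, s₁⟩, h₁⟩ := IsLocalization.surj x.primeCompl u
      obtain ⟨⟨b₂, s₂⟩, h₂⟩ := IsLocalization.surj x.primeCompl v
      have key : ∀ a : A, χ (algebraMap (A ⧸ p) p.ResidueField (Ideal.Quotient.mk p a)) = algebraMap A L a := fun a => by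
        rw [← Ideal.Quotient.algebraMap_eq, ← IsScalarTower.algebraMap_apply]
        exact χ.commutes a
      have keyS : ∀ b : B, algebraMap S L (Ideal.Quotient.mk η b) = algebraMap A L (algebraMap B A b) := fun b => by
        rw [IsScalarTower.algebraMap_apply A (R ⧸ P) L, IsScalarTower.algebraMap_apply A R (R ⧸ P)]
        rfl
      have hu1 : ∀ s : x.primeCompl, algebraMap A L (algebraMap B A s) ≠ 0 := fun s =>
        (((IsLocalization.map_units A s).map (algebraMap A L))).ne_zero
      have hv0 : algebraMap A L v ≠ 0 := by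
        rw [← key]
        exact (_root_.map_ne_zero χ).2 (IsFractionRing.to_map_ne_zero_of_mem_nonZeroDivisors hv)
      have h₁' := congrArg (algebraMap A L) h₁
      have h₂' := congrArg (algebraMap A L) h₂
      rw [map_mul] at h₁' h₂'
      refine ⟨Ideal.Quotient.mk η (b₁ * s₂), Ideal.Quotient.mk η (b₂ * s₁), ?_, ?_⟩
      · rw [keyS, map_mul, map_mul, ← h₂']
        exact mul_ne_zero (mul_ne_zero hv0 (hu1 s₂)) (hu1 s₁)
      · rw [map_div₀, key, key, keyS, keyS, map_mul, map_mul, map_mul, map_mul, ← h₁', ← h₂']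
        field_simp
    haveI : FaithfulSMul S L := (faithfulSMul_iff_algebraMap_injective S L).2
      ((IsFractionRing.injective (R ⧸ P) L).comp hσ)
    have hres : ∀ z : p.ResidueField, IsAlgebraic S (χ z) := fun z => by
      obtain ⟨b, c, hc, h⟩ := hgen z
      refine ⟨Polynomial.C c * Polynomial.X - Polynomial.C b, fun h0 => hc ?_, ?_⟩
      · have h1 := congrArg (fun Q => Polynomial.coeff Q 1) h0
        simp [Polynomial.coeff_C_mul, Polynomial.coeff_C] at h1
        rw [h1, map_zero]
      · rw [Polynomial.aeval_sub, Polynomial.aeval_C, map_mul, Polynomial.aeval_C, Polynomial.aeval_X, mul_comm, h, sub_self]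
    refine ⟨fun w => ?_⟩
    obtain ⟨f, hfm, hf⟩ := hχ w
    haveI : Algebra.IsAlgebraic S (Subalgebra.algebraicClosure S L) :=
      ⟨fun t => Subtype.prop t |> fun h => (isAlgebraic_algHom_iff (Subalgebra.val _) Subtype.val_injective).1 h⟩
    obtain ⟨g, hg⟩ := (Polynomial.mem_lifts (f.map χ.toRingHom)).1 ((Polynomial.lifts_iff_coeff_lifts _).2 fun i =>
      ⟨(⟨χ (f.coeff i), hres _⟩ : Subalgebra.algebraicClosure S L), by rw [Polynomial.coeff_map]; rfl⟩ :
      f.map χ.toRingHom ∈ Polynomial.lifts (algebraMap (Subalgebra.algebraicClosure S L) L))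
    have hw : IsAlgebraic (Subalgebra.algebraicClosure S L) w := ⟨g, fun h0 => by
      rw [h0, Polynomial.map_zero] at hg
      exact (hfm.map χ.toRingHom).ne_zero hg.symm, by
        rw [← Polynomial.eval_map_algebraMap, hg, Polynomial.eval_map]
        exact hf⟩
    exact hw.restrictScalars S
  -- the height
  haveI : IsNoetherianRing B := Algebra.FiniteType.isNoetherianRing V B
  let q : Ideal S := (IsLocalRing.maximalIdeal (R ⧸ P)).comap (algebraMap S (R ⧸ P))
  have hqx : q.comap (Ideal.Quotient.mk η) = x := by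
    show ((IsLocalRing.maximalIdeal (R ⧸ P)).comap (Ideal.Quotient.mk P)).comap (algebraMap B R) = x
    rw [show (IsLocalRing.maximalIdeal (R ⧸ P)).comap (Ideal.Quotient.mk P) = IsLocalRing.maximalIdeal R from
      Ideal.ext fun a => not_congr (isUnit_map_iff (algebraMap R (R ⧸ P)) a)]
    show ((IsLocalRing.maximalIdeal R).comap (algebraMap A R)).comap (algebraMap B A) = x
    rw [show (IsLocalRing.maximalIdeal R).comap (algebraMap A R) = IsLocalRing.maximalIdeal A from
      Ideal.ext fun a => not_congr (isUnit_map_iff (algebraMap A R) a)]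
    exact IsLocalization.AtPrime.comap_maximalIdeal A x
  haveI : q.IsPrime := Ideal.IsPrime.comap _
  have hq : q.height ≤ n := by
    have h1 : q.height ≤ x.height := by
      rw [← hqx]
      exact height_le_height_comap η q
    rw [IsLocalization.AtPrime.ringKrullDim_eq_height x A] at hn
    exact h1.trans (by exact_mod_cast hn)
  exact cohDimLEAt_le_height (W := W) (S := S) L hW hℓW hσ q rfl hq

end Groth.Agent.H05EGA4.EtCl.Lower
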